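import Groth.Agent.Lib.Lead.FF.FlatLim
import Groth.Agent.Lib.Helper1.LocalCriterion4
import Groth.Agent.Lib.Helper9.Misc.PFD3
import Groth.Agent.Lib.Helper3.ArtFlat.Fam2
import Groth.Agent.H4.RPC27
import Groth.Agent.Lib.Lead.FPExt.Quot
import Groth.Agent.Lib.Lead.QC.UnitIso

/-! # Flatness of a proper scheme over a complete local ring from flatness modulo `m^n` (S11762) -/

set_option autoImplicit false
universe u
open CategoryTheory CategoryTheory.Limits AlgebraicGeometry TopologicalSpace Opposite TensorProduct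

namespace Groth.Agent.LD.FF.FlatAdic

open Groth.Agent.LD.QC

/-- flatness of `R' ⊗ M` over a quotient `R'` of `R`, rewritten with the quotient ring `R ⧸ J`. -/
theorem flat_quot_tensor_of_surjective {R R' M : Type*} [CommRing R] [CommRing R'] [Algebra R R']
    [AddCommGroup M] [Module R M] (hs : Function.Surjective (algebraMap R R')) (J : Ideal R)
    (hJ : RingHom.ker (algebraMap R R') = J) (h : Module.Flat R' (R' ⊗[R] M)) :
    Module.Flat (R ⧸ J) ((R ⧸ J) ⊗[R] M) := by
  subst hJ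
  let e : (R ⧸ RingHom.ker (algebraMap R R')) ≃+* R' := RingHom.quotientKerEquivOfSurjective hs
  letI : Algebra R' (R ⧸ RingHom.ker (algebraMap R R')) := e.symm.toRingHom.toAlgebra
  haveI : IsScalarTower R R' (R ⧸ RingHom.ker (algebraMap R R')) :=
    .of_algebraMap_eq (fun r => by
      change Ideal.Quotient.mk _ r = e.symm (algebraMap R R' r)
      rw [RingEquiv.eq_symm_apply]
      exact RingHom.quotientKerEquivOfSurjective_apply_mk hs r)
  exact Module.Flat.of_linearEquiv
    (TensorProduct.AlgebraTensorModule.cancelBaseChange R R'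
      (R ⧸ RingHom.ker (algebraMap R R')) (R ⧸ RingHom.ker (algebraMap R R')) M).symm

section Spec

variable (A : Type u) [CommRing A]

/-- `Γ(Spec A, ⊤) ≃ A`. -/
noncomputable abbrev eΓ : Γ(Spec (CommRingCat.of A), ⊤) ≃+* A :=
  (Scheme.ΓSpecIso (CommRingCat.of A)).commRingCatIsoToRingEquiv

/-- the closed immersion `Spec (A/J) ⟶ Spec A`. -/
noncomputable abbrev gQ (J : Ideal A) : Spec (CommRingCat.of (A ⧸ J)) ⟶ Spec (CommRingCat.of A) :=
  Spec.map (CommRingCat.ofHom (Ideal.Quotient.mk J))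

lemma eΓ_appLE (J : Ideal A) (e : (⊤ : (Spec (CommRingCat.of (A ⧸ J))).Opens) ≤ gQ A J ⁻¹ᵁ ⊤)
    (r : Γ(Spec (CommRingCat.of A), ⊤)) :
    eΓ (A ⧸ J) ((gQ A J).appLE ⊤ ⊤ e r) = Ideal.Quotient.mk J (eΓ A r) := by
  have h1 : (gQ A J).appLE ⊤ ⊤ e = (gQ A J).appTop := Scheme.Hom.appLE_eq_app (gQ A J)
  rw [h1]
  have h2 := congr($(Scheme.ΓSpecIso_naturality (CommRingCat.ofHom (Ideal.Quotient.mk J))).hom r)
  exact h2

lemma surjective_appLE (J : Ideal A)
    (e : (⊤ : (Spec (CommRingCat.of (A ⧸ J))).Opens) ≤ gQ A J ⁻¹ᵁ ⊤) :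
    Function.Surjective ((gQ A J).appLE ⊤ ⊤ e).hom := by
  intro s
  obtain ⟨a, ha⟩ := Ideal.Quotient.mk_surjective (eΓ (A ⧸ J) s)
  refine ⟨(eΓ A).symm a, (eΓ (A ⧸ J)).injective ?_⟩
  rw [eΓ_appLE, RingEquiv.apply_symm_apply, ha]

lemma ker_appLE (J : Ideal A)
    (e : (⊤ : (Spec (CommRingCat.of (A ⧸ J))).Opens) ≤ gQ A J ⁻¹ᵁ ⊤) :
    RingHom.ker ((gQ A J).appLE ⊤ ⊤ e).hom = J.map (eΓ A).symm := by
  rw [Ideal.map_symm]
  ext r
  rw [RingHom.mem_ker, Ideal.mem_comap, ← Ideal.Quotient.eq_zero_iff_mem, ← eΓ_appLE A J e r]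
  exact ⟨fun h => by rw [h, map_zero], fun h => (eΓ (A ⧸ J)).injective (by rw [h, map_zero])⟩

end Spec

section Main

variable (A : Type u) [CommRing A] [IsLocalRing A] [IsNoetherianRing A]
  {X : Scheme.{u}} (f : X ⟶ Spec (CommRingCat.of A))

/-- flatness at the points of the closed fibre, from flatness of all infinitesimal
neighbourhoods (local criterion of flatness). -/
theorem isFlatOverAt_of_closedFibre [LocallyOfFiniteType f]
    (hflat : ∀ n : ℕ, Flat (pullback.snd f (gQ A ((IsLocalRing.maximalIdeal A) ^ (n + 1)))))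
    (x : X) (hx0 : f x = IsLocalRing.closedPoint A) :
    FlatMod.IsFlatOverAt f (Coh.structureModule X) x := by
  haveI : IsLocallyNoetherian X := LocallyOfFiniteType.isLocallyNoetherian f
  obtain ⟨_, ⟨U, hU, rfl⟩, hxU, -⟩ :=
    X.isBasis_affineOpens.exists_subset_of_mem_open (Set.mem_univ x) isOpen_univ
  have hV : IsAffineOpen (⊤ : (Spec (CommRingCat.of A)).Opens) := isAffineOpen_top _
  have hUV : U ≤ f ⁻¹ᵁ ⊤ := fun _ _ => trivial
  letI := Groth.Agent.H1.SchFlat.algΓ f hUV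
  letI := sectionsModuleOver f (Coh.structureModule X) hUV
  haveI := Groth.Agent.H1.SchFlat.isScalarTower_sections f (Coh.structureModule X) hUV
  refine (Groth.Agent.H1.SchFlat.isFlatOverAt_iff_flat_localizedModule f (Coh.structureModule X)
    hU hV hUV x hxU).mpr ?_
  haveI : IsNoetherianRing Γ(Spec (CommRingCat.of A), ⊤) :=
    isNoetherianRing_of_ringEquiv A (eΓ A).symm
  haveI : IsNoetherianRing Γ(X, U) := IsLocallyNoetherian.component_noetherian ⟨U, hU⟩
  haveI : Module.FinitePresentation Γ(X, U) Γ(Coh.structureModule X, U) :=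
    finitePresentation_sections_of_isFinitePresentation (Coh.structureModule X)
      (Groth.Agent.LD.FPExt.isFinitePresentation_unitMod X) hU
  let m := IsLocalRing.maximalIdeal A
  let I : Ideal Γ(Spec (CommRingCat.of A), ⊤) := m.map (eΓ A).symm
  refine Groth.Agent.H1.flat_localizedModule_of_forall_flat_quotient_pow
    (A := Γ(Spec (CommRingCat.of A), ⊤)) (S := Γ(X, U)) (M := Γ(Coh.structureModule X, U)) I ?_
    (hU.primeIdealOf ⟨x, hxU⟩).asIdeal ?_
  · -- flatness of the truncations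
    intro n hn
    obtain ⟨k, rfl⟩ : ∃ k, n = k + 1 := ⟨n - 1, by omega⟩
    let g := gQ A (m ^ (k + 1))
    haveI : Flat (pullback.snd f g) := hflat k
    have hV' : IsAffineOpen (⊤ : (Spec (CommRingCat.of (A ⧸ m ^ (k + 1)))).Opens) :=
      isAffineOpen_top _
    have hV'V : (⊤ : (Spec (CommRingCat.of (A ⧸ m ^ (k + 1)))).Opens) ≤ g ⁻¹ᵁ ⊤ :=
      fun _ _ => trivial
    have hfl : FlatMod.IsFlatOver (pullback.snd f g) (Coh.structureModule (pullback f g)) :=
      (Groth.Agent.H4.RPC27.isFlatOver_structureModule_iff (f := pullback.snd f g)).mpr inferInstance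
    have h1 := (flat_tensor_iff_isFlatOverAt f (pullback.snd f g) (pullback.fst f g) g
      (IsPullback.of_hasPullback f g) (Coh.structureModule X) hV'V hUV hV hV' hU).mpr
      (fun x' _ => Groth.Agent.H3.ArtFlat.isFlatOverAt_of_iso (pullback.snd f g)
        (pullbackUnitIso (pullback.fst f g)).symm x' (hfl x'))
    letI : Algebra Γ(Spec (CommRingCat.of A), ⊤) Γ(Spec (CommRingCat.of (A ⧸ m ^ (k + 1))), ⊤) :=
      (g.appLE ⊤ ⊤ hV'V).hom.toAlgebra
    have h2 := flat_quot_tensor_of_surjective (R := Γ(Spec (CommRingCat.of A), ⊤))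
      (R' := Γ(Spec (CommRingCat.of (A ⧸ m ^ (k + 1))), ⊤))
      (M := Γ(Coh.structureModule X, U)) (surjective_appLE A (m ^ (k + 1)) hV'V)
      (I ^ (k + 1)) (by
        change RingHom.ker (g.appLE ⊤ ⊤ hV'V).hom = I ^ (k + 1)
        rw [ker_appLE, Ideal.map_pow]) h1
    exact h2
  · -- the prime of `x` contains the extension of `I`
    rw [Ideal.map_le_iff_le_comap, Ideal.map_le_iff_le_comap]
    intro a ha
    rw [Ideal.mem_comap, Ideal.mem_comap]
    by_contra hnot
    have hx1 : x ∈ X.basicOpen (f.appLE ⊤ U hUV ((eΓ A).symm a)) :=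
      Groth.Agent.H1.SchFlat.mem_basicOpen_of_notMem hU x hxU _ hnot
    rw [Scheme.basicOpen_appLE] at hx1
    have hx2 : f x ∈ (Spec (CommRingCat.of A)).basicOpen ((eΓ A).symm a) := hx1.2
    have hx3 : (Spec (CommRingCat.of A)).basicOpen ((eΓ A).symm a) = PrimeSpectrum.basicOpen a :=
      basicOpen_eq_of_affine (R := CommRingCat.of A) a
    rw [hx3, hx0] at hx2
    exact hx2 ha

/-- **S11762**. -/
theorem s11762 [IsProper f]
    (hflat : ∀ n : ℕ, Flat (pullback.snd f
      (Spec.map (CommRingCat.ofHom (Ideal.Quotient.mk ((IsLocalRing.maximalIdeal A) ^ (n + 1))))))) :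
    Flat f := by
  haveI : LocallyOfFinitePresentation f := Groth.Agent.H9.PFD.lofp f
  rw [← Groth.Agent.H4.RPC27.isFlatOver_structureModule_iff]
  have hW : IsOpen {x : X | FlatMod.IsFlatOverAt f (Coh.structureModule X) x} :=
    Groth.Agent.H1.SchFlat.isOpen_setOf_isFlatOverAt f (Coh.structureModule X)
      (Groth.Agent.LD.FPExt.isFinitePresentation_unitMod X)
  intro z
  by_contra hz
  have hcl : IsClosed (f '' {x : X | FlatMod.IsFlatOverAt f (Coh.structureModule X) x}ᶜ) :=
    f.isClosedMap _ hW.isClosed_compl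
  have hmem : f z ∈ f '' {x : X | FlatMod.IsFlatOverAt f (Coh.structureModule X) x}ᶜ :=
    ⟨z, hz, rfl⟩
  have hsp : f z ⤳ IsLocalRing.closedPoint A := IsLocalRing.specializes_closedPoint (f z)
  obtain ⟨z', hz', hfz'⟩ := hsp.mem_closed hcl hmem
  exact hz' (isFlatOverAt_of_closedFibre A f hflat z' hfz')

end Main

end Groth.Agent.LD.FF.FlatAdic
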