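import Groth.Agent.Lib.Lead.FF.LES

/-! # The uniform Mittag-Leffler property of `(H^p(X, F/I^(n+1)F))_n` -/

universe u
open CategoryTheory Limits Opposite TopologicalSpace AlgebraicGeometry

namespace Groth.Agent.LD.FF

variable {A : Type u} [CommRing A] {X : Scheme.{u}} [X.Over (Spec (CommRingCat.of A))]

open Abelian in
lemma HHmap_f_δ {S : ShortComplex X.Modules} (hS : S.ShortExact) (i : ℕ)
    (x : Coh.HH X S.X₃ i) : CL.HHmap A S.f (i + 1) (CL.HHδ hS A i x) = 0 := by
  change (x.comp (SC.shortExact_toSheaf hS).extClass rfl).comp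
    (Ext.mk₀ ((SheafOfModules.toSheaf X.ringCatSheaf).map S.f)) (add_zero (i + 1)) = 0
  rw [Ext.comp_assoc _ _ _ rfl (add_zero 1) (show i + 1 + 0 = i + 1 by omega)]
  have h := (SC.shortExact_toSheaf hS).extClass_comp
  exact (congrArg (fun e => Ext.comp x e (show i + 1 = i + 1 from rfl)) h).trans
    (Ext.comp_zero _ _ _ _ _)

section comp
variable (I : Ideal A) (M : X.Modules)

/-- the projection to the `k`-th term of the completion system. -/
noncomputable def πc (k : ℕ) : M ⟶ (Formal.completion I M).obj (op k) :=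
  Formal.modPowπ I (k + 1) M

lemma πc_map {n k : ℕ} (h : n ≤ k) :
    πc I M k ≫ (Formal.completion I M).map (homOfLE h).op = πc I M n := by
  induction k, h using Nat.le_induction with
  | base =>
    have : (homOfLE (le_refl n)).op = 𝟙 (op n) := Subsingleton.elim _ _
    rw [this, CategoryTheory.Functor.map_id, Category.comp_id]
  | succ k hk ih =>
    have : (homOfLE (hk.trans (Nat.le_succ k))).op =
        (homOfLE (Nat.le_add_right k 1)).op ≫ (homOfLE hk).op := Subsingleton.elim _ _
    rw [this, CategoryTheory.Functor.map_comp]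
    have h2 : (Formal.completion I M).map (homOfLE (Nat.le_add_right k 1)).op =
        Formal.modPowTrans I (k + 1) M := by
      unfold Formal.completion
      exact Functor.ofOpSequence_map_homOfLE_succ _ k
    have h3 : πc I M (k + 1) ≫ (Formal.completion I M).map (homOfLE (Nat.le_add_right k 1)).op =
        πc I M k := by
      rw [h2]
      exact Formal.modPowπ_trans I (k + 1) M
    rw [← Category.assoc, h3, ih]

lemma π_completion_map {n k : ℕ} (h : n ≤ k) :
    Formal.modPowπ I (k + 1) M ≫ (Formal.completion I M).map (homOfLE h).op =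
      Formal.modPowπ I (n + 1) M := πc_map I M h

end comp

variable [IsNoetherianRing A] (hN : NoethHyp.{u}) [IsLocallyNoetherian X] [CompactSpace X]
  (hfin : FinHyp X A) (I : Ideal A) (F : X.Modules) (hF : Coh.IsCoh F) (p : ℕ)

include hN hfin hF in
/-- the uniform Mittag-Leffler property, abstract form. -/
theorem range_eq_range_toHHmodPow_aux : ∃ c : ℕ, ∀ (n k : ℕ) (_ : n ≤ k), n + c ≤ k →
    ∀ (ψ : Formal.modPow I (k + 1) F ⟶ Formal.modPow I (n + 1) F)
      (_ : Formal.modPowπ I (k + 1) F ≫ ψ = Formal.modPowπ I (n + 1) F),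
      Set.range (Sheaf.H.map ((SheafOfModules.toSheaf X.ringCatSheaf).map ψ) p) =
        Set.range (Formal.toHHmodPow I F p n) := by
  obtain ⟨c, hc⟩ := exists_ker_eq hN hfin I F hF (p + 1)
  refine ⟨c, fun n k h hnk ψ hψ => ?_⟩
  apply Set.Subset.antisymm
  · rintro _ ⟨y, rfl⟩
    have h' : n + 1 ≤ k + 1 := by omega
    let φ := sesPowMap I F h' ψ hψ
    -- the class `δ y`
    obtain ⟨d', hd'⟩ := (θH I F (p + 1) (k + 1)).surjective
      (CL.HHδ (sesPow_shortExact I F (k + 1)) A p y)
    have h1 : ιH F (p + 1) (I ^ (k + 1)) d' = 0 := by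
      rw [← HH_ι_θH I F (p + 1) (k + 1) d', hd']
      exact HHmap_f_δ (sesPow_shortExact I F (k + 1)) p y
    have h2 : d' ∈ LinearMap.ker (ιH F (p + 1) (I ^ (k + 1))) := h1
    rw [hc (k + 1) (by omega)] at h2
    have h3 : up F (p + 1) (I ^ (k + 1)) (I ^ (k + 1 - c)) 1 (one_mul_mem (Nat.sub_le _ c)) d' = 0 :=
      h2
    have h4 : up F (p + 1) (I ^ (k + 1)) (I ^ (n + 1)) 1 (one_mul_mem h') d' = 0 := by
      have h5 := up_up (F := F) (p := p + 1) (1 : A) (1 : A)
        (one_mul_mem (I := I) (Nat.sub_le (k + 1) c))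
        (one_mul_mem (I := I) (show n + 1 ≤ k + 1 - c by omega))
        (fun b hb => by
          rw [one_mul, one_mul]
          exact Ideal.pow_le_pow_right h' hb) d'
      rw [h3, map_zero] at h5
      rw [h5]
      exact LinearMap.congr_fun (up_congr F (p + 1) (one_mul (1 : A)).symm _ _) d'
    have h6 : CL.HHδ (sesPow_shortExact I F (n + 1)) A p (CL.HHmap A ψ p y) = 0 := by
      have hnat := CL.HHδ_naturality A (sesPow_shortExact I F (k + 1))
        (sesPow_shortExact I F (n + 1)) φ p y
      have hτ₃ : CL.HHδ (sesPow_shortExact I F (n + 1)) A p (CL.HHmap A ψ p y) =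
          CL.HHδ (sesPow_shortExact I F (n + 1)) A p (CL.HHmap A φ.τ₃ p y) := rfl
      rw [hτ₃, hnat]
      change CL.HHmap A (Formal2.idealPowIncl I h' F) (p + 1)
        (CL.HHδ (sesPow_shortExact I F (k + 1)) A p y) = 0
      rw [← hd', HH_incl_θH, h4, map_zero]
    obtain ⟨x, hx⟩ := CL.exact₃ (sesPow_shortExact I F (n + 1)) A p _ h6
    exact ⟨x, hx⟩
  · rintro _ ⟨x, rfl⟩
    refine ⟨Formal.toHHmodPow I F p k x, ?_⟩
    change CL.HHmap A ψ p (CL.HHmap A (Formal.modPowπ I (k + 1) F) p x) =
      CL.HHmap A (Formal.modPowπ I (n + 1) F) p x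
    rw [← CL.HHmap_comp_apply, hψ]

include hN hfin hF in
/-- the uniform Mittag-Leffler property (Stacks 02OC (3)). -/
theorem range_eq_range_toHHmodPow : ∃ c : ℕ, ∀ (n k : ℕ) (h : n ≤ k), n + c ≤ k →
    Set.range (Sheaf.H.map ((SheafOfModules.toSheaf X.ringCatSheaf).map
      ((Formal.completion I F).map (homOfLE h).op)) p) =
        Set.range (Formal.toHHmodPow I F p n) := by
  obtain ⟨c, hc⟩ := range_eq_range_toHHmodPow_aux hN hfin I F hF p
  exact ⟨c, fun n k h hnk => hc n k h hnk _ (π_completion_map I F h)⟩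

end Groth.Agent.LD.FF
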