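import Mathlib.RingTheory.Noetherian.Basic
import Mathlib.RingTheory.Finiteness.Basic
import Mathlib.Algebra.Module.Submodule.Map
import Mathlib.Algebra.BigOperators.Fin

/-! # The Noetherian lemma on graded families, as a hypothesis

A graded submodule of a finitely generated graded module over `R[T_1, …, T_s]` is generated in
bounded degrees.  (Proved by helper5 in `Helper5/GradedFam`.) -/

universe u

namespace Groth.Agent.LD.FF

/-- the Noetherian lemma for graded families in universe `u`. -/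
def NoethHyp : Prop :=
  ∀ {R : Type u} [CommRing R] [IsNoetherianRing R] {s : ℕ}
    (H : ℕ → Type u) [∀ k, AddCommGroup (H k)] [∀ k, Module R (H k)]
    [∀ k, Module.Finite R (H k)]
    (T : Fin s → ∀ k, H k →ₗ[R] H (k + 1))
    (_ : ∀ i j k (x : H k), T i (k + 1) (T j k x) = T j (k + 1) (T i k x))
    (k₀ : ℕ) (_ : ∀ k, k₀ ≤ k → ⨆ i, LinearMap.range (T i k) = ⊤)
    (H' : ∀ k, Submodule R (H k)) (_ : ∀ i k x, x ∈ H' k → T i k x ∈ H' (k + 1)),
    ∃ k₁, ∀ k, k₁ ≤ k → ∀ y ∈ H' (k + 1), y ∈ ⨆ i, (H' k).map (T i k)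

section
variable {R : Type*} [CommRing R] {M N : Type*} [AddCommGroup M] [Module R M]
  [AddCommGroup N] [Module R N] {s : ℕ}

/-- membership in a finite supremum of images. -/
lemma mem_iSup_map_iff (p : Submodule R M) (T : Fin s → (M →ₗ[R] N)) (y : N) :
    y ∈ ⨆ i, p.map (T i) ↔ ∃ z : Fin s → M, (∀ i, z i ∈ p) ∧ y = ∑ i, T i (z i) := by
  constructor
  · intro h
    have h' : y ∈ ⨆ i ∈ (Finset.univ : Finset (Fin s)), p.map (T i) := by simpa using h
    rw [Submodule.mem_iSup_finset_iff_exists_sum] at h'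
    obtain ⟨μ, hμ⟩ := h'
    have hc : ∀ i, ∃ z, z ∈ p ∧ T i z = (μ i : N) := fun i => (μ i).2
    choose z hz1 hz2 using hc
    refine ⟨z, hz1, ?_⟩
    rw [← hμ]
    exact Finset.sum_congr rfl fun i _ => (hz2 i).symm
  · rintro ⟨z, hz, rfl⟩
    refine Submodule.sum_mem _ fun i _ => ?_
    exact Submodule.mem_iSup_of_mem i ⟨z i, hz i, rfl⟩

lemma iSup_range_eq_top_iff (T : Fin s → (M →ₗ[R] N)) :
    ⨆ i, LinearMap.range (T i) = ⊤ ↔ ∀ y : N, ∃ z : Fin s → M, y = ∑ i, T i (z i) := by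
  have h : ∀ i, LinearMap.range (T i) = (⊤ : Submodule R M).map (T i) := fun i =>
    (Submodule.map_top _).symm
  simp_rw [h]
  rw [Submodule.eq_top_iff']
  refine forall_congr' fun y => ?_
  rw [mem_iSup_map_iff]
  simp

end

end Groth.Agent.LD.FF
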