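import Groth.Agent.Lib.Lead.FF.KerImCoker
import Groth.Agent.Lib.Lead.FF.NoethHyp
import Groth.Agent.Lib.Lead.QC.SerreSupp
import Groth.Agent.Lib.Lead.QC.SubExt

/-! # Graded families of `O_X`-modules with commuting degree-one operators -/

universe u
open CategoryTheory Limits Opposite TopologicalSpace AlgebraicGeometry

namespace Groth.Agent.LD.FF

/-- a graded family `(N_k)` of modules with `s` commuting operators of degree one. -/
structure GFam (X : Scheme.{u}) (s : ℕ) where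
  N : ℕ → X.Modules
  T : Fin s → ∀ k, N k ⟶ N (k + 1)
  comm : ∀ i j k, T i k ≫ T j (k + 1) = T j k ≫ T i (k + 1)

namespace GFam

variable {X : Scheme.{u}} {s : ℕ}

/-- all terms coherent. -/
def IsCoh (𝓝 : GFam X s) : Prop := ∀ k, Coh.IsCoh (𝓝.N k)

/-- eventually generated by the operators, on the sections over the opens of `𝒰`. -/
def EvGen (𝓝 : GFam X s) (𝒰 : Set X.Opens) (k₀ : ℕ) : Prop :=
  ∀ k, k₀ ≤ k → ∀ U ∈ 𝒰, ∀ x : Γ(𝓝.N (k + 1), U),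
    ∃ y : Fin s → Γ(𝓝.N k, U), x = ∑ i, (𝓝.T i k).app U (y i)

section succ
variable (𝓝 : GFam X (s + 1))

/-- the last operator. -/
def last (k : ℕ) : 𝓝.N k ⟶ 𝓝.N (k + 1) := 𝓝.T (Fin.last s) k

/-- the other operators. -/
def τ (i : Fin s) (k : ℕ) : 𝓝.N k ⟶ 𝓝.N (k + 1) := 𝓝.T i.castSucc k

lemma sq (i : Fin s) (k : ℕ) : 𝓝.last k ≫ 𝓝.τ i (k + 1) = 𝓝.τ i k ≫ 𝓝.last (k + 1) :=
  𝓝.comm _ _ _

lemma τ_comm (i j : Fin s) (k : ℕ) : 𝓝.τ i k ≫ 𝓝.τ j (k + 1) = 𝓝.τ j k ≫ 𝓝.τ i (k + 1) :=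
  𝓝.comm _ _ _

/-- the family of kernels of the last operator. -/
noncomputable def kerFam : GFam X s where
  N k := kernel (𝓝.last k)
  T i k := kernel.map (𝓝.last k) (𝓝.last (k + 1)) (𝓝.τ i k) (𝓝.τ i (k + 1)) (𝓝.sq i k)
  comm i j k := by
    rw [← cancel_mono (kernel.ι _)]
    simp only [Category.assoc, kernel.lift_ι, kernel.lift_ι_assoc]
    rw [𝓝.τ_comm]

/-- the family of cokernels of the last operator. -/
noncomputable def cokerFam : GFam X s where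
  N k := cokernel (𝓝.last k)
  T i k := cokernel.map (𝓝.last k) (𝓝.last (k + 1)) (𝓝.τ i k) (𝓝.τ i (k + 1)) (𝓝.sq i k)
  comm i j k := by
    rw [← cancel_epi (cokernel.π _)]
    simp only [cokernel.π_desc_assoc, Category.assoc, cokernel.π_desc]
    rw [← Category.assoc, 𝓝.τ_comm, Category.assoc]

lemma kerFam_T_ι (i : Fin s) (k : ℕ) :
    𝓝.kerFam.T i k ≫ kernel.ι (𝓝.last (k + 1)) = kernel.ι (𝓝.last k) ≫ 𝓝.τ i k :=
  kernel.lift_ι _ _ _

lemma π_cokerFam_T (i : Fin s) (k : ℕ) :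
    cokernel.π (𝓝.last k) ≫ 𝓝.cokerFam.T i k = 𝓝.τ i (k + 1) ≫ cokernel.π (𝓝.last (k + 1)) :=
  cokernel.π_desc _ _ _

variable {𝓝}

lemma kerFam_isCoh [IsLocallyNoetherian X] (h : 𝓝.IsCoh) : 𝓝.kerFam.IsCoh :=
  fun k => QC.isCoh_kernel _ (h k) (h (k + 1))

lemma cokerFam_isCoh (h : 𝓝.IsCoh) : 𝓝.cokerFam.IsCoh :=
  fun k => QC.isCoh_cokernel _ (h k) (h (k + 1))

/-- the cokernel family is eventually generated. -/
lemma cokerFam_evGen (h : 𝓝.IsCoh) {𝒰 : Set X.Opens} (h𝒰 : ∀ U ∈ 𝒰, IsAffineOpen U) {k₀ : ℕ}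
    (hg : 𝓝.EvGen 𝒰 k₀) : 𝓝.cokerFam.EvGen 𝒰 k₀ := by
  intro k hk U hU x
  have hqc : (cokernel (𝓝.last (k + 1))).IsQuasicoherent := (cokerFam_isCoh h (k + 1)).1
  obtain ⟨x', rfl⟩ := QC.epi_app_affine (h (k + 1 + 1)).1 hqc
    (cokernel.π (𝓝.last (k + 1))) (h𝒰 U hU) x
  obtain ⟨y, hy⟩ := hg (k + 1) (by omega) U hU x'
  refine ⟨fun i => (cokernel.π (𝓝.last k)).app U (y i.castSucc), ?_⟩
  rw [hy, map_sum, Fin.sum_univ_castSucc]
  have h0 : (cokernel.π (𝓝.last (k + 1))).app U ((𝓝.T (Fin.last s) (k + 1)).app U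
      (y (Fin.last s))) = 0 := by
    change ((𝓝.last (k + 1) ≫ cokernel.π (𝓝.last (k + 1))).app U) (y (Fin.last s)) = 0
    rw [cokernel.condition]; rfl
  rw [h0, add_zero]
  refine Finset.sum_congr rfl fun i _ => ?_
  change ((𝓝.τ i (k + 1) ≫ cokernel.π (𝓝.last (k + 1))).app U) (y i.castSucc) =
    ((cokernel.π (𝓝.last k) ≫ 𝓝.cokerFam.T i k).app U) (y i.castSucc)
  rw [π_cokerFam_T]
  rfl

end succ

end GFam

end Groth.Agent.LD.FF
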