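import Groth.Agent.Lib.Lead.FF.IdealMul
import Groth.Agent.Lib.Lead.FF.GFam
import Groth.Agent.Lib.Lead.QC.SigmaFin

/-! # The Rees family `(m^k F)_k` -/

universe u
open CategoryTheory Limits Opposite TopologicalSpace AlgebraicGeometry

namespace Groth.Agent.LD.FF

variable {A : Type u} [CommRing A] {X : Scheme.{u}} [X.Over (Spec (CommRingCat.of A))]

lemma qc_idealMul (J : Ideal A) (M : X.Modules) (hM : M.IsQuasicoherent) :
    (CohIII.idealMul J M).IsQuasicoherent := by
  have h1 : (∐ fun _ : J => M).IsQuasicoherent :=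
    QC.qc_colimit (Discrete.functor fun _ : J => M) (fun _ => hM)
  have h2 : (Abelian.image (Formal.smulFamily J M)).IsQuasicoherent :=
    QC.qc_kernel _ hM (QC.qc_cokernel _ h1 hM)
  exact QC.qc_of_iso (Abelian.imageIsoImage (Formal.smulFamily J M)) h2

lemma isCoh_idealMul [IsLocallyNoetherian X] (J : Ideal A) (M : X.Modules) (hM : Coh.IsCoh M) :
    Coh.IsCoh (CohIII.idealMul J M) :=
  QC.isCoh_of_mono (CohIII.idealMulι J M) (qc_idealMul J M hM.1) hM

/-- elements of `(a_1, …, a_s) · J`. -/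
lemma exists_of_mem_span_mul {s : ℕ} (a : Fin s → A) (J : Ideal A) (c : A)
    (hc : c ∈ Ideal.span (Set.range a) * J) :
    ∃ b : Fin s → A, (∀ i, b i ∈ J) ∧ c = ∑ i, a i * b i := by
  refine Submodule.mul_induction_on hc ?_ ?_
  · intro r hr j hj
    obtain ⟨c, rfl⟩ := (Submodule.mem_span_range_iff_exists_fun A).mp hr
    refine ⟨fun i => c i * j, fun i => J.mul_mem_left _ hj, ?_⟩
    rw [Finset.sum_mul]
    refine Finset.sum_congr rfl fun i _ => ?_
    simp only [smul_eq_mul]; ring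
  · rintro x y ⟨b, hb, rfl⟩ ⟨b', hb', rfl⟩
    refine ⟨fun i => b i + b' i, fun i => J.add_mem (hb i) (hb' i), ?_⟩
    rw [← Finset.sum_add_distrib]
    exact Finset.sum_congr rfl fun i _ => by ring

section fam
variable (m : Ideal A) {s : ℕ} (a : Fin s → A) (ha : Ideal.span (Set.range a) = m) (F : X.Modules)

include ha in
lemma rees_aux (i : Fin s) (k : ℕ) : ∀ b ∈ m ^ k, a i * b ∈ m ^ (k + 1) := by
  intro b hb
  rw [pow_succ']
  exact Ideal.mul_mem_mul (ha ▸ Ideal.subset_span ⟨i, rfl⟩) hb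

/-- the operators of the Rees family. -/
noncomputable def reesT (i : Fin s) (k : ℕ) :
    CohIII.idealMul (m ^ k) F ⟶ CohIII.idealMul (m ^ (k + 1)) F :=
  mulTo (m ^ k) (m ^ (k + 1)) F (a i) (rees_aux m a ha i k)

/-- the Rees family `(m^k F)_k` with the operators given by generators of `m`. -/
noncomputable def reesFam : GFam X s where
  N k := CohIII.idealMul (m ^ k) F
  T i k := reesT m a ha F i k
  comm i j k := mulTo_comm F _ _ _ _ _ _

lemma reesFam_isCoh [IsLocallyNoetherian X] (hF : Coh.IsCoh F) : (reesFam m a ha F).IsCoh :=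
  fun k => isCoh_idealMul (m ^ k) F hF

/-- the sum of the operators, as a morphism from the constant coproduct. -/
noncomputable def reesΦ (k : ℕ) :
    (∐ fun _ : Fin s => CohIII.idealMul (m ^ k) F) ⟶ CohIII.idealMul (m ^ (k + 1)) F :=
  Sigma.desc (fun i => reesT m a ha F i k)

include ha in
/-- the components of the canonical epimorphism onto `m^(k+1) F` factor through the operators. -/
lemma eComp_succ_eq (k : ℕ) (c : ↥(m ^ (k + 1))) :
    ∃ b : Fin s → A, ∃ hb : ∀ i, b i ∈ m ^ k,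
      eComp (m ^ (k + 1)) F c = ∑ i, eComp (m ^ k) F ⟨b i, hb i⟩ ≫ reesT m a ha F i k := by
  obtain ⟨b, hb, hbs⟩ := exists_of_mem_span_mul a (m ^ k) (c : A) (by
    rw [ha, ← pow_succ']
    exact c.2)
  refine ⟨b, hb, ?_⟩
  rw [← cancel_mono (CohIII.idealMulι (m ^ (k + 1)) F), eComp_ι, Preadditive.sum_comp, hbs,
    smulMod_sum]
  refine Finset.sum_congr rfl fun i _ => ?_
  change _ = (eComp (m ^ k) F ⟨b i, hb i⟩ ≫ mulTo (m ^ k) (m ^ (k + 1)) F (a i) _) ≫
      CohIII.idealMulι (m ^ (k + 1)) F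
  rw [Category.assoc, mulTo_ι, eComp_ι_assoc, CohIII.smulMod_mul]

instance epi_reesΦ (k : ℕ) : Epi (reesΦ m a ha F k) := by
  refine ⟨fun {Z} f g hfg => ?_⟩
  apply idealMul_hom_ext
  intro c
  obtain ⟨b, hb, hc⟩ := eComp_succ_eq m a ha F k c
  rw [hc, Preadditive.sum_comp, Preadditive.sum_comp]
  refine Finset.sum_congr rfl fun i _ => ?_
  have hT : reesT m a ha F i k =
      Sigma.ι (fun _ : Fin s => CohIII.idealMul (m ^ k) F) i ≫ reesΦ m a ha F k := by
    unfold reesΦ
    rw [Sigma.ι_desc]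
  rw [hT, Category.assoc, Category.assoc, Category.assoc, Category.assoc, hfg]

lemma finset_sum_app {M N : X.Modules} {ι : Type*} (S : Finset ι) (φ : ι → (M ⟶ N)) (U : X.Opens)
    (x : Γ(M, U)) : (∑ i ∈ S, φ i).app U x = ∑ i ∈ S, (φ i).app U x := by
  classical
  induction S using Finset.induction_on with
  | empty =>
    rw [Finset.sum_empty, Finset.sum_empty]
    rfl
  | insert a S ha ih =>
    rw [Finset.sum_insert ha, Finset.sum_insert ha, ← ih]
    rfl

/-- the Rees family is generated from degree `0` on, over every affine open. -/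
lemma reesFam_evGen (hF : F.IsQuasicoherent) (𝒰 : Set X.Opens) (h𝒰 : ∀ U ∈ 𝒰, IsAffineOpen U) :
    (reesFam m a ha F).EvGen 𝒰 0 := by
  intro k _ U hU x
  haveI := qc_idealMul (m ^ k) F hF
  obtain ⟨z, rfl⟩ := QC.epi_app_affine (QC.qc_sigma_fin (CohIII.idealMul (m ^ k) F) s)
    (qc_idealMul (m ^ (k + 1)) F hF) (reesΦ m a ha F k) (h𝒰 U hU) x
  refine ⟨fun i => (SC.sigmaProj (CohIII.idealMul (m ^ k) F) s i).app U z, ?_⟩
  have h := congrArg (fun φ => (φ ≫ reesΦ m a ha F k).app U z)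
    (SC.sigmaProj_total (CohIII.idealMul (m ^ k) F) s)
  simp only [Category.id_comp, Preadditive.sum_comp, Category.assoc] at h
  rw [← h, finset_sum_app]
  refine Finset.sum_congr rfl fun i _ => ?_
  unfold reesΦ
  rw [Sigma.ι_desc]
  rfl

end fam

end Groth.Agent.LD.FF
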