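import Groth.Agent.Lib.Lead.FBC.SecBaseChange
import Groth.Agent.Lib.Lead.CohLES.H0Lin
import Mathlib.AlgebraicGeometry.Geometrically.Connected
import Mathlib.AlgebraicGeometry.Geometrically.Reduced
import Mathlib.AlgebraicGeometry.Morphisms.Proper
import Mathlib.FieldTheory.IsAlgClosed.AlgebraicClosure

/-! # Global functions of a proper geometrically reduced and geometrically connected scheme. -/

universe u
open CategoryTheory Limits Opposite TopologicalSpace AlgebraicGeometry TensorProduct Polynomial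

namespace Groth.Agent.LD.FF
open Groth.Agent.LD.QC Groth.Agent.LD.FBC

section Algebra

variable {K S : Type*} [Field K] [CommRing S] [Algebra K S]

/-- coprimality of `a - r` with a product of `a - rᵢ`, `rᵢ ≠ r`. -/
lemma isCoprime_sub_list_prod (a : S) (r : K) :
    ∀ l : List K, r ∉ l →
      IsCoprime (a - algebraMap K S r) (l.map (fun t => a - algebraMap K S t)).prod
  | [], _ => by simpa using isCoprime_one_right
  | t :: l, h => by
    rw [List.map_cons, List.prod_cons]
    have hrt : r ≠ t := fun e => h (e ▸ List.mem_cons_self)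
    have hl : r ∉ l := fun e => h (List.mem_cons_of_mem _ e)
    refine IsCoprime.mul_right ?_ (isCoprime_sub_list_prod a r l hl)
    have hc : (r - t) ≠ 0 := sub_ne_zero.mpr hrt
    refine ⟨-algebraMap K S (r - t)⁻¹, algebraMap K S (r - t)⁻¹, ?_⟩
    have : algebraMap K S (r - t)⁻¹ * algebraMap K S (r - t) = 1 := by
      rw [← map_mul, inv_mul_cancel₀ hc, map_one]
    rw [map_sub] at this
    linear_combination this

/-- in a reduced ring with only trivial idempotents, a product of `a - rᵢ` vanishes only if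
`a` is one of the `rᵢ`. -/
lemma exists_eq_of_list_prod_eq_zero [Nontrivial S] [IsReduced S]
    (hidem : ∀ e : S, IsIdempotentElem e → e = 0 ∨ e = 1) (a : S) :
    ∀ l : List K, (l.map (fun t => a - algebraMap K S t)).prod = 0 →
      ∃ r ∈ l, a = algebraMap K S r
  | [], h => by simp at h
  | r :: l, h => by
    rw [List.map_cons, List.prod_cons] at h
    set P := (l.map (fun t => a - algebraMap K S t)).prod with hP
    by_cases hr : r ∈ l
    · have hdvd : (a - algebraMap K S r) ∣ P :=
        List.dvd_prod (List.mem_map.mpr ⟨r, hr, rfl⟩)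
      obtain ⟨Q, hQ⟩ := hdvd
      have h2 : P ^ 2 = 0 := by
        rw [pow_two]
        nth_rewrite 1 [hQ]
        rw [mul_right_comm, h, zero_mul]
      have h3 : P = 0 := IsReduced.eq_zero _ ⟨2, h2⟩
      obtain ⟨r', hr', e⟩ := exists_eq_of_list_prod_eq_zero hidem a l h3
      exact ⟨r', List.mem_cons_of_mem _ hr', e⟩
    · obtain ⟨u, v, huv⟩ := isCoprime_sub_list_prod a r l hr
      have he : IsIdempotentElem (v * P) := by
        change v * P * (v * P) = v * P
        have : v * P = 1 - u * (a - algebraMap K S r) := by rw [← huv]; ring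
        nth_rewrite 2 [this]
        rw [mul_sub, mul_one, sub_eq_self]
        calc v * P * (u * (a - algebraMap K S r)) = v * u * ((a - algebraMap K S r) * P) := by ring
          _ = 0 := by rw [h, mul_zero]
      rcases hidem _ he with h0 | h1
      · have h4 : u * (a - algebraMap K S r) = 1 := by rw [← huv, h0, add_zero]
        have h5 : P = 0 := by
          calc P = P * (u * (a - algebraMap K S r)) := by rw [h4, mul_one]
            _ = u * ((a - algebraMap K S r) * P) := by ring
            _ = 0 := by rw [h, mul_zero]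
        obtain ⟨r', hr', e⟩ := exists_eq_of_list_prod_eq_zero hidem a l h5
        exact ⟨r', List.mem_cons_of_mem _ hr', e⟩
      · refine ⟨r, List.mem_cons_self, ?_⟩
        have h4 : a - algebraMap K S r = 0 := by
          calc a - algebraMap K S r = (a - algebraMap K S r) * (v * P) := by rw [h1, mul_one]
            _ = v * ((a - algebraMap K S r) * P) := by ring
            _ = 0 := by rw [h, mul_zero]
        exact sub_eq_zero.mp h4

/-- a nontrivial reduced algebra with only trivial idempotents, integral over an algebraically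
closed field, is the field itself. -/
theorem algebraMap_bijective_of_reduced_of_idem [IsAlgClosed K] [Nontrivial S] [IsReduced S]
    (hint : ∀ s : S, IsIntegral K s)
    (hidem : ∀ e : S, IsIdempotentElem e → e = 0 ∨ e = 1) :
    Function.Bijective (algebraMap K S) := by
  refine ⟨(algebraMap K S).injective, fun a => ?_⟩
  obtain ⟨p, hp, hpa⟩ := hint a
  have hsplit := IsAlgClosed.splits p
  have hprod : p = (p.roots.map (fun t => X - C t)).prod := by
    have := hsplit.eq_prod_roots
    rwa [hp.leadingCoeff, C_1, one_mul] at this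
  obtain ⟨l, hl⟩ := Quot.exists_rep p.roots
  have hl' : p.roots = (l : Multiset K) := hl.symm
  rw [hl', Multiset.map_coe, Multiset.prod_coe] at hprod
  have h0 : (l.map (fun t => a - algebraMap K S t)).prod = 0 := by
    have h1 : eval₂ (algebraMap K S) a p = 0 := hpa
    rw [hprod, eval₂_list_prod, List.map_map] at h1
    refine Eq.trans ?_ h1
    congr 1
    refine List.map_congr_left (fun t _ => ?_)
    simp [eval₂_sub]
  obtain ⟨r, -, e⟩ := exists_eq_of_list_prod_eq_zero hidem a l h0
  exact ⟨r, e.symm⟩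

end Algebra

section Geometry

/-- on a connected scheme the only idempotent global functions are `0` and `1`. -/
theorem idem_trivial_of_connectedSpace (X : Scheme.{u}) [ConnectedSpace X] (e : Γ(X, ⊤))
    (he : IsIdempotentElem e) : e = 0 ∨ e = 1 := by
  have he' : IsIdempotentElem (1 - e) := he.one_sub
  have hinf : X.basicOpen e ⊓ X.basicOpen (1 - e) = ⊥ := by
    rw [← Scheme.basicOpen_mul, mul_sub, mul_one, he.eq, sub_self, Scheme.basicOpen_zero]
  have hsup : ∀ x : X, x ∈ X.basicOpen e ∨ x ∈ X.basicOpen (1 - e) := by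
    intro x
    rw [Scheme.mem_basicOpen_top, Scheme.mem_basicOpen_top]
    apply IsLocalRing.isUnit_or_isUnit_of_add_one
    rw [← map_add, add_sub_cancel, map_one]
  have hcl : IsClopen ((X.basicOpen e : Set X)) := by
    refine ⟨?_, (X.basicOpen e).2⟩
    have : ((X.basicOpen e : Set X))ᶜ = (X.basicOpen (1 - e) : Set X) := by
      ext x
      constructor
      · intro hx
        exact (hsup x).resolve_left hx
      · intro hx hx'
        have : x ∈ X.basicOpen e ⊓ X.basicOpen (1 - e) := ⟨hx', hx⟩
        rw [hinf] at this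
        exact this
    rw [← isOpen_compl_iff, this]
    exact (X.basicOpen (1 - e)).2
  have key : ∀ (c : Γ(X, ⊤)), IsIdempotentElem c → (X.basicOpen c : Set X) = Set.univ → c = 1 := by
    intro c hc hU
    have hu : IsUnit c := by
      apply X.toRingedSpace.isUnit_of_isUnit_germ ⊤ c
      intro x hx
      rw [← Scheme.mem_basicOpen_top]
      change x ∈ (X.basicOpen c : Set X)
      rw [hU]; trivial
    have h1 : c * c = c * 1 := by rw [mul_one]; exact hc
    exact hu.mul_left_cancel h1
  rcases isClopen_iff.mp hcl with h | h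
  · left
    have h2 : (X.basicOpen (1 - e) : Set X) = Set.univ := by
      ext x
      simp only [Set.mem_univ, iff_true]
      rcases hsup x with hx | hx
      · have : x ∈ (X.basicOpen e : Set X) := hx
        rw [h] at this
        exact this.elim
      · exact hx
    have := key _ he' h2
    exact (sub_eq_self.mp this)
  · right
    exact key e he h

end Geometry

section Main

variable (k : Type u) [Field k] (X : Scheme.{u}) [X.Over (Spec (CommRingCat.of k))]

/-- `H^0(X, O_X) ≃ Γ(X, ⊤)` linearly over the base field. -/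
noncomputable def HH0LinearEquivΓ :
    letI : Algebra k Γ(X, ⊤) := (Coh.toGlobal (X ↘ Spec (CommRingCat.of k))).toAlgebra
    Coh.HH X (Coh.structureModule X) 0 ≃ₗ[k] Γ(X, ⊤) :=
  letI : Algebra k Γ(X, ⊤) := (Coh.toGlobal (X ↘ Spec (CommRingCat.of k))).toAlgebra
  { CL.HH0Equiv (Coh.structureModule X) with
    map_smul' := fun c x =>
      CL.HH0Equiv_smul (Coh.structureModule X)
        (Coh.toGlobal (X ↘ Spec (CommRingCat.of k)) c) x }

lemma finrank_HH0_eq :
    Module.finrank k (Coh.HH X (Coh.structureModule X) 0) =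
      @Module.finrank k Γ(X, ⊤) _ _
        (Coh.toGlobal (X ↘ Spec (CommRingCat.of k))).toAlgebra.toModule :=
  letI : Algebra k Γ(X, ⊤) := (Coh.toGlobal (X ↘ Spec (CommRingCat.of k))).toAlgebra
  (HH0LinearEquivΓ k X).finrank_eq

lemma algAΓ_top_eq {A : Type u} [CommRing A] {Y : Scheme.{u}} (f : Y ⟶ Spec (CommRingCat.of A)) :
    algAΓ f ⊤ = Coh.toGlobal f := by
  ext c
  change (Y.ringCatSheaf.obj.map (𝟙 (op (⊤ : Y.Opens)))).hom _ = _
  rw [Y.ringCatSheaf.obj.map_id]
  rfl

/-- **the global functions of a proper, geometrically reduced and geometrically connected scheme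
over a field are the constants.** -/
theorem finrank_HH0_eq_one [IsProper (X ↘ Spec (CommRingCat.of k))]
    [GeometricallyReduced (X ↘ Spec (CommRingCat.of k))]
    [GeometricallyConnected (X ↘ Spec (CommRingCat.of k))] :
    Module.finrank k (Coh.HH X (Coh.structureModule X) 0) = 1 := by
  let K := AlgebraicClosure k
  let f := X ↘ Spec (CommRingCat.of k)
  let φ := Spec.map (CommRingCat.ofHom (algebraMap k K))
  let X' := pullback f φ
  let g' : X' ⟶ X := pullback.fst f φ
  let f' : X' ⟶ Spec (CommRingCat.of K) := pullback.snd f φ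
  have h : IsPullback g' f' f φ := IsPullback.of_hasPullback f φ
  haveI hred : IsReduced X' :=
    GeometricallyReduced.geometrically_isReduced (f := f) φ g' f' h
  haveI hconn : ConnectedSpace X' :=
    GeometricallyConnected.geometrically_connectedSpace (f := f) φ g' f' h
  haveI : IsProper f' := inferInstanceAs (IsProper (pullback.snd f φ))
  haveI : CompactSpace X := QuasiCompact.compactSpace_of_compactSpace f
  haveI : QuasiSeparatedSpace X := quasiSeparatedSpace_of_quasiSeparated f
  -- algebra structures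
  letI algAR : Algebra k Γ(X, ⊤) := (algAΓ f ⊤).toAlgebra
  letI algBR' : Algebra K Γ(X', g' ⁻¹ᵁ ⊤) := (algAΓ f' (g' ⁻¹ᵁ ⊤)).toAlgebra
  letI algRR' : Algebra Γ(X, ⊤) Γ(X', g' ⁻¹ᵁ ⊤) :=
    (g'.appLE ⊤ (g' ⁻¹ᵁ ⊤) le_rfl).hom.toAlgebra
  letI algAR' : Algebra k Γ(X', g' ⁻¹ᵁ ⊤) :=
    ((algebraMap K Γ(X', g' ⁻¹ᵁ ⊤)).comp (algebraMap k K)).toAlgebra
  haveI : IsScalarTower k K Γ(X', g' ⁻¹ᵁ ⊤) := IsScalarTower.of_algebraMap_eq' rfl
  have hpo := isPushout_sections'_of_isCompact f f' g' h ⊤ isCompact_univ
    (isQuasiSeparated_univ_iff.mpr inferInstance)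
  haveI : IsScalarTower k Γ(X, ⊤) Γ(X', g' ⁻¹ᵁ ⊤) :=
    IsScalarTower.of_algebraMap_eq' (by
      have := hpo.w
      exact congrArg CommRingCat.Hom.hom this)
  haveI hPO : Algebra.IsPushout k K Γ(X, ⊤) Γ(X', g' ⁻¹ᵁ ⊤) :=
    CommRingCat.isPushout_iff_isPushout.mp hpo
  -- the base change has only constant functions
  haveI : Nonempty X' := inferInstance
  haveI : Nontrivial Γ(X', g' ⁻¹ᵁ ⊤) :=
    @Scheme.component_nontrivial X' ⊤ ⟨⟨Classical.arbitrary X', trivial⟩⟩
  haveI : _root_.IsReduced Γ(X', g' ⁻¹ᵁ ⊤) := inferInstanceAs (_root_.IsReduced Γ(X', ⊤))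
  have hint : ∀ s : Γ(X', g' ⁻¹ᵁ ⊤), IsIntegral K s := by
    intro s
    obtain ⟨p, hp, hps⟩ := isIntegral_appTop_of_universallyClosed f' s
    refine ⟨p.map (Scheme.ΓSpecIso (CommRingCat.of K)).hom.hom, hp.map _, ?_⟩
    rw [eval₂_map]
    refine Eq.trans ?_ hps
    congr 1
    ext x
    change resΓ X' (g' ⁻¹ᵁ ⊤) (f'.appTop ((Scheme.ΓSpecIso (CommRingCat.of K)).inv
      ((Scheme.ΓSpecIso (CommRingCat.of K)).hom x))) = f'.appTop x
    have h3 : ∀ r : Γ(X', ⊤), resΓ X' (g' ⁻¹ᵁ ⊤) r = r := by
      intro r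
      change (X'.ringCatSheaf.obj.map (𝟙 (op (⊤ : X'.Opens)))).hom r = r
      rw [X'.ringCatSheaf.obj.map_id]
      rfl
    rw [h3]
    congr 1
    exact congr($((Scheme.ΓSpecIso (CommRingCat.of K)).hom_inv_id) x)
  have hbij : Function.Bijective (algebraMap K Γ(X', g' ⁻¹ᵁ ⊤)) :=
    algebraMap_bijective_of_reduced_of_idem hint
      (fun e he => idem_trivial_of_connectedSpace X' e he)
  -- ranks
  have h1 : Module.finrank K Γ(X', g' ⁻¹ᵁ ⊤) = 1 := by
    have e : K ≃ₗ[K] Γ(X', g' ⁻¹ᵁ ⊤) :=
      LinearEquiv.ofBijective (Algebra.linearMap K Γ(X', g' ⁻¹ᵁ ⊤)) hbij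
    rw [← e.finrank_eq, Module.finrank_self]
  have h2 : Module.finrank K (K ⊗[k] Γ(X, ⊤)) = Module.finrank k Γ(X, ⊤) :=
    Module.finrank_baseChange
  have h3 : Module.finrank K (K ⊗[k] Γ(X, ⊤)) = Module.finrank K Γ(X', g' ⁻¹ᵁ ⊤) :=
    hPO.out.equiv.finrank_eq
  have h4 : Module.finrank k Γ(X, ⊤) = 1 := by rw [← h2, h3, h1]
  have h5 : ∀ (τ : k →+* Γ(X, ⊤)), τ = algAΓ f ⊤ →
      @Module.finrank k Γ(X, ⊤) _ _ τ.toAlgebra.toModule = 1 := by
    intro τ hτ
    subst hτ
    exact h4
  rw [finrank_HH0_eq]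
  exact h5 _ (algAΓ_top_eq f).symm

end Main

end Groth.Agent.LD.FF
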