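import Mathlib
import Groth.Prelude.Def_DerSch
import Groth.Agent.H4.SPt6

set_option autoImplicit false
universe u
open CategoryTheory CategoryTheory.Limits AlgebraicGeometry TopologicalSpace Opposite TensorProduct ChangeOfRings

/-!
# Pullback along a flat surjective morphism is faithful
-/

namespace Groth.Agent.LD.FF

variable {X Y : Scheme.{u}}

/-- a morphism of modules all of whose stalk maps vanish is zero -/
theorem eq_zero_of_stalk {M N : Y.Modules} (χ : M ⟶ N)
    (h : ∀ y : Y, (DerSch.stalkFunctor Y y).map χ = 0) : χ = 0 := by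
  apply Scheme.Modules.hom_ext
  intro U
  apply AddCommGrpCat.hom_ext
  apply AddMonoidHom.ext
  intro s
  apply TopCat.Presheaf.section_ext ⟨N.presheaf, N.isSheaf⟩ U
  intro y hy
  have h1 := DerSch.stalkFunctor_map_germ y χ U hy s
  rw [h y] at h1
  change N.presheaf.germ U y hy (χ.app U s) = N.presheaf.germ U y hy ((0 : M ⟶ N).app U s)
  rw [← h1]
  have : ((0 : M ⟶ N).app U) s = 0 := by
    rw [Scheme.Modules.Hom.zero_app]; rfl
  rw [this, map_zero]
  rfl

/-- extension of scalars along a flat local homomorphism reflects zero morphisms -/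
theorem eq_zero_of_extendScalars {R S : Type u} [CommRing R] [CommRing S] [IsLocalRing R]
    [IsLocalRing S] (φ : R →+* S) (hφ : φ.Flat) [IsLocalHom φ] {M N : ModuleCat.{u} R}
    (g : M ⟶ N) (h : (ModuleCat.extendScalars.{u, u, u} φ).map g = 0) : g = 0 := by
  algebraize [φ]
  haveI : IsLocalHom (algebraMap R S) := ‹IsLocalHom φ›
  haveI : Module.FaithfullyFlat R S := Module.FaithfullyFlat.of_flat_of_isLocalHom
  apply ModuleCat.hom_ext
  apply LinearMap.ext
  intro m
  have h1 : (ModuleCat.extendScalars.{u, u, u} φ).map g ((1 : S) ⊗ₜ[R, φ] m) = 0 := by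
    rw [h]; rfl
  rw [ModuleCat.ExtendScalars.map_tmul] at h1
  have h2 : ((1 : S) ⊗ₜ[R] (g.hom m) : S ⊗[R] N) = 0 := h1
  rw [Module.FaithfullyFlat.one_tmul_eq_zero_iff] at h2
  rw [h2]; rfl

theorem faithful_pullback (f : X ⟶ Y) [Flat f] [Surjective f] :
    (Scheme.Modules.pullback f).Faithful := by
  haveI : (Scheme.Modules.pullback f).Additive := inferInstance
  refine ⟨fun {M N} a b hab => ?_⟩
  rw [← sub_eq_zero]
  have h0 : (Scheme.Modules.pullback f).map (a - b) = 0 := by
    rw [Functor.map_sub, hab, sub_self]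
  generalize a - b = χ at h0
  apply eq_zero_of_stalk
  intro y
  obtain ⟨x, rfl⟩ := f.surjective y
  have nat := (Groth.Agent.H4.SPt5.stalkPullbackIso f x).hom.naturality χ
  simp only [Functor.comp_map] at nat
  rw [h0, Functor.map_zero, zero_comp] at nat
  have h2 : (ModuleCat.extendScalars.{u, u, u} (f.stalkMap x).hom).map
      ((DerSch.stalkFunctor Y (f.base x)).map χ) = 0 := by
    have := congrArg (fun t => (Groth.Agent.H4.SPt5.stalkPullbackIso f x).inv.app M ≫ t) nat
    simp only [comp_zero, Iso.inv_hom_id_app_assoc] at this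
    exact this.symm
  haveI : IsLocalHom (f.stalkMap x).hom := f.toLRSHom.prop x
  exact eq_zero_of_extendScalars (f.stalkMap x).hom (Flat.stalkMap f x) _ h2

end Groth.Agent.LD.FF
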