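import Mathlib
import Groth.Prelude.Def_DerSch
import Groth.Agent.H4.SPt6
import Groth.Agent.Lib.Lead.FF.Faithful

set_option autoImplicit false
universe u
open CategoryTheory CategoryTheory.Limits AlgebraicGeometry TopologicalSpace Opposite TensorProduct ChangeOfRings

/-!
# Descent of monomorphisms / epimorphisms / isomorphisms / zero maps along flat covers
-/

namespace Groth.Agent.LD.FF

section General
variable {C D : Type*} [Category C] [Category D]

lemma mono_map_iff_of_iso {F G : C ⥤ D} (α : F ≅ G) {M N : C} (v : M ⟶ N) :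
    Mono (F.map v) ↔ Mono (G.map v) := by
  constructor
  · intro h
    have : G.map v = α.inv.app M ≫ F.map v ≫ α.hom.app N := by simp
    rw [this]; infer_instance
  · intro h
    have : F.map v = α.hom.app M ≫ G.map v ≫ α.inv.app N := by simp
    rw [this]; infer_instance

lemma epi_map_iff_of_iso {F G : C ⥤ D} (α : F ≅ G) {M N : C} (v : M ⟶ N) :
    Epi (F.map v) ↔ Epi (G.map v) := by
  constructor
  · intro h
    have : G.map v = α.inv.app M ≫ F.map v ≫ α.hom.app N := by simp
    rw [this]; infer_instance
  · intro h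
    have : F.map v = α.hom.app M ≫ G.map v ≫ α.inv.app N := by simp
    rw [this]; infer_instance

end General

variable {X Y : Scheme.{u}}

theorem mono_iff_stalk {M N : Y.Modules} (v : M ⟶ N) :
    Mono v ↔ ∀ y : Y, Mono ((DerSch.stalkFunctor Y y).map v) := by
  constructor
  · intro h y; infer_instance
  · intro h
    apply Preadditive.mono_of_isZero_kernel
    rw [Groth.Agent.H4.SPt6.isZero_iff_stalk]
    intro y
    haveI := h y
    exact (isZero_kernel_of_mono ((DerSch.stalkFunctor Y y).map v)).of_iso
      (PreservesKernel.iso (DerSch.stalkFunctor Y y) v)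

theorem epi_iff_stalk {M N : Y.Modules} (v : M ⟶ N) :
    Epi v ↔ ∀ y : Y, Epi ((DerSch.stalkFunctor Y y).map v) := by
  constructor
  · intro h y; infer_instance
  · intro h
    apply Preadditive.epi_of_isZero_cokernel
    rw [Groth.Agent.H4.SPt6.isZero_iff_stalk]
    intro y
    haveI := h y
    exact (isZero_cokernel_of_epi ((DerSch.stalkFunctor Y y).map v)).of_iso
      (PreservesCokernel.iso (DerSch.stalkFunctor Y y) v)

section Ext
variable {R S : Type u} [CommRing R] [CommRing S] (φ : R →+* S)

lemma extendScalars_map_injective_iff (hφ : φ.Flat) [IsLocalRing R] [IsLocalRing S]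
    [IsLocalHom φ] {M N : ModuleCat.{u} R} (g : M ⟶ N) :
    Function.Injective ((ModuleCat.extendScalars.{u, u, u} φ).map g).hom ↔
      Function.Injective g.hom := by
  algebraize [φ]
  haveI : IsLocalHom (algebraMap R S) := ‹IsLocalHom φ›
  haveI : Module.FaithfullyFlat R S := Module.FaithfullyFlat.of_flat_of_isLocalHom
  exact Module.FaithfullyFlat.lTensor_injective_iff_injective R S g.hom

lemma extendScalars_map_surjective_iff (hφ : φ.Flat) [IsLocalRing R] [IsLocalRing S]
    [IsLocalHom φ] {M N : ModuleCat.{u} R} (g : M ⟶ N) :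
    Function.Surjective ((ModuleCat.extendScalars.{u, u, u} φ).map g).hom ↔
      Function.Surjective g.hom := by
  algebraize [φ]
  haveI : IsLocalHom (algebraMap R S) := ‹IsLocalHom φ›
  haveI : Module.FaithfullyFlat R S := Module.FaithfullyFlat.of_flat_of_isLocalHom
  exact Module.FaithfullyFlat.lTensor_surjective_iff_surjective R S g.hom

end Ext

theorem mono_stalk_pullback_iff (h : X ⟶ Y) [Flat h] (x : X) {M N : Y.Modules} (v : M ⟶ N) :
    Mono ((DerSch.stalkFunctor X x).map ((Scheme.Modules.pullback h).map v)) ↔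
      Mono ((DerSch.stalkFunctor Y (h.base x)).map v) := by
  have e := mono_map_iff_of_iso (Groth.Agent.H4.SPt5.stalkPullbackIso h x) v
  simp only [Functor.comp_map] at e
  rw [e, ModuleCat.mono_iff_injective, ModuleCat.mono_iff_injective]
  haveI : IsLocalHom (h.stalkMap x).hom := h.toLRSHom.prop x
  exact extendScalars_map_injective_iff (h.stalkMap x).hom (Flat.stalkMap h x) _

theorem epi_stalk_pullback_iff (h : X ⟶ Y) [Flat h] (x : X) {M N : Y.Modules} (v : M ⟶ N) :
    Epi ((DerSch.stalkFunctor X x).map ((Scheme.Modules.pullback h).map v)) ↔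
      Epi ((DerSch.stalkFunctor Y (h.base x)).map v) := by
  have e := epi_map_iff_of_iso (Groth.Agent.H4.SPt5.stalkPullbackIso h x) v
  simp only [Functor.comp_map] at e
  rw [e, ModuleCat.epi_iff_surjective, ModuleCat.epi_iff_surjective]
  haveI : IsLocalHom (h.stalkMap x).hom := h.toLRSHom.prop x
  exact extendScalars_map_surjective_iff (h.stalkMap x).hom (Flat.stalkMap h x) _

/-- flat pullback preserves monomorphisms -/
theorem mono_pullback_of_flat (h : X ⟶ Y) [Flat h] {M N : Y.Modules} (v : M ⟶ N) [Mono v] :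
    Mono ((Scheme.Modules.pullback h).map v) := by
  rw [mono_iff_stalk]
  intro x
  rw [mono_stalk_pullback_iff]
  infer_instance

/-- **descent of monomorphisms along a jointly surjective flat family** -/
theorem mono_iff_of_flat_cover {ι : Type*} {Z : ι → Scheme.{u}} (h : ∀ i, Z i ⟶ Y)
    [∀ i, Flat (h i)] (hs : ∀ y : Y, ∃ i, y ∈ Set.range (h i).base) {M N : Y.Modules}
    (v : M ⟶ N) : Mono v ↔ ∀ i, Mono ((Scheme.Modules.pullback (h i)).map v) := by
  constructor
  · intro _ i; exact mono_pullback_of_flat (h i) v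
  · intro H
    rw [mono_iff_stalk]
    intro y
    obtain ⟨i, x, rfl⟩ := hs y
    rw [← mono_stalk_pullback_iff (h i) x v]
    haveI := H i
    infer_instance

/-- **descent of epimorphisms along a jointly surjective flat family** -/
theorem epi_iff_of_flat_cover {ι : Type*} {Z : ι → Scheme.{u}} (h : ∀ i, Z i ⟶ Y)
    [∀ i, Flat (h i)] (hs : ∀ y : Y, ∃ i, y ∈ Set.range (h i).base) {M N : Y.Modules}
    (v : M ⟶ N) : Epi v ↔ ∀ i, Epi ((Scheme.Modules.pullback (h i)).map v) := by
  constructor
  · intro _ i; infer_instance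
  · intro H
    rw [epi_iff_stalk]
    intro y
    obtain ⟨i, x, rfl⟩ := hs y
    rw [← epi_stalk_pullback_iff (h i) x v]
    haveI := H i
    infer_instance

/-- **descent of isomorphisms along a jointly surjective flat family** -/
theorem isIso_iff_of_flat_cover {ι : Type*} {Z : ι → Scheme.{u}} (h : ∀ i, Z i ⟶ Y)
    [∀ i, Flat (h i)] (hs : ∀ y : Y, ∃ i, y ∈ Set.range (h i).base) {M N : Y.Modules}
    (v : M ⟶ N) : IsIso v ↔ ∀ i, IsIso ((Scheme.Modules.pullback (h i)).map v) := by
  constructor
  · intro _ i; infer_instance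
  · intro H
    haveI : Mono v := (mono_iff_of_flat_cover h hs v).2 (fun i => by haveI := H i; infer_instance)
    haveI : Epi v := (epi_iff_of_flat_cover h hs v).2 (fun i => by haveI := H i; infer_instance)
    exact isIso_of_mono_of_epi v

/-- **descent of vanishing of a morphism along a jointly surjective flat family** -/
theorem eq_zero_iff_of_flat_cover {ι : Type*} {Z : ι → Scheme.{u}} (h : ∀ i, Z i ⟶ Y)
    [∀ i, Flat (h i)] (hs : ∀ y : Y, ∃ i, y ∈ Set.range (h i).base) {M N : Y.Modules}
    (v : M ⟶ N) : v = 0 ↔ ∀ i, (Scheme.Modules.pullback (h i)).map v = 0 := by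
  constructor
  · intro hv i; rw [hv, Functor.map_zero]
  · intro H
    apply eq_zero_of_stalk
    intro y
    obtain ⟨i, x, rfl⟩ := hs y
    have nat := (Groth.Agent.H4.SPt5.stalkPullbackIso (h i) x).hom.naturality v
    simp only [Functor.comp_map] at nat
    rw [H i, Functor.map_zero, zero_comp] at nat
    have h2 : (ModuleCat.extendScalars.{u, u, u} ((h i).stalkMap x).hom).map
        ((DerSch.stalkFunctor Y ((h i).base x)).map v) = 0 := by
      have := congrArg (fun t => (Groth.Agent.H4.SPt5.stalkPullbackIso (h i) x).inv.app M ≫ t) nat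
      simp only [comp_zero, Iso.inv_hom_id_app_assoc] at this
      exact this.symm
    haveI : IsLocalHom ((h i).stalkMap x).hom := (h i).toLRSHom.prop x
    exact eq_zero_of_extendScalars ((h i).stalkMap x).hom (Flat.stalkMap (h i) x) _ h2

/-- transport along composition of pullbacks -/
theorem mono_pullback_comp_iff {W : Scheme.{u}} (a : W ⟶ X) (b : X ⟶ Y) {c : W ⟶ Y}
    (hc : a ≫ b = c) {M N : Y.Modules} (v : M ⟶ N) :
    Mono ((Scheme.Modules.pullback c).map v) ↔
      Mono ((Scheme.Modules.pullback a).map ((Scheme.Modules.pullback b).map v)) := by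
  subst hc
  exact (mono_map_iff_of_iso (Scheme.Modules.pullbackComp a b) v).symm

theorem epi_pullback_comp_iff {W : Scheme.{u}} (a : W ⟶ X) (b : X ⟶ Y) {c : W ⟶ Y}
    (hc : a ≫ b = c) {M N : Y.Modules} (v : M ⟶ N) :
    Epi ((Scheme.Modules.pullback c).map v) ↔
      Epi ((Scheme.Modules.pullback a).map ((Scheme.Modules.pullback b).map v)) := by
  subst hc
  exact (epi_map_iff_of_iso (Scheme.Modules.pullbackComp a b) v).symm

end Groth.Agent.LD.FF
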