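import Groth.Agent.Lib.Lead.FBC.SecTop
import Groth.Agent.Lib.Lead.FF.Descent
import Groth.Agent.Lib.Lead.QC.PushGG

/-! # Global generation descends along faithfully flat base change of an affine base. -/

universe u
open CategoryTheory Limits Opposite TopologicalSpace AlgebraicGeometry TensorProduct

namespace Groth.Agent.LD.FF
open Groth.Agent.LD.QC Groth.Agent.LD.FBC

variable {X' X : Scheme.{u}} (g' : X' ⟶ X)

/-- global generation is preserved by pullback. -/
theorem isGloballyGenerated_pullback (F : X.Modules) (hF : Curv2.IsGloballyGenerated F) :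
    Curv2.IsGloballyGenerated ((Scheme.Modules.pullback g').obj F) := by
  obtain ⟨ι, p, hp⟩ := hF
  haveI : (Scheme.Modules.pullback g').PreservesEpimorphisms :=
    Functor.preservesEpimorphisms_of_adjunction (Scheme.Modules.pullbackPushforwardAdjunction g')
  let p' : (SheafOfModules.free ι : X.Modules) ⟶ F := p
  haveI h1 : Epi ((Scheme.Modules.pullback g').map p') :=
    @Functor.map_epi _ _ _ _ (Scheme.Modules.pullback g') _ _ _ p' hp
  have h3 : Epi ((pbFreeIso g' ι).inv ≫ (Scheme.Modules.pullback g').map p') :=
    @epi_comp _ _ _ _ _ _ _ _ h1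
  exact ⟨ι, _, h3⟩

/-- the free module as an object of `X.Modules`. -/
noncomputable abbrev freeOn (X : Scheme.{u}) (ι : Type u) : X.Modules :=
  ∐ (fun _ : ι => unitMod X)

/-- the coprojections. -/
noncomputable abbrev ιOn (X : Scheme.{u}) {ι : Type u} (i : ι) : unitMod X ⟶ freeOn X ι :=
  Sigma.ι (fun _ : ι => unitMod X) i

/-- the tautological morphism from the free module on all global sections. -/
noncomputable def allSections (F : X.Modules) : freeOn X (Γ(F, ⊤) : Type u) ⟶ F :=
  Sigma.desc (fun s : Γ(F, ⊤) => homOfSection F s)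

lemma ιOn_allSections (F : X.Modules) (s : Γ(F, ⊤)) :
    ιOn X s ≫ allSections F = homOfSection F s :=
  Sigma.ι_desc _ _

/-- every global section is the image of a global section of the free module. -/
lemma exists_allSections (F : X.Modules) (s : Γ(F, ⊤)) :
    ∃ e : Γ(freeOn X (Γ(F, ⊤) : Type u), ⊤), (allSections F).app ⊤ e = s := by
  refine ⟨sectionOfHom (ιOn X s), ?_⟩
  have h1 := ιOn_allSections F s
  exact (congrArg sectionOfHom h1).trans (sectionOfHom_homOfSection F s)

/-- `F` is globally generated iff the tautological morphism is an epimorphism. -/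
theorem isGloballyGenerated_iff_allSections (F : X.Modules) :
    Curv2.IsGloballyGenerated F ↔ Epi (allSections F) := by
  constructor
  · rintro ⟨ι, p, hp⟩
    let p' : freeOn X ι ⟶ F := p
    let q : freeOn X ι ⟶ freeOn X (Γ(F, ⊤) : Type u) :=
      Sigma.desc (fun i => ιOn X (sectionOfHom (ιOn X i ≫ p')))
    have hq : q ≫ allSections F = p' := by
      apply Sigma.hom_ext
      intro i
      have h1 : ιOn X i ≫ q = ιOn X (sectionOfHom (ιOn X i ≫ p')) := Sigma.ι_desc _ _
      calc ιOn X i ≫ q ≫ allSections F = (ιOn X i ≫ q) ≫ allSections F :=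
            (Category.assoc _ _ _).symm
        _ = ιOn X (sectionOfHom (ιOn X i ≫ p')) ≫ allSections F := by rw [h1]
        _ = homOfSection F (sectionOfHom (ιOn X i ≫ p')) := ιOn_allSections F _
        _ = ιOn X i ≫ p' := homOfSection_sectionOfHom _
    haveI : Epi p' := hp
    haveI : Epi (q ≫ allSections F) := by rw [hq]; infer_instance
    exact epi_of_epi q _
  · intro h
    exact ⟨_, allSections F, h⟩

end Groth.Agent.LD.FF

namespace Groth.Agent.LD.FF
open Groth.Agent.LD.QC Groth.Agent.LD.FBC

section Main

variable {A B : Type u} [CommRing A] [CommRing B] [Algebra A B]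
variable {X' X : Scheme.{u}} (f : X ⟶ Spec (CommRingCat.of A)) (f' : X' ⟶ Spec (CommRingCat.of B))
  (g' : X' ⟶ X)
  (h : IsPullback g' f' f (Spec.map (CommRingCat.ofHom (algebraMap A B))))

include h in
/-- every global section of `g'^* F` lifts along the pullback of the tautological morphism. -/
lemma exists_lift_pullback_allSections [Module.Flat A B] [CompactSpace X] [QuasiSeparatedSpace X]
    (F : X.Modules) [F.IsQuasicoherent]
    (t : Γ((Scheme.Modules.pullback g').obj F, g' ⁻¹ᵁ ⊤)) :
    ∃ e : Γ((Scheme.Modules.pullback g').obj (freeOn X (Γ(F, ⊤) : Type u)), g' ⁻¹ᵁ ⊤),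
      ((Scheme.Modules.pullback g').map (allSections F)).app (g' ⁻¹ᵁ ⊤) e = t := by
  obtain ⟨z, rfl⟩ := (bijective_secMap_top f f' g' h F).2 t
  induction z using TensorProduct.induction_on with
  | zero => exact ⟨0, by rw [map_zero, map_zero]⟩
  | add x y hx hy =>
    obtain ⟨a, ha⟩ := hx
    obtain ⟨b, hb⟩ := hy
    exact ⟨a + b, by rw [map_add, ha, hb, map_add]⟩
  | tmul b s =>
    obtain ⟨e, he⟩ := exists_allSections F s
    refine ⟨resΓ X' (g' ⁻¹ᵁ ⊤) (Coh.toGlobal f' b) • unitSec g' _ ⊤ e, ?_⟩
    rw [secMap_tmul, Scheme.Modules.Hom.app_smul, unitSec_naturality]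
    exact congrArg (fun t => resΓ X' (g' ⁻¹ᵁ ⊤) (Coh.toGlobal f' b) • unitSec g' F ⊤ t) he

include h in
/-- the pullback of the tautological morphism of `F` is an epimorphism as soon as `g'^* F` is
globally generated. -/
theorem epi_pullback_allSections [Module.Flat A B] [CompactSpace X] [QuasiSeparatedSpace X]
    (F : X.Modules) [F.IsQuasicoherent]
    (hG : Curv2.IsGloballyGenerated ((Scheme.Modules.pullback g').obj F)) :
    Epi ((Scheme.Modules.pullback g').map (allSections F)) := by
  obtain ⟨ι, p, hp⟩ := hG
  let p' : freeOn X' ι ⟶ (Scheme.Modules.pullback g').obj F := p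
  have key : ∀ i : ι, ∃ e : Γ((Scheme.Modules.pullback g').obj (freeOn X (Γ(F, ⊤) : Type u)), ⊤),
      ((Scheme.Modules.pullback g').map (allSections F)).app ⊤ e = sectionOfHom (ιOn X' i ≫ p') :=
    fun i => exists_lift_pullback_allSections f f' g' h F (sectionOfHom (ιOn X' i ≫ p'))
  choose e he using key
  let q : freeOn X' ι ⟶ (Scheme.Modules.pullback g').obj (freeOn X (Γ(F, ⊤) : Type u)) :=
    Sigma.desc (fun i => homOfSection _ (e i))
  have hq : q ≫ (Scheme.Modules.pullback g').map (allSections F) = p' := by
    apply Sigma.hom_ext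
    intro i
    have h1 : ιOn X' i ≫ q = homOfSection _ (e i) := Sigma.ι_desc _ _
    calc ιOn X' i ≫ q ≫ (Scheme.Modules.pullback g').map (allSections F)
        = (ιOn X' i ≫ q) ≫ (Scheme.Modules.pullback g').map (allSections F) :=
          (Category.assoc _ _ _).symm
      _ = homOfSection _ (e i) ≫ (Scheme.Modules.pullback g').map (allSections F) := by rw [h1]
      _ = homOfSection _ (((Scheme.Modules.pullback g').map (allSections F)).app ⊤ (e i)) :=
          homOfSection_comp _ _
      _ = homOfSection _ (sectionOfHom (ιOn X' i ≫ p')) := by rw [he i]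
      _ = ιOn X' i ≫ p' := homOfSection_sectionOfHom _
  haveI : Epi p' := hp
  haveI : Epi (q ≫ (Scheme.Modules.pullback g').map (allSections F)) := by
    rw [hq]; infer_instance
  exact epi_of_epi q _

include h in
/-- **global generation descends along faithfully flat base change of the affine base.** -/
theorem isGloballyGenerated_iff_pullback [Module.FaithfullyFlat A B] [CompactSpace X]
    [QuasiSeparatedSpace X] (F : X.Modules) [F.IsQuasicoherent] :
    Curv2.IsGloballyGenerated F ↔
      Curv2.IsGloballyGenerated ((Scheme.Modules.pullback g').obj F) := by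
  refine ⟨isGloballyGenerated_pullback g' F, fun hG => ?_⟩
  have h1 := epi_pullback_allSections f f' g' h F hG
  have hfs : Flat (Spec.map (CommRingCat.ofHom (algebraMap A B))) ∧
      Surjective (Spec.map (CommRingCat.ofHom (algebraMap A B))) := by
    rw [flat_and_surjective_SpecMap_iff]
    exact (RingHom.faithfullyFlat_algebraMap_iff).mpr inferInstance
  haveI := hfs.1
  haveI := hfs.2
  haveI : Flat g' := MorphismProperty.of_isPullback (P := @Flat) h.flip inferInstance
  haveI : Surjective g' := MorphismProperty.of_isPullback (P := @Surjective) h.flip inferInstance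
  rw [isGloballyGenerated_iff_allSections]
  refine (epi_iff_of_flat_cover (fun _ : Unit => g') (fun y => ⟨(), g'.surjective y⟩)
    (allSections F)).2 (fun _ => h1)

end Main

end Groth.Agent.LD.FF
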