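import Groth.Agent.Lib.Lead.FF.ML
import Groth.Agent.Lib.Helper5.FormalAlg

/-! # The theorem on formal functions -/

universe u
open CategoryTheory Limits Opposite TopologicalSpace AlgebraicGeometry

namespace Groth.Agent.LD.FF

variable {A : Type u} [CommRing A] {X : Scheme.{u}} [X.Over (Spec (CommRingCat.of A))]

section basic
variable (I : Ideal A) (F : X.Modules) (p : ℕ)

lemma smulMod_modPow_eq_zero (n : ℕ) (a : A) (ha : a ∈ I ^ n) :
    Formal.smulMod A (Formal.modPow I n F) a = 0 := by
  haveI : Epi (Formal.modPowπ I n F) := by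
    change Epi (cokernel.π (Formal.smulFamily (I ^ n) F))
    infer_instance
  rw [← cancel_epi (Formal.modPowπ I n F), comp_smulMod, comp_zero]
  have h1 : Formal.smulMod A F a =
      Sigma.ι (fun _ : ↥(I ^ n) => F) ⟨a, ha⟩ ≫ Formal.smulFamily (I ^ n) F := by
    unfold Formal.smulFamily
    rw [Sigma.ι_desc]
  rw [h1, Category.assoc]
  have h2 : Formal.smulFamily (I ^ n) F ≫ Formal.modPowπ I n F = 0 :=
    cokernel.condition _
  rw [h2, comp_zero]

/-- the transition maps of the system `(H^p(F/I^(n+1)F))_n`. -/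
noncomputable def trH {n k : ℕ} (h : n ≤ k) :
    Formal.HHmodPow I F p k →+ Formal.HHmodPow I F p n :=
  Sheaf.H.map ((SheafOfModules.toSheaf X.ringCatSheaf).map
    ((Formal.completion I F).map (homOfLE h).op)) p

lemma trH_apply {n k : ℕ} (h : n ≤ k) (y : Formal.HHmodPow I F p k) :
    trH I F p h y = CL.HHmap A ((Formal.completion I F).map (homOfLE h).op) p y := rfl

lemma trH_trans {n k l : ℕ} (h1 : n ≤ k) (h2 : k ≤ l) (y : Formal.HHmodPow I F p l) :
    trH I F p h1 (trH I F p h2 y) = trH I F p (h1.trans h2) y := by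
  rw [trH_apply, trH_apply, trH_apply]
  have h3 : (homOfLE (h1.trans h2)).op = (homOfLE h2).op ≫ (homOfLE h1).op :=
    Subsingleton.elim _ _
  rw [h3, CategoryTheory.Functor.map_comp]
  exact (CL.HHmap_comp_apply A _ _ p y).symm

lemma trH_refl (n : ℕ) (y : Formal.HHmodPow I F p n) : trH I F p (le_refl n) y = y := by
  rw [trH_apply]
  have h3 : (homOfLE (le_refl n)).op = 𝟙 (op n) := Subsingleton.elim _ _
  rw [h3, CategoryTheory.Functor.map_id]
  have := CL.HHmap_id A ((Formal.completion I F).obj (op n)) p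
  exact LinearMap.congr_fun this y

lemma trH_q {n k : ℕ} (h : n ≤ k) (x : Coh.HH X F p) :
    trH I F p h (Formal.toHHmodPow I F p k x) = Formal.toHHmodPow I F p n x := by
  change CL.HHmap A ((Formal.completion I F).map (homOfLE h).op) p
    (CL.HHmap A (πc I F k) p x) = CL.HHmap A (πc I F n) p x
  rw [← CL.HHmap_comp_apply, πc_map]

lemma q_kill (n : ℕ) : ∀ x ∈ (I ^ (n + 1) • ⊤ : Submodule A (Coh.HH X F p)),
    Formal.toHHmodPow I F p n x = 0 := by
  intro x hx
  refine Submodule.smul_induction_on hx ?_ ?_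
  · intro a ha h _
    change CL.HHmap A (Formal.modPowπ I (n + 1) F) p (a • h) = 0
    rw [LinearMap.map_smul, ← CL.HHmap_smulMod, smulMod_modPow_eq_zero I F (n + 1) a ha,
      CL.HHmap_zero]
    rfl
  · intro x y hx hy
    rw [map_add, hx, hy, add_zero]

lemma trH_succ (n : ℕ) : trH I F p (Nat.le_succ n) = Formal.HHmodPowTrans I F p n := by
  have h2 : (Formal.completion I F).map (homOfLE (Nat.le_succ n)).op =
      Formal.modPowTrans I (n + 1) F := by
    unfold Formal.completion
    exact Functor.ofOpSequence_map_homOfLE_succ _ n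
  exact congrArg (fun φ => Sheaf.H.map ((SheafOfModules.toSheaf X.ringCatSheaf).map φ) p) h2

lemma toHHlim_val (x : Coh.HH X F p) (n : ℕ) :
    ((Formal.toHHlim I F p x : Formal.HHlim I F p) : ∀ n, Formal.HHmodPow I F p n) n =
      Formal.toHHmodPow I F p n x := rfl

lemma limSub_eq_HHlim :
    Groth.Agent.H5.FormalAlg.limSub (fun n => Formal.HHmodPow I F p n)
      (fun {n k} h => trH I F p h) = Formal.HHlim I F p := by
  ext x
  change (∀ n, trH I F p (Nat.le_succ n) (x (n + 1)) = x n) ↔
    ∀ n, Formal.HHmodPowTrans I F p n (x (n + 1)) = x n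
  simp only [trH_succ]

end basic

variable [IsNoetherianRing A] (hN : NoethHyp.{u}) [IsLocallyNoetherian X] [CompactSpace X]
  (hfin : FinHyp X A) (I : Ideal A) (F : X.Modules) (hF : Coh.IsCoh F) (p : ℕ)

include hN hfin hF in
lemma q_AR : ∃ c, ∀ n, c ≤ n → ∀ x, Formal.toHHmodPow I F p n x = 0 →
    x ∈ (I ^ (n - c) • ⊤ : Submodule A (Coh.HH X F p)) := by
  obtain ⟨c, hc⟩ := ker_toHHmodPow_le hN hfin I F hF p
  exact ⟨c, fun n hn x hx => hc n hn ((AddMonoidHom.mem_ker).mpr hx)⟩

include hN hfin hF in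
lemma q_ML : ∃ c, ∀ n k (h : n ≤ k), n + c ≤ k → ∀ y : Formal.HHmodPow I F p k,
    ∃ x : Coh.HH X F p, Formal.toHHmodPow I F p n x = trH I F p h y := by
  obtain ⟨c, hc⟩ := range_eq_range_toHHmodPow hN hfin I F hF p
  refine ⟨c, fun n k h hnk y => ?_⟩
  have h1 : trH I F p h y ∈ Set.range (Formal.toHHmodPow I F p n) := by
    rw [← hc n k h hnk]
    exact ⟨y, rfl⟩
  exact h1

include hN hfin hF in
/-- **Theorem on formal functions**, completion form. -/
theorem nonempty_adicCompletion_addEquiv_HHlim :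
    Nonempty (AdicCompletion I (Coh.HH X F p) ≃+ Formal.HHlim I F p) := by
  rw [← limSub_eq_HHlim I F p]
  exact Groth.Agent.H5.FormalAlg.nonempty_adicCompletion_addEquiv_lim I (Coh.HH X F p)
    (fun n => Formal.HHmodPow I F p n) (fun {n k} h => trH I F p h)
    (fun h1 h2 y => trH_trans I F p h1 h2 y) (fun n y => trH_refl I F p n y)
    (fun n => Formal.toHHmodPow I F p n) (fun h x => trH_q I F p h x)
    (fun n => q_kill I F p n) (q_AR hN hfin I F hF p) (q_ML hN hfin I F hF p)

include hN hfin hF in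
/-- **Theorem on formal functions** over a complete base. -/
theorem bijective_toHHlim [IsAdicComplete I A] :
    Function.Bijective (Formal.toHHlim I F p) := by
  haveI : Module.Finite A (Coh.HH X F p) := hfin F hF p
  have key := Groth.Agent.H5.FormalAlg.bijective_toLim' I (Coh.HH X F p)
    (fun n => Formal.HHmodPow I F p n) (fun {n k} h => trH I F p h)
    (fun h1 h2 y => trH_trans I F p h1 h2 y) (fun n y => trH_refl I F p n y)
    (fun n => Formal.toHHmodPow I F p n) (fun h x => trH_q I F p h x)
    (fun n => q_kill I F p n) (q_AR hN hfin I F hF p) (q_ML hN hfin I F hF p)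
  constructor
  · intro x y hxy
    have hn : ∀ n, Formal.toHHmodPow I F p n x = Formal.toHHmodPow I F p n y := by
      intro n
      have := congrArg (fun z : Formal.HHlim I F p =>
        (z : ∀ n, Formal.HHmodPow I F p n) n) hxy
      simpa only [toHHlim_val] using this
    apply key.1
    exact Subtype.ext (funext hn)
  · intro y
    have hy : ∀ n, trH I F p (Nat.le_succ n) (y.1 (n + 1)) = y.1 n := by
      intro n
      rw [trH_succ]
      exact y.2 n
    obtain ⟨x, hx⟩ := key.2 ⟨y.1, hy⟩
    refine ⟨x, ?_⟩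
    have hn : ∀ n, Formal.toHHmodPow I F p n x = y.1 n := by
      intro n
      exact congrFun (congrArg Subtype.val hx) n
    apply Subtype.ext
    funext n
    rw [toHHlim_val]
    exact hn n

end Groth.Agent.LD.FF
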