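import Groth.Agent.Lib.Lead.FF.NoethHyp
import Groth.Agent.Lib.Helper5.GradedFam

/-! # The Noetherian lemma for graded families (helper5) -/

universe u

namespace Groth.Agent.LD.FF

theorem noethHyp : NoethHyp.{u} := by
  intro R _ _ s H _ _ _ T hcomm k₀ hgen H' hstab
  exact Groth.Agent.H5.GradedFam.exists_eventually_generated_sub H T hcomm k₀ hgen H' hstab

end Groth.Agent.LD.FF
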