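import Mathlib.Algebra.Module.LinearMap.Basic
import Mathlib.Algebra.BigOperators.Group.Finset.Basic
import Mathlib.Algebra.Module.Submodule.Range
import Mathlib.LinearAlgebra.Span.Basic
import Mathlib.Algebra.BigOperators.Fin
import Mathlib.Tactic.Abel

/-! # The diagram chase for graded families

Pure algebra: `H k → Z k → H (k+1)` factoring the last operator, with the two long exact
sequences `Z k → D k` (connecting map) and `H (k+1) → E k`. -/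

namespace Groth.Agent.LD.FF

open Finset

theorem chase {A : Type*} [CommRing A] {s : ℕ}
    {H Z D E : ℕ → Type*}
    [∀ k, AddCommGroup (H k)] [∀ k, Module A (H k)]
    [∀ k, AddCommGroup (Z k)] [∀ k, Module A (Z k)]
    [∀ k, AddCommGroup (D k)] [∀ k, Module A (D k)]
    [∀ k, AddCommGroup (E k)] [∀ k, Module A (E k)]
    (α : ∀ k, H k →ₗ[A] Z k) (β : ∀ k, Z k →ₗ[A] H (k + 1))
    (δ : ∀ k, Z k →ₗ[A] D k) (γ : ∀ k, H (k + 1) →ₗ[A] E k)
    (τH : Fin s → ∀ k, H k →ₗ[A] H (k + 1)) (τZ : Fin s → ∀ k, Z k →ₗ[A] Z (k + 1))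
    (τD : Fin s → ∀ k, D k →ₗ[A] D (k + 1)) (τE : Fin s → ∀ k, E k →ₗ[A] E (k + 1))
    (exδ : ∀ k z, δ k z = 0 → ∃ w, α k w = z)
    (exγ : ∀ k x, γ k x = 0 → ∃ z, β k z = x)
    (hδ : ∀ i k z, δ (k + 1) (τZ i k z) = τD i k (δ k z))
    (hγ : ∀ i k x, γ (k + 1) (τH i (k + 1) x) = τE i k (γ k x))
    (hβ : ∀ i k z, β (k + 1) (τZ i k z) = τH i (k + 1) (β k z))
    (k₁ : ℕ)
    (genD : ∀ k, k₁ ≤ k → ∀ z : Z (k + 1), ∃ z' : Fin s → Z k,
      δ (k + 1) z = ∑ i, τD i k (δ k (z' i)))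
    (genE : ∀ k, k₁ ≤ k → ∀ x : H (k + 1 + 1), ∃ x' : Fin s → H (k + 1),
      γ (k + 1) x = ∑ i, τE i k (γ k (x' i))) :
    ∀ k, k₁ ≤ k → ∀ x : H (k + 1 + 1), ∃ (y : Fin s → H (k + 1)) (w : H (k + 1)),
      x = ∑ i, τH i (k + 1) (y i) + β (k + 1) (α (k + 1) w) := by
  intro k hk x
  obtain ⟨x', hx'⟩ := genE k hk x
  have h1 : γ (k + 1) (x - ∑ i, τH i (k + 1) (x' i)) = 0 := by
    rw [map_sub, map_sum, hx', sub_eq_zero]
    exact Finset.sum_congr rfl fun i _ => (hγ i k (x' i)).symm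
  obtain ⟨z, hz⟩ := exγ (k + 1) _ h1
  obtain ⟨z', hz'⟩ := genD k hk z
  have h2 : δ (k + 1) (z - ∑ i, τZ i k (z' i)) = 0 := by
    rw [map_sub, map_sum, hz', sub_eq_zero]
    exact Finset.sum_congr rfl fun i _ => (hδ i k (z' i)).symm
  obtain ⟨w, hw⟩ := exδ (k + 1) _ h2
  refine ⟨fun i => x' i + β k (z' i), w, ?_⟩
  have h3 : β (k + 1) z = β (k + 1) (α (k + 1) w) + ∑ i, τH i (k + 1) (β k (z' i)) := by
    rw [hw, map_sub, map_sum]
    have : ∑ i, β (k + 1) (τZ i k (z' i)) = ∑ i, τH i (k + 1) (β k (z' i)) :=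
      Finset.sum_congr rfl fun i _ => hβ i k (z' i)
    rw [this]; abel
  have h4 : x = ∑ i, τH i (k + 1) (x' i) + β (k + 1) z := by rw [hz]; abel
  rw [h4, h3]
  simp only [map_add, Finset.sum_add_distrib]
  abel

end Groth.Agent.LD.FF
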