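import Groth.Agent.Lib.Lead.CohLES.Basic

/-! # Naturality of the connecting homomorphism of coherent cohomology -/

universe u
open CategoryTheory Limits Opposite Abelian TopologicalSpace AlgebraicGeometry

namespace Groth.Agent.LD.CL

variable {X : Scheme.{u}} (A : Type u) [CommRing A] [X.Over (Spec (CommRingCat.of A))]

theorem HHδ_naturality {S S' : ShortComplex X.Modules} (hS : S.ShortExact) (hS' : S'.ShortExact)
    (φ : S ⟶ S') (i : ℕ) (x : Coh.HH X S.X₃ i) :
    HHδ hS' A i (HHmap A φ.τ₃ i x) = HHmap A φ.τ₁ (i + 1) (HHδ hS A i x) := by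
  let f : S.map (SC.toAbF X) ⟶ S'.map (SC.toAbF X) := (SC.toAbF X).mapShortComplex.map φ
  have h := ShortComplex.ShortExact.extClass_naturality.{u, u, u+1}
    (C := Sheaf (SC.JX X) AddCommGrpCat.{u}) (SC.shortExact_toSheaf hS)
    (SC.shortExact_toSheaf hS') f
  change (x.comp (Ext.mk₀ ((SheafOfModules.toSheaf X.ringCatSheaf).map φ.τ₃)) (add_zero i)).comp
      (SC.shortExact_toSheaf hS').extClass rfl =
    (x.comp (SC.shortExact_toSheaf hS).extClass rfl).comp
      (Ext.mk₀ ((SheafOfModules.toSheaf X.ringCatSheaf).map φ.τ₁)) (add_zero (i+1))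
  rw [Ext.comp_assoc _ _ _ (add_zero i) (zero_add 1) (show i + 0 + 1 = i + 1 by omega),
    Ext.comp_assoc _ _ _ rfl (add_zero 1) (show i + 1 + 0 = i + 1 by omega)]
  congr 1
  exact h.symm

theorem HHmap_zero {M N : X.Modules} (i : ℕ) : HHmap A (0 : M ⟶ N) i = 0 := by
  have := HHmap_sum A (∅ : Finset Unit) (fun _ => (0 : M ⟶ N)) i
  rw [Finset.sum_empty, Finset.sum_empty] at this
  exact this

theorem HHmap_comp_apply {M N P : X.Modules} (φ : M ⟶ N) (ψ : N ⟶ P) (i : ℕ)
    (x : Coh.HH X M i) : HHmap A (φ ≫ ψ) i x = HHmap A ψ i (HHmap A φ i x) := by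
  rw [HHmap_comp]; rfl

end Groth.Agent.LD.CL
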