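import Groth.Agent.Lib.Lead.FF.Local
import Groth.Agent.Lib.Lead.FF.Chase
import Groth.Agent.Lib.Lead.FF.DeltaNat
import Groth.Agent.Lib.Lead.KS.Chase

/-! # Cohomology of an eventually generated coherent graded family is eventually generated

Induction on the number of operators (no base change to the Rees algebra). -/

universe u
open CategoryTheory Limits Opposite TopologicalSpace AlgebraicGeometry

namespace Groth.Agent.LD.FF

variable {X : Scheme.{u}} (A : Type u) [CommRing A] [X.Over (Spec (CommRingCat.of A))]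

/-- finiteness of the cohomology of coherent modules. -/
def FinHyp (X : Scheme.{u}) (A : Type u) [CommRing A] [X.Over (Spec (CommRingCat.of A))] : Prop :=
  ∀ (M : X.Modules), Coh.IsCoh M → ∀ n, Module.Finite A (Coh.HH X M n)

/-- the cohomology in degree `p` of the family is generated by the operators from degree `k₁` on. -/
def HGen {s : ℕ} (𝓝 : GFam X s) (p k₁ : ℕ) : Prop :=
  ∀ k, k₁ ≤ k → ∀ x : Coh.HH X (𝓝.N (k + 1)) p,
    ∃ y : Fin s → Coh.HH X (𝓝.N k) p, x = ∑ i, CL.HHmap A (𝓝.T i k) p (y i)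

variable {A}

/-- stable sub-families of the cohomology of an `HGen` family are eventually generated. -/
lemma subfamily_gen [IsNoetherianRing A] (hN : NoethHyp.{u}) (hfin : FinHyp X A) {s : ℕ}
    (𝓜 : GFam X s) (hcoh : 𝓜.IsCoh) (q k₂ : ℕ) (hM : HGen A 𝓜 q k₂)
    (W : ℕ → Type u) [∀ k, AddCommGroup (W k)] [∀ k, Module A (W k)]
    (f : ∀ k, W k →ₗ[A] Coh.HH X (𝓜.N k) q)
    (hf : ∀ i k w, ∃ w', CL.HHmap A (𝓜.T i k) q (f k w) = f (k + 1) w') :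
    ∃ k₁, ∀ k, k₁ ≤ k → ∀ w : W (k + 1), ∃ w' : Fin s → W k,
      f (k + 1) w = ∑ i, CL.HHmap A (𝓜.T i k) q (f k (w' i)) := by
  haveI : ∀ k, Module.Finite A (Coh.HH X (𝓜.N k) q) := fun k => hfin _ (hcoh k) q
  have hcomm : ∀ i j k (x : Coh.HH X (𝓜.N k) q),
      CL.HHmap A (𝓜.T i (k + 1)) q (CL.HHmap A (𝓜.T j k) q x) =
        CL.HHmap A (𝓜.T j (k + 1)) q (CL.HHmap A (𝓜.T i k) q x) := by
    intro i j k x
    rw [← CL.HHmap_comp_apply, ← CL.HHmap_comp_apply, 𝓜.comm]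
  have hgen : ∀ k, k₂ ≤ k → ⨆ i, LinearMap.range (CL.HHmap A (𝓜.T i k) q) = ⊤ := by
    intro k hk
    rw [iSup_range_eq_top_iff]
    exact hM k hk
  obtain ⟨k₁, hk₁⟩ := hN (fun k => Coh.HH X (𝓜.N k) q) (fun i k => CL.HHmap A (𝓜.T i k) q)
    hcomm k₂ hgen (fun k => LinearMap.range (f k)) (by
      rintro i k _ ⟨w, rfl⟩
      obtain ⟨w', hw'⟩ := hf i k w
      exact ⟨w', hw'.symm⟩)
  refine ⟨k₁, fun k hk w => ?_⟩
  have h := hk₁ k hk (f (k + 1) w) ⟨w, rfl⟩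
  rw [mem_iSup_map_iff] at h
  obtain ⟨z, hz, hzs⟩ := h
  choose w' hw' using hz
  refine ⟨w', hzs.trans (Finset.sum_congr rfl fun i _ => ?_)⟩
  rw [hw']


section step

variable {s : ℕ} (𝓝 : GFam X (s + 1)) (p : ℕ)

/-- the square of the last operator against the `i`-th one, on images. -/
noncomputable def imT (i : Fin s) (k : ℕ) :
    Abelian.image (𝓝.last k) ⟶ Abelian.image (𝓝.last (k + 1)) :=
  imMap (𝓝.last k) (𝓝.last (k + 1)) (𝓝.τ i k) (𝓝.τ i (k + 1)) (𝓝.sq i k)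

variable (A) in
/-- the connecting maps `H^p(im t_k) → H^{p+1}(ker t_k)`. -/
noncomputable def dlt (k : ℕ) :
    Coh.HH X (Abelian.image (𝓝.last k)) p →ₗ[A] Coh.HH X (𝓝.kerFam.N k) (p + 1) :=
  CL.HHδ (sc₁_shortExact (𝓝.last k)) A p

lemma dlt_nat (i : Fin s) (k : ℕ) (z : Coh.HH X (Abelian.image (𝓝.last k)) p) :
    dlt A 𝓝 p (k + 1) (CL.HHmap A (imT 𝓝 i k) p z) =
      CL.HHmap A (𝓝.kerFam.T i k) (p + 1) (dlt A 𝓝 p k z) :=
  CL.HHδ_naturality A (sc₁_shortExact (𝓝.last k)) (sc₁_shortExact (𝓝.last (k + 1)))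
    (sc₁Map (𝓝.last k) (𝓝.last (k + 1)) (𝓝.τ i k) (𝓝.τ i (k + 1)) (𝓝.sq i k)) p z

lemma dlt_exact (k : ℕ) (z : Coh.HH X (Abelian.image (𝓝.last k)) p) (hz : dlt A 𝓝 p k z = 0) :
    ∃ w : Coh.HH X (𝓝.N k) p, CL.HHmap A (Abelian.factorThruImage (𝓝.last k)) p w = z :=
  CL.exact₃ (sc₁_shortExact (𝓝.last k)) A p z hz

lemma gam_exact (k : ℕ) (x : Coh.HH X (𝓝.N (k + 1)) p)
    (hx : CL.HHmap A (cokernel.π (𝓝.last k)) p x = 0) :
    ∃ z : Coh.HH X (Abelian.image (𝓝.last k)) p,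
      CL.HHmap A (Abelian.image.ι (𝓝.last k)) p z = x :=
  CL.exact₂ (sc₂_shortExact (𝓝.last k)) A p x hx

/-- the projection to the cokernel family. -/
noncomputable def cπ (k : ℕ) : 𝓝.N (k + 1) ⟶ 𝓝.cokerFam.N k := cokernel.π (𝓝.last k)

lemma cπ_T (i : Fin s) (k : ℕ) :
    cπ 𝓝 k ≫ 𝓝.cokerFam.T i k = 𝓝.τ i (k + 1) ≫ cπ 𝓝 (k + 1) := GFam.π_cokerFam_T 𝓝 i k

lemma gam_nat (i : Fin s) (k : ℕ) (x : Coh.HH X (𝓝.N (k + 1)) p) :
    CL.HHmap A (cπ 𝓝 (k + 1)) p (CL.HHmap A (𝓝.τ i (k + 1)) p x) =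
      CL.HHmap A (𝓝.cokerFam.T i k) p (CL.HHmap A (cπ 𝓝 k) p x) := by
  rw [← CL.HHmap_comp_apply, ← CL.HHmap_comp_apply, cπ_T]

lemma gam_exact' (k : ℕ) (x : Coh.HH X (𝓝.N (k + 1)) p)
    (hx : CL.HHmap A (cπ 𝓝 k) p x = 0) :
    ∃ z : Coh.HH X (Abelian.image (𝓝.last k)) p,
      CL.HHmap A (Abelian.image.ι (𝓝.last k)) p z = x :=
  gam_exact 𝓝 p k x hx

lemma bet_nat (i : Fin s) (k : ℕ) (z : Coh.HH X (Abelian.image (𝓝.last k)) p) :
    CL.HHmap A (Abelian.image.ι (𝓝.last (k + 1))) p (CL.HHmap A (imT 𝓝 i k) p z) =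
      CL.HHmap A (𝓝.τ i (k + 1)) p (CL.HHmap A (Abelian.image.ι (𝓝.last k)) p z) := by
  rw [← CL.HHmap_comp_apply, ← CL.HHmap_comp_apply]
  congr 2
  exact imMap_ι _ _ _ _ _

lemma bet_alp (k : ℕ) (w : Coh.HH X (𝓝.N k) p) :
    CL.HHmap A (Abelian.image.ι (𝓝.last k)) p
      (CL.HHmap A (Abelian.factorThruImage (𝓝.last k)) p w) = CL.HHmap A (𝓝.last k) p w := by
  rw [← CL.HHmap_comp_apply, Abelian.image.fac]

end step

/-- **Theorem G**: the cohomology of an eventually generated coherent graded family is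
eventually generated. -/
theorem exists_HGen [IsNoetherianRing A] (hN : NoethHyp.{u}) [IsLocallyNoetherian X]
    (hfin : FinHyp X A) {𝒰 : Set X.Opens} (h𝒰 : ∀ U ∈ 𝒰, IsAffineOpen U) (hfin𝒰 : 𝒰.Finite)
    (hcov : ∀ x : X, ∃ U ∈ 𝒰, x ∈ U) :
    ∀ (s : ℕ) (𝓝 : GFam X s), 𝓝.IsCoh → ∀ k₀, 𝓝.EvGen 𝒰 k₀ → ∀ p, ∃ k₁, HGen A 𝓝 p k₁ := by
  intro s
  induction s with
  | zero =>
    intro 𝓝 hcoh k₀ hg p
    refine ⟨k₀, fun k hk x => ⟨fun i => i.elim0, ?_⟩⟩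
    have hZ : IsZero (𝓝.N (k + 1)) := by
      haveI := (hcoh (k + 1)).1
      apply QC.isZero_of_affine_cover
      intro x
      obtain ⟨U, hU, hxU⟩ := hcov x
      refine ⟨U, h𝒰 U hU, hxU, fun t => ?_⟩
      obtain ⟨y, hy⟩ := hg k hk U hU t
      rw [hy]
      exact Fin.sum_univ_zero _
    haveI := CL.subsingleton_HH_of_isZero hZ p
    exact Subsingleton.elim _ _
  | succ s ih =>
    intro 𝓝 hcoh k₀ hg p
    obtain ⟨kK, hK⟩ := GFam.kerFam_evGen hN hcoh h𝒰 hfin𝒰 hg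
    have hC := GFam.cokerFam_evGen hcoh h𝒰 hg
    obtain ⟨k₂, hD⟩ := ih 𝓝.kerFam (GFam.kerFam_isCoh hcoh) kK hK (p + 1)
    obtain ⟨k₃, hE⟩ := ih 𝓝.cokerFam (GFam.cokerFam_isCoh hcoh) k₀ hC p
    obtain ⟨k₄, genD⟩ := subfamily_gen hN hfin 𝓝.kerFam (GFam.kerFam_isCoh hcoh) (p + 1) k₂ hD
      (fun k => Coh.HH X (Abelian.image (𝓝.last k)) p) (fun k => dlt A 𝓝 p k)
      (fun i k w => ⟨CL.HHmap A (imT 𝓝 i k) p w, (dlt_nat 𝓝 p i k w).symm⟩)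
    obtain ⟨k₅, genE⟩ := subfamily_gen hN hfin 𝓝.cokerFam (GFam.cokerFam_isCoh hcoh) p k₃ hE
      (fun k => Coh.HH X (𝓝.N (k + 1)) p) (fun k => CL.HHmap A (cπ 𝓝 k) p)
      (fun i k w => ⟨CL.HHmap A (𝓝.τ i (k + 1)) p w, (gam_nat 𝓝 p i k w).symm⟩)
    have key := chase (A := A) (s := s)
      (H := fun k => Coh.HH X (𝓝.N k) p)
      (Z := fun k => Coh.HH X (Abelian.image (𝓝.last k)) p)
      (D := fun k => Coh.HH X (𝓝.kerFam.N k) (p + 1))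
      (E := fun k => Coh.HH X (𝓝.cokerFam.N k) p)
      (fun k => CL.HHmap A (Abelian.factorThruImage (𝓝.last k)) p)
      (fun k => CL.HHmap A (Abelian.image.ι (𝓝.last k)) p)
      (fun k => dlt A 𝓝 p k)
      (fun k => CL.HHmap A (cπ 𝓝 k) p)
      (fun i k => CL.HHmap A (𝓝.τ i k) p)
      (fun i k => CL.HHmap A (imT 𝓝 i k) p)
      (fun i k => CL.HHmap A (𝓝.kerFam.T i k) (p + 1))
      (fun i k => CL.HHmap A (𝓝.cokerFam.T i k) p)
      (fun k z hz => dlt_exact 𝓝 p k z hz)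
      (fun k x hx => gam_exact' 𝓝 p k x hx)
      (fun i k z => dlt_nat 𝓝 p i k z)
      (fun i k x => gam_nat 𝓝 p i k x)
      (fun i k z => bet_nat 𝓝 p i k z)
      (max k₄ k₅)
      (fun k hk z => genD k (le_trans (le_max_left _ _) hk) z)
      (fun k hk x => genE k (le_trans (le_max_right _ _) hk) x)
    refine ⟨max k₄ k₅ + 1, fun k hk x => ?_⟩
    obtain ⟨k', rfl⟩ : ∃ k', k = k' + 1 := ⟨k - 1, by omega⟩
    obtain ⟨y, w, hyw⟩ := key k' (by omega) x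
    refine ⟨Fin.snoc y w, ?_⟩
    rw [Fin.sum_univ_castSucc, hyw]
    congr 1
    · refine Finset.sum_congr rfl fun i _ => ?_
      rw [Fin.snoc_castSucc]
      rfl
    · rw [Fin.snoc_last]
      exact bet_alp 𝓝 p (k' + 1) w

end Groth.Agent.LD.FF
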