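import Groth.Agent.Lib.Lead.FF.Rees
import Groth.Agent.Lib.Lead.FF.Main

/-! # Finite generation of `⊕_k H^p(X, m^k F)` over the Rees algebra -/

universe u
open CategoryTheory Limits Opposite TopologicalSpace AlgebraicGeometry

namespace Groth.Agent.LD.FF

/-- a finite affine open cover of a quasi-compact scheme. -/
lemma exists_finite_affine_cover (Z : Scheme.{u}) [CompactSpace Z] :
    ∃ 𝒰 : Set Z.Opens, 𝒰.Finite ∧ (∀ U ∈ 𝒰, IsAffineOpen U) ∧ ∀ x : Z, ∃ U ∈ 𝒰, x ∈ U := by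
  have hcov : (Set.univ : Set Z) ⊆ ⋃ U : Z.affineOpens, (U.1 : Set Z) := by
    intro x _
    have : x ∈ (⨆ U : Z.affineOpens, (U : Z.Opens)) := by
      rw [iSup_affineOpens_eq_top]; trivial
    obtain ⟨U, hU⟩ := Opens.mem_iSup.mp this
    exact Set.mem_iUnion.mpr ⟨U, hU⟩
  obtain ⟨t, ht⟩ := isCompact_univ.elim_finite_subcover (fun U : Z.affineOpens => (U.1 : Set Z))
    (fun U => U.1.2) hcov
  refine ⟨(fun U : Z.affineOpens => U.1) '' (t : Set Z.affineOpens),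
    (Finset.finite_toSet t).image _, ?_, fun x => ?_⟩
  · rintro _ ⟨U, -, rfl⟩
    exact U.2
  · obtain ⟨V, hV⟩ := Set.mem_iUnion.mp (ht (Set.mem_univ x))
    obtain ⟨hVt, hxV⟩ := Set.mem_iUnion.mp hV
    exact ⟨V.1, ⟨V, hVt, rfl⟩, hxV⟩

variable {A : Type u} [CommRing A] {X : Scheme.{u}} [X.Over (Spec (CommRingCat.of A))]

section gen
variable (m : Ideal A) (F : X.Modules) (p : ℕ)

/-- the subgroup of `H^p(X, J' F)` generated by the images of the multiplications by the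
elements of `I`. -/
noncomputable def mulSpan (I J J' : Ideal A) (h : ∀ a ∈ I, ∀ b ∈ J, a * b ∈ J') :
    AddSubgroup (Coh.HH X (CohIII.idealMul J' F) p) :=
  ⨆ a : I, (CL.HHmap A (mulTo J J' F (a : A) (h a a.2)) p).toAddMonoidHom.range

lemma mulSpan_pow_aux (k r : ℕ) : ∀ a ∈ m ^ r, ∀ b ∈ m ^ k, a * b ∈ m ^ (k + r) := by
  intro a ha b hb
  rw [add_comm, pow_add]
  exact Ideal.mul_mem_mul ha hb

variable {m} {s : ℕ} (a : Fin s → A) (ha : Ideal.span (Set.range a) = m)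

include ha in
theorem mulSpan_eq_top_of_HGen (k₁ : ℕ) (hG : HGen A (reesFam m a ha F) p k₁) (k : ℕ)
    (hk : k₁ ≤ k) :
    ∀ r : ℕ, mulSpan F p (m ^ r) (m ^ k) (m ^ (k + r)) (mulSpan_pow_aux m k r) = ⊤ := by
  intro r
  induction r with
  | zero =>
    rw [eq_top_iff]
    intro x _
    have h1 : (1 : A) ∈ m ^ 0 := by rw [pow_zero, Ideal.one_eq_top]; trivial
    refine AddSubgroup.mem_iSup_of_mem (⟨1, h1⟩ : ↥(m ^ 0)) ⟨x, ?_⟩
    have h2 : mulTo (m ^ k) (m ^ (k + 0)) F (1 : A) (mulSpan_pow_aux m k 0 1 h1) =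
        𝟙 (CohIII.idealMul (m ^ k) F) := by
      rw [← cancel_mono (CohIII.idealMulι (m ^ (k + 0)) F), mulTo_ι, smulMod_one,
        Category.comp_id]
      exact (Category.id_comp _).symm
    change CL.HHmap A (mulTo (m ^ k) (m ^ (k + 0)) F (1 : A) _) p x = x
    rw [h2, CL.HHmap_id]
    rfl
  | succ r ih =>
    rw [eq_top_iff]
    intro x _
    obtain ⟨y, hy⟩ := hG (k + r) (by omega) x
    have hy' : x = ∑ i, CL.HHmap A (reesT m a ha F i (k + r)) p (y i) := hy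
    rw [hy']
    refine AddSubgroup.sum_mem _ fun i _ => ?_
    have hyi : y i ∈ mulSpan F p (m ^ r) (m ^ k) (m ^ (k + r)) (mulSpan_pow_aux m k r) := by
      rw [ih]; trivial
    have hle : mulSpan F p (m ^ r) (m ^ k) (m ^ (k + r)) (mulSpan_pow_aux m k r) ≤
        (mulSpan F p (m ^ (r + 1)) (m ^ k) (m ^ (k + (r + 1))) (mulSpan_pow_aux m k (r + 1))).comap
          (CL.HHmap A (reesT m a ha F i (k + r)) p).toAddMonoidHom := by
      refine iSup_le fun c => ?_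
      rintro _ ⟨w, rfl⟩
      have hc : a i * (c : A) ∈ m ^ (r + 1) := by
        rw [pow_succ']
        exact Ideal.mul_mem_mul (ha ▸ Ideal.subset_span ⟨i, rfl⟩) c.2
      refine AddSubgroup.mem_iSup_of_mem (⟨a i * c, hc⟩ : ↥(m ^ (r + 1))) ⟨w, ?_⟩
      change CL.HHmap A (mulTo (m ^ k) (m ^ (k + (r + 1))) F (a i * c) _) p w =
        CL.HHmap A (reesT m a ha F i (k + r)) p
          (CL.HHmap A (mulTo (m ^ k) (m ^ (k + r)) F c _) p w)
      rw [← CL.HHmap_comp_apply]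
      congr 2
      exact (mulTo_comp F _ _ _ _).symm
    exact hle hyi

end gen

/-- **finite generation over the Rees algebra**, in the form of EGA III 3.3.2. -/
theorem rees_generation [IsNoetherianRing A] (hN : NoethHyp.{u}) [IsLocallyNoetherian X]
    [CompactSpace X] (hfin : FinHyp X A) (m : Ideal A) (F : X.Modules) (hF : Coh.IsCoh F)
    (p : ℕ) :
    ∃ k₀ : ℕ, ∀ k : ℕ, k₀ ≤ k → ∀ r : ℕ,
      (⨆ a : ↥(m ^ r), (CohIII.HmulMap (m ^ r) (m ^ k) F a p).range) = ⊤ := by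
  obtain ⟨𝒰, h𝒰fin, h𝒰aff, h𝒰cov⟩ := exists_finite_affine_cover X
  obtain ⟨S, hS⟩ := (isNoetherianRing_iff_ideal_fg A).mp inferInstance m
  let a : Fin S.card → A := fun i => (S.equivFin.symm i : A)
  have ha : Ideal.span (Set.range a) = m := by
    rw [← hS]
    congr 1
    ext x
    constructor
    · rintro ⟨i, rfl⟩
      exact (S.equivFin.symm i).2
    · intro hx
      exact ⟨S.equivFin ⟨x, hx⟩, by simp [a]⟩
  obtain ⟨k₁, hk₁⟩ := exists_HGen hN hfin h𝒰aff h𝒰fin h𝒰cov S.card (reesFam m a ha F)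
    (reesFam_isCoh m a ha F hF) 0 (reesFam_evGen m a ha F hF.1 𝒰 h𝒰aff) p
  refine ⟨k₁, fun k hk r => ?_⟩
  have key : ∀ (J' : Ideal A) (hJ' : J' = m ^ (k + r)) (h : ∀ a ∈ m ^ r, ∀ b ∈ m ^ k, a * b ∈ J'),
      mulSpan F p (m ^ r) (m ^ k) J' h = ⊤ := by
    intro J' hJ' h
    subst hJ'
    exact mulSpan_eq_top_of_HGen F p a ha k₁ hk₁ k hk r
  exact key (m ^ r * m ^ k) (by rw [← pow_add, add_comm])
    (fun a ha b hb => Ideal.mul_mem_mul ha hb)

end Groth.Agent.LD.FF
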