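import Groth.Prelude.Def_ega3
import Groth.Prelude.Def_KLin
import Groth.Agent.Lib.Lead.QC.SerreSupp
import Groth.Agent.Lib.Lead.QC.Closure

/-! # The submodules `J · M` and the multiplication maps between them -/

universe u
open CategoryTheory Limits Opposite TopologicalSpace AlgebraicGeometry

namespace Groth.Agent.LD.FF

variable {A : Type u} [CommRing A] {X : Scheme.{u}} [X.Over (Spec (CommRingCat.of A))]

lemma smulMod_add (M : X.Modules) (a b : A) :
    Formal.smulMod A M (a + b) = Formal.smulMod A M a + Formal.smulMod A M b := by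
  unfold Formal.smulMod
  rw [map_add]
  exact KLin.smulModΓ_add M _ _

lemma smulMod_zero (M : X.Modules) : Formal.smulMod A M (0 : A) = 0 := by
  unfold Formal.smulMod
  rw [map_zero]
  exact KLin.smulModΓ_zero M

lemma smulMod_one (M : X.Modules) : Formal.smulMod A M (1 : A) = 𝟙 M := by
  unfold Formal.smulMod
  rw [map_one]
  exact KLin.smulModΓ_one M

lemma smulMod_sum (M : X.Modules) {ι : Type*} (s : Finset ι) (f : ι → A) :
    Formal.smulMod A M (∑ i ∈ s, f i) = ∑ i ∈ s, Formal.smulMod A M (f i) := by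
  classical
  induction s using Finset.induction_on with
  | empty => rw [Finset.sum_empty, Finset.sum_empty, smulMod_zero]
  | insert a s ha ih => rw [Finset.sum_insert ha, Finset.sum_insert ha, smulMod_add, ih]

lemma comp_smulMod {M N : X.Modules} (f : M ⟶ N) (a : A) :
    f ≫ Formal.smulMod A N a = Formal.smulMod A M a ≫ f :=
  KLin.comp_smulModΓ f _

lemma smulMod_comm (M : X.Modules) (a b : A) :
    Formal.smulMod A M a ≫ Formal.smulMod A M b = Formal.smulMod A M b ≫ Formal.smulMod A M a :=
  (comp_smulMod _ _)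

variable (J J' J'' : Ideal A) (M : X.Modules)

/-- the components of the canonical epimorphism `∐_{b ∈ J} M ⟶ J · M`. -/
noncomputable def eComp (b : J) : M ⟶ CohIII.idealMul J M :=
  Sigma.ι (fun _ : J => M) b ≫ factorThruImage (Formal.smulFamily J M)

@[reassoc]
lemma eComp_ι (b : J) : eComp J M b ≫ CohIII.idealMulι J M = Formal.smulMod A M (b : A) := by
  change (Sigma.ι (fun _ : J => M) b ≫ factorThruImage (Formal.smulFamily J M)) ≫
    image.ι (Formal.smulFamily J M) = _
  rw [Category.assoc, image.fac]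
  unfold Formal.smulFamily
  rw [Sigma.ι_desc]

instance : Mono (CohIII.idealMulι J M) := by
  change Mono (image.ι (Formal.smulFamily J M))
  infer_instance

variable {J M} in
/-- morphisms out of `J · M` are determined by their composites with the `eComp`. -/
lemma idealMul_hom_ext {Z : X.Modules} (f g : CohIII.idealMul J M ⟶ Z)
    (h : ∀ b : J, eComp J M b ≫ f = eComp J M b ≫ g) : f = g := by
  haveI : Epi (factorThruImage (Formal.smulFamily J M)) := inferInstance
  have key : ∀ (f g : image (Formal.smulFamily J M) ⟶ Z),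
      (∀ b : J, (Sigma.ι (fun _ : J => M) b ≫ factorThruImage (Formal.smulFamily J M)) ≫ f =
        (Sigma.ι (fun _ : J => M) b ≫ factorThruImage (Formal.smulFamily J M)) ≫ g) → f = g := by
    intro f g h
    rw [← cancel_epi (factorThruImage (Formal.smulFamily J M))]
    apply Sigma.hom_ext
    intro b
    rw [← Category.assoc, ← Category.assoc]
    exact h b
  exact key f g h

/-- multiplication by `a` as a morphism `J · M ⟶ J' · M` when `a J ⊆ J'`. -/
noncomputable def mulTo (a : A) (h : ∀ b ∈ J, a * b ∈ J') :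
    CohIII.idealMul J M ⟶ CohIII.idealMul J' M :=
  image.map (Arrow.homMk (f := Arrow.mk (Formal.smulFamily J M))
    (g := Arrow.mk (Formal.smulFamily J' M))
    (Sigma.map' (fun b : J => (⟨a * b, h b b.2⟩ : J')) (fun _ => 𝟙 M))
    (Formal.smulMod A M a) (by
      apply Sigma.hom_ext
      intro b
      simp only [Arrow.mk_hom, Arrow.mk_left, Arrow.mk_right, Formal.smulFamily,
        Sigma.ι_comp_map'_assoc, Sigma.ι_desc, Sigma.ι_desc_assoc, Category.id_comp,
        CohIII.smulMod_mul]))

variable {J J' J''} in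
@[reassoc]
lemma mulTo_ι (a : A) (h : ∀ b ∈ J, a * b ∈ J') :
    mulTo J J' M a h ≫ CohIII.idealMulι J' M = CohIII.idealMulι J M ≫ Formal.smulMod A M a :=
  image.map_ι _

variable {J J' J''} in
@[reassoc]
lemma eComp_mulTo (a : A) (h : ∀ b ∈ J, a * b ∈ J') (b : J) :
    eComp J M b ≫ mulTo J J' M a h = eComp J' M ⟨a * b, h b b.2⟩ := by
  rw [← cancel_mono (CohIII.idealMulι J' M), Category.assoc, mulTo_ι, eComp_ι_assoc, eComp_ι,
    CohIII.smulMod_mul]

variable {J J' J''} in
lemma mulTo_comp (a a' : A) (h : ∀ b ∈ J, a * b ∈ J') (h' : ∀ b ∈ J', a' * b ∈ J'') :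
    mulTo J J' M a h ≫ mulTo J' J'' M a' h' =
      mulTo J J'' M (a' * a) (fun b hb => by rw [mul_assoc]; exact h' _ (h b hb)) := by
  rw [← cancel_mono (CohIII.idealMulι J'' M), Category.assoc, mulTo_ι, mulTo_ι_assoc, mulTo_ι,
    CohIII.smulMod_mul]

variable {J J' J''} in
lemma mulTo_comm (a a' : A) (h : ∀ b ∈ J, a * b ∈ J') (h' : ∀ b ∈ J', a' * b ∈ J'')
    (g : ∀ b ∈ J, a' * b ∈ J') (g' : ∀ b ∈ J', a * b ∈ J'') :
    mulTo J J' M a h ≫ mulTo J' J'' M a' h' = mulTo J J' M a' g ≫ mulTo J' J'' M a g' := by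
  rw [← cancel_mono (CohIII.idealMulι J'' M), Category.assoc, Category.assoc, mulTo_ι, mulTo_ι,
    mulTo_ι_assoc, mulTo_ι_assoc, smulMod_comm]

lemma mulMap_eq (I : Ideal A) (a : I) :
    CohIII.mulMap I J M a = mulTo J (I * J) M a (fun _ hb => Ideal.mul_mem_mul a.2 hb) := rfl

end Groth.Agent.LD.FF
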