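import Groth.Agent.Lib.Lead.FF.PicInj
import Groth.Agent.Lib.Lead.CohLES.H0Lin
import Mathlib.AlgebraicGeometry.Geometrically.Integral
import Mathlib.AlgebraicGeometry.Morphisms.Proper

/-! # Consequences of the injectivity of `Pic X → Pic X_B`. -/

universe u
open CategoryTheory Limits Opposite TopologicalSpace AlgebraicGeometry TensorProduct

namespace Groth.Agent.LD.FF
open Groth.Agent.LD.QC Groth.Agent.LD.FBC

/-- equality of classes is isomorphism. -/
lemma cl_eq_iff {Y : Scheme.{u}} (L L' : Y.Modules) :
    PicF.cl L = PicF.cl L' ↔ Nonempty (L ≅ L') := by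
  constructor
  · intro h
    have h2 := Quot.eqvGen_exact h
    clear h
    induction h2 with
    | rel _ _ h => exact h
    | refl _ => exact ⟨Iso.refl _⟩
    | symm _ _ _ ih => exact ⟨ih.some.symm⟩
    | trans _ _ _ _ _ ih1 ih2 => exact ⟨ih1.some ≪≫ ih2.some⟩
  · exact fun h => Quot.sound h

/-- a scheme over a field with finite-dimensional `H^0(O_X)` has a semi-local ring of global
functions. -/
lemma finite_maximalSpectrum_of_finite_HH0 (k : Type u) [Field k] (X : Scheme.{u})
    [X.Over (Spec (CommRingCat.of k))]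
    (hfin : Module.Finite k (Coh.HH X (Coh.structureModule X) 0)) :
    Finite (MaximalSpectrum Γ(X, ⊤)) := by
  letI : Algebra k Γ(X, ⊤) := (Coh.toGlobal (X ↘ Spec (CommRingCat.of k))).toAlgebra
  let e : Coh.HH X (Coh.structureModule X) 0 ≃ₗ[k] Γ(X, ⊤) :=
    { CL.HH0Equiv (Coh.structureModule X) with
      map_smul' := fun c x =>
        CL.HH0Equiv_smul (Coh.structureModule X)
          (Coh.toGlobal (X ↘ Spec (CommRingCat.of k)) c) x }
  haveI : Module.Finite k Γ(X, ⊤) := Module.Finite.equiv e
  haveI : IsArtinianRing Γ(X, ⊤) := IsArtinianRing.of_finite k _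
  infer_instance

/-- a field has a unique maximal ideal. -/
lemma finite_maximalSpectrum_of_isField {R : Type*} [CommRing R] (hR : IsField R) :
    Finite (MaximalSpectrum R) := by
  letI := hR.toField
  haveI : Subsingleton (MaximalSpectrum R) := by
    refine ⟨fun P Q => ?_⟩
    ext1
    rw [(Ideal.eq_bot_or_top P.asIdeal).resolve_right P.isMaximal.ne_top,
      (Ideal.eq_bot_or_top Q.asIdeal).resolve_right Q.isMaximal.ne_top]
  infer_instance

end Groth.Agent.LD.FF
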