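import Groth.Agent.Lib.Lead.FF.Descent3
import Groth.Agent.Lib.Lead.QC.FlatBC
import Groth.Agent.Lib.Helper3.ArtFlat.Fam2

/-! # The functor `F_flat` is an fpqc sheaf (S9012) -/

set_option autoImplicit false
universe u
open CategoryTheory CategoryTheory.Limits AlgebraicGeometry TopologicalSpace Opposite

namespace Groth.Agent.LD.FF

open Groth.Agent.LD.QC

theorem isFlatOverAt_pullback_comp {W X Y S : Scheme.{u}} (a : W ⟶ X) (b : X ⟶ Y) {c : W ⟶ Y}
    (hc : a ≫ b = c) (q : W ⟶ S) (F : Y.Modules) (w : W) :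
    FlatMod.IsFlatOverAt q ((Scheme.Modules.pullback a).obj ((Scheme.Modules.pullback b).obj F)) w ↔
      FlatMod.IsFlatOverAt q ((Scheme.Modules.pullback c).obj F) w := by
  subst hc
  exact ⟨Groth.Agent.H3.ArtFlat.isFlatOverAt_of_iso q ((Scheme.Modules.pullbackComp a b).app F) w,
    Groth.Agent.H3.ArtFlat.isFlatOverAt_of_iso q ((Scheme.Modules.pullbackComp a b).app F).symm w⟩

variable {X S : Scheme.{u}} (f : X ⟶ S)

/-- flatness of `F_T` over `T` is stable under base change `T ⟶ T₀`. -/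
theorem isFlatOver_bc_of_isFlatOver (F : X.Modules) [F.IsQuasicoherent] {T T₀ : Over S} (k : T ⟶ T₀)
    (h : FlatMod.IsFlatOver (pullback.snd f T₀.hom)
      ((Scheme.Modules.pullback (pullback.fst f T₀.hom)).obj F)) :
    FlatMod.IsFlatOver (pullback.snd f T.hom)
      ((Scheme.Modules.pullback (pullback.fst f T.hom)).obj F) := by
  haveI := qc_pullback (pullback.fst f T₀.hom) F
  intro x
  have hc : IsPullback (bcMap f k) (pullback.snd f T.hom) (pullback.snd f T₀.hom) k.left :=
    (isPullback_bcMap f k).flip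
  have h1 := isFlatOverAt_pullback_of_isPullback hc
    ((Scheme.Modules.pullback (pullback.fst f T₀.hom)).obj F) x (h _)
  exact (isFlatOverAt_pullback_comp (bcMap f k) (pullback.fst f T₀.hom) (bcMap_fst f k) _ F x).1 h1

/-- flatness of `F_T` over `T` descends along jointly surjective flat families. -/
theorem isFlatOver_of_isFlatOver_bc (F : X.Modules) [F.IsQuasicoherent] (T : Over S) {ι : Type*}
    (Ti : ι → Over S) (g : ∀ i, Ti i ⟶ T) (hfl : ∀ i, Flat (g i).left)
    (hs : ∀ t : T.left, ∃ i, t ∈ Set.range (g i).left.base)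
    (h : ∀ i, FlatMod.IsFlatOver (pullback.snd f (Ti i).hom)
      ((Scheme.Modules.pullback (pullback.fst f (Ti i).hom)).obj F)) :
    FlatMod.IsFlatOver (pullback.snd f T.hom)
      ((Scheme.Modules.pullback (pullback.fst f T.hom)).obj F) := by
  haveI := qc_pullback (pullback.fst f T.hom) F
  intro x
  obtain ⟨i, xi, hxi⟩ := range_bcMap f Ti g hs x
  have hc : IsPullback (bcMap f (g i)) (pullback.snd f (Ti i).hom) (pullback.snd f T.hom)
      (g i).left := (isPullback_bcMap f (g i)).flip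
  haveI := hfl i
  have h1 := isFlatOverAt_of_pullback_of_isPullback hc
    ((Scheme.Modules.pullback (pullback.fst f T.hom)).obj F) xi
    (Flat.stalkMap (g i).left _)
    ((isFlatOverAt_pullback_comp (bcMap f (g i)) (pullback.fst f T.hom) (bcMap_fst f (g i)) _ F
      xi).2 (h i xi))
  rw [← hxi]
  exact h1

/-- **S9012.** -/
theorem s9012 (F : X.Modules) [F.IsQuasicoherent] :
    Presheaf.IsSheaf (QuotSh.J Scheme.fpqcPrecoverage S)
      (FlatFun.genPSp S (fun T => FlatMod.IsFlatOver (PicF.XTproj f T) (FGA.ET f F T))) := by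
  apply isSheaf_genPSp Scheme.fpqcPrecoverage _
    (fun T T₀ k hk => isFlatOver_bc_of_isFlatOver f F k hk)
  intro T R hR hloc
  obtain ⟨ι, Z, g, rfl⟩ := R.exists_eq_ofArrows
  obtain ⟨hs, hfl⟩ := fpqc_flat_surj g hR
  refine isFlatOver_of_isFlatOver_bc f F T (fun i => Over.mk (g i ≫ T.hom))
    (fun i => Over.homMk (g i)) hfl hs ?_
  intro i
  exact hloc (g i) ⟨i⟩

end Groth.Agent.LD.FF
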