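import Mathlib
import Groth.Agent.Lib.Lead.FF.Descent

set_option autoImplicit false
universe u
open CategoryTheory CategoryTheory.Limits AlgebraicGeometry TopologicalSpace Opposite

/-!
# Descent of monomorphisms for base changes `X ×_S T_i → X ×_S T`
-/

namespace Groth.Agent.LD.FF

variable {X S : Scheme.{u}} (f : X ⟶ S)

/-- the induced morphism `X ×_S T' ⟶ X ×_S T` -/
noncomputable def bcMap {T T' : Over S} (g : T' ⟶ T) : pullback f T'.hom ⟶ pullback f T.hom :=
  pullback.map f T'.hom f T.hom (𝟙 X) g.left (𝟙 S) (by simp) (by simp)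

@[reassoc (attr := simp)]
lemma bcMap_fst {T T' : Over S} (g : T' ⟶ T) :
    bcMap f g ≫ pullback.fst f T.hom = pullback.fst f T'.hom := by
  unfold bcMap pullback.map
  rw [pullback.lift_fst, Category.comp_id]

@[reassoc (attr := simp)]
lemma bcMap_snd {T T' : Over S} (g : T' ⟶ T) :
    bcMap f g ≫ pullback.snd f T.hom = pullback.snd f T'.hom ≫ g.left := by
  unfold bcMap pullback.map
  rw [pullback.lift_snd]

lemma isPullback_bcMap {T T' : Over S} (g : T' ⟶ T) :
    IsPullback (pullback.snd f T'.hom) (bcMap f g) g.left (pullback.snd f T.hom) := by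
  have outer : IsPullback (pullback.snd f T'.hom) (bcMap f g ≫ pullback.fst f T.hom)
      (g.left ≫ T.hom) f := by
    rw [bcMap_fst, Over.w]
    exact (IsPullback.of_hasPullback f T'.hom).flip
  exact IsPullback.of_bot outer (bcMap_snd f g).symm (IsPullback.of_hasPullback f T.hom).flip

lemma flat_bcMap {T T' : Over S} (g : T' ⟶ T) [Flat g.left] : Flat (bcMap f g) :=
  MorphismProperty.of_isPullback (P := @Flat) (isPullback_bcMap f g) inferInstance

lemma range_bcMap {T : Over S} {ι : Type*} (Ti : ι → Over S) (g : ∀ i, Ti i ⟶ T)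
    (hs : ∀ t : T.left, ∃ i, t ∈ Set.range (g i).left.base) (z : ↥(pullback f T.hom)) :
    ∃ i, z ∈ Set.range (bcMap f (g i)).base := by
  obtain ⟨i, t', ht'⟩ := hs ((pullback.snd f T.hom).base z)
  refine ⟨i, ?_⟩
  have hp := isPullback_bcMap f (g i)
  obtain ⟨w, hw1, hw2⟩ := Scheme.Pullback.exists_preimage_pullback
    (f := (g i).left) (g := pullback.snd f T.hom) t' z ht'
  refine ⟨(hp.isoPullback.inv).base w, ?_⟩
  rw [← Scheme.Hom.comp_apply]
  have : hp.isoPullback.inv ≫ bcMap f (g i) = pullback.snd _ _ := by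
    simp
  rw [this]
  exact hw2

theorem mono_bc_iff {F G : X.Modules} (u : F ⟶ G) (T : Over S) {ι : Type*} (Ti : ι → Over S)
    (g : ∀ i, Ti i ⟶ T) [∀ i, Flat (g i).left]
    (hs : ∀ t : T.left, ∃ i, t ∈ Set.range (g i).left.base) :
    Mono ((Scheme.Modules.pullback (pullback.fst f T.hom)).map u) ↔
      ∀ i, Mono ((Scheme.Modules.pullback (pullback.fst f (Ti i).hom)).map u) := by
  haveI : ∀ i, Flat (bcMap f (g i)) := fun i => flat_bcMap f (g i)
  rw [mono_iff_of_flat_cover (fun i => bcMap f (g i)) (range_bcMap f Ti g hs)]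
  refine forall_congr' fun i => ?_
  exact (mono_pullback_comp_iff (bcMap f (g i)) (pullback.fst f T.hom) (bcMap_fst f (g i)) u).symm

theorem epi_bc_iff {F G : X.Modules} (u : F ⟶ G) (T : Over S) {ι : Type*} (Ti : ι → Over S)
    (g : ∀ i, Ti i ⟶ T) [∀ i, Flat (g i).left]
    (hs : ∀ t : T.left, ∃ i, t ∈ Set.range (g i).left.base) :
    Epi ((Scheme.Modules.pullback (pullback.fst f T.hom)).map u) ↔
      ∀ i, Epi ((Scheme.Modules.pullback (pullback.fst f (Ti i).hom)).map u) := by
  haveI : ∀ i, Flat (bcMap f (g i)) := fun i => flat_bcMap f (g i)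
  rw [epi_iff_of_flat_cover (fun i => bcMap f (g i)) (range_bcMap f Ti g hs)]
  refine forall_congr' fun i => ?_
  exact (epi_pullback_comp_iff (bcMap f (g i)) (pullback.fst f T.hom) (bcMap_fst f (g i)) u).symm

/-- extracting flatness and joint surjectivity from an fpqc covering -/
lemma fpqc_flat_surj {T : Scheme.{u}} {ι : Type*} {Z : ι → Scheme.{u}} (g : ∀ i, Z i ⟶ T)
    (hcov : Presieve.ofArrows Z g ∈ Scheme.fpqcPrecoverage T) :
    (∀ t : T, ∃ i, t ∈ Set.range (g i).base) ∧ ∀ i, Flat (g i) := by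
  have h2 : Presieve.ofArrows Z g ∈ Scheme.precoverage @Flat T := hcov.2
  rw [Scheme.ofArrows_mem_precoverage_iff] at h2
  exact h2

end Groth.Agent.LD.FF
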