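import Mathlib
import Groth.Prelude.Def_FlatFun
import Groth.Prelude.Def_QuotSh
import Groth.Agent.Lib.Lead.FF.Descent2

set_option autoImplicit false
universe u
open CategoryTheory CategoryTheory.Limits AlgebraicGeometry TopologicalSpace Opposite

/-!
# Sheaf criterion for the subfunctor of the final functor generated by a condition
-/

namespace Groth.Agent.LD.FF

lemma isSheafFor_of_subsingleton {C : Type*} [Category C] (Q : Cᵒᵖ ⥤ Type*)
    [∀ T, Subsingleton (Q.obj T)] {T : C} (R : Presieve T)
    (h : (∀ ⦃Y : C⦄ ⦃f : Y ⟶ T⦄, R f → Nonempty (Q.obj (op Y))) → Nonempty (Q.obj (op T))) :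
    Presieve.IsSheafFor Q R := by
  intro x _
  obtain ⟨t⟩ := h (fun Y f hf => ⟨x f hf⟩)
  refine ⟨t, ?_, fun _ _ => Subsingleton.elim _ _⟩
  intro Y f hf
  exact Subsingleton.elim _ _

variable {S : Scheme.{u}}

/-- **sheaf criterion** for `FlatFun.genPSp S P` in the topology generated by a precoverage stable
under composition and base change: it suffices that `P` is stable under morphisms over `S` and
local for the coverings of the precoverage. -/
theorem isSheaf_genPSp (K : Precoverage Scheme.{u}) [K.IsStableUnderComposition]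
    [K.IsStableUnderBaseChange] [K.HasPullbacks] [K.HasIsos] (P : Over S → Prop)
    (hstab : ∀ ⦃T T₀ : Over S⦄ (_ : T ⟶ T₀), P T₀ → P T)
    (hloc : ∀ (T : Over S) (R : Presieve T.left), R ∈ K T.left →
      (∀ ⦃Z : Scheme.{u}⦄ (g : Z ⟶ T.left), R g → P (Over.mk (g ≫ T.hom))) → P T) :
    Presheaf.IsSheaf (QuotSh.J K S) (FlatFun.genPSp S P) := by
  rw [isSheaf_iff_isSheaf_of_type]
  intro T S' hS'
  rw [GrothendieckTopology.mem_over_iff,
    Precoverage.mem_toGrothendieck_iff_of_isStableUnderComposition] at hS'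
  obtain ⟨R, hR, hle⟩ := hS'
  apply isSheafFor_of_subsingleton
  intro hne
  rw [FlatFun.genPSp_nonempty_iff_of_stable P hstab]
  apply hloc T R hR
  intro Z g hg
  have h1 := hle _ _ hg
  rw [Sieve.overEquiv_iff] at h1
  have h2 := hne h1
  rwa [FlatFun.genPSp_nonempty_iff_of_stable P hstab] at h2

end Groth.Agent.LD.FF
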