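import Mathlib
import Groth.Agent.Lib.Lead.FF.GenPSp

set_option autoImplicit false
universe u
open CategoryTheory CategoryTheory.Limits AlgebraicGeometry TopologicalSpace Opposite

/-!
# fpqc sheaf property of the functors `F_iso`, `F_surj`, `F_zero`
-/

namespace Groth.Agent.LD.FF

section General
variable {C D : Type*} [Category C] [Category D]

lemma isIso_map_iff_of_iso {F G : C ⥤ D} (α : F ≅ G) {M N : C} (v : M ⟶ N) :
    IsIso (F.map v) ↔ IsIso (G.map v) := by
  constructor
  · intro h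
    have : G.map v = α.inv.app M ≫ F.map v ≫ α.hom.app N := by simp
    rw [this]; infer_instance
  · intro h
    have : F.map v = α.hom.app M ≫ G.map v ≫ α.inv.app N := by simp
    rw [this]; infer_instance

lemma map_eq_zero_iff_of_iso [Preadditive D] {F G : C ⥤ D} (α : F ≅ G) {M N : C} (v : M ⟶ N) :
    F.map v = 0 ↔ G.map v = 0 := by
  constructor
  · intro h
    have : G.map v = α.inv.app M ≫ F.map v ≫ α.hom.app N := by simp
    rw [this, h, zero_comp, comp_zero]
  · intro h
    have : F.map v = α.hom.app M ≫ G.map v ≫ α.inv.app N := by simp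
    rw [this, h, zero_comp, comp_zero]

end General

variable {X Y S : Scheme.{u}}

theorem isIso_pullback_comp_iff {W : Scheme.{u}} (a : W ⟶ X) (b : X ⟶ Y) {c : W ⟶ Y}
    (hc : a ≫ b = c) {M N : Y.Modules} (v : M ⟶ N) :
    IsIso ((Scheme.Modules.pullback c).map v) ↔
      IsIso ((Scheme.Modules.pullback a).map ((Scheme.Modules.pullback b).map v)) := by
  subst hc
  exact (isIso_map_iff_of_iso (Scheme.Modules.pullbackComp a b) v).symm

theorem eq_zero_pullback_comp_iff {W : Scheme.{u}} (a : W ⟶ X) (b : X ⟶ Y) {c : W ⟶ Y}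
    (hc : a ≫ b = c) {M N : Y.Modules} (v : M ⟶ N) :
    (Scheme.Modules.pullback c).map v = 0 ↔
      (Scheme.Modules.pullback a).map ((Scheme.Modules.pullback b).map v) = 0 := by
  subst hc
  exact (map_eq_zero_iff_of_iso (Scheme.Modules.pullbackComp a b) v).symm

variable (f : X ⟶ S)

theorem isIso_bc_iff {F G : X.Modules} (u : F ⟶ G) (T : Over S) {ι : Type*} (Ti : ι → Over S)
    (g : ∀ i, Ti i ⟶ T) [∀ i, Flat (g i).left]
    (hs : ∀ t : T.left, ∃ i, t ∈ Set.range (g i).left.base) :
    IsIso ((Scheme.Modules.pullback (pullback.fst f T.hom)).map u) ↔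
      ∀ i, IsIso ((Scheme.Modules.pullback (pullback.fst f (Ti i).hom)).map u) := by
  haveI : ∀ i, Flat (bcMap f (g i)) := fun i => flat_bcMap f (g i)
  rw [isIso_iff_of_flat_cover (fun i => bcMap f (g i)) (range_bcMap f Ti g hs)]
  refine forall_congr' fun i => ?_
  exact (isIso_pullback_comp_iff (bcMap f (g i)) (pullback.fst f T.hom) (bcMap_fst f (g i)) u).symm

theorem eq_zero_bc_iff {F G : X.Modules} (u : F ⟶ G) (T : Over S) {ι : Type*} (Ti : ι → Over S)
    (g : ∀ i, Ti i ⟶ T) [∀ i, Flat (g i).left]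
    (hs : ∀ t : T.left, ∃ i, t ∈ Set.range (g i).left.base) :
    (Scheme.Modules.pullback (pullback.fst f T.hom)).map u = 0 ↔
      ∀ i, (Scheme.Modules.pullback (pullback.fst f (Ti i).hom)).map u = 0 := by
  haveI : ∀ i, Flat (bcMap f (g i)) := fun i => flat_bcMap f (g i)
  rw [eq_zero_iff_of_flat_cover (fun i => bcMap f (g i)) (range_bcMap f Ti g hs)]
  refine forall_congr' fun i => ?_
  exact (eq_zero_pullback_comp_iff (bcMap f (g i)) (pullback.fst f T.hom)
    (bcMap_fst f (g i)) u).symm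

/-- a property of the base changes `u_T` which is stable under pullback and descends along
jointly surjective flat families gives an fpqc sheaf -/
theorem isSheaf_genPSp_fpqc {F G : X.Modules} (u : F ⟶ G)
    (Q : ∀ {Z : Scheme.{u}} (h : Z ⟶ X), Prop)
    (hQ1 : ∀ ⦃T T₀ : Over S⦄ (k : T ⟶ T₀), Q (pullback.fst f T₀.hom) → Q (pullback.fst f T.hom))
    (hQ2 : ∀ (T : Over S) {ι : Type (u + 1)} (Ti : ι → Over S) (g : ∀ i, Ti i ⟶ T),
      (∀ i, Flat (g i).left) → (∀ t : T.left, ∃ i, t ∈ Set.range (g i).left.base) →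
      (∀ i, Q (pullback.fst f (Ti i).hom)) → Q (pullback.fst f T.hom)) :
    Presheaf.IsSheaf (QuotSh.J Scheme.fpqcPrecoverage S)
      (FlatFun.genPSp S (fun T => Q (pullback.fst f T.hom))) := by
  apply isSheaf_genPSp Scheme.fpqcPrecoverage _ hQ1
  intro T R hR hloc
  obtain ⟨ι, Z, g, rfl⟩ := R.exists_eq_ofArrows
  obtain ⟨hs, hfl⟩ := fpqc_flat_surj g hR
  refine hQ2 T (fun i => Over.mk (g i ≫ T.hom)) (fun i => Over.homMk (g i)) hfl hs ?_
  intro i
  exact hloc (g i) ⟨i⟩

end Groth.Agent.LD.FF
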