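import Mathlib
import Groth.Agent.Lib.Lead.FF.Descent3
import Groth.Agent.Lib.Lead.QC.SuppPullback
import Groth.Agent.Lib.Lead.QC.Support
import Groth.Prelude.Def_AlgSpRep

set_option autoImplicit false
universe u
open CategoryTheory CategoryTheory.Limits AlgebraicGeometry TopologicalSpace Opposite

/-!
# Limit preservation of the functors `F_surj`, ... : base changes of a cofiltered limit

`X ×_S lim T_i = lim X ×_S T_i`, and the functor of points generated by a condition which descends
to a finite stage is limit preserving.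
-/

namespace Groth.Agent.LD.FF

section BcDiagram
variable {X S : Scheme.{u}} (f : X ⟶ S) {I : Type u} [SmallCategory I] (D : I ⥤ Over S)

lemma bcMap_id (T : Over S) : bcMap f (𝟙 T) = 𝟙 _ := by
  apply pullback.hom_ext
  · rw [bcMap_fst, Category.id_comp]
  · rw [bcMap_snd, Category.id_comp, Over.id_left, Category.comp_id]

lemma bcMap_comp {T T' T'' : Over S} (g : T'' ⟶ T') (h : T' ⟶ T) :
    bcMap f (g ≫ h) = bcMap f g ≫ bcMap f h := by
  apply pullback.hom_ext
  · rw [bcMap_fst, Category.assoc, bcMap_fst, bcMap_fst]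
  · rw [bcMap_snd, Category.assoc, bcMap_snd, bcMap_snd_assoc, Over.comp_left]

/-- the diagram of base changes `X ×_S T_i` -/
noncomputable abbrev bcDiagram : I ⥤ Scheme.{u} where
  obj i := pullback f (D.obj i).hom
  map g := bcMap f (D.map g)
  map_id i := by rw [D.map_id]; exact bcMap_id f _
  map_comp g h := by rw [D.map_comp]; exact bcMap_comp f _ _

/-- the cone of base changes -/
noncomputable abbrev bcCone (c : Cone D) : Cone (bcDiagram f D) where
  pt := pullback f c.pt.hom
  π :=
    { app := fun i => bcMap f (c.π.app i)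
      naturality := fun i j g => by
        change 𝟙 _ ≫ bcMap f (c.π.app j) = bcMap f (c.π.app i) ≫ bcMap f (D.map g)
        rw [Category.id_comp, ← bcMap_comp, c.w] }

/-- the cone over the `T_i` induced by a cone over the `X ×_S T_i` -/
noncomputable abbrev sndCone (s : Cone (bcDiagram f D)) : Cone (D ⋙ Over.forget S) where
  pt := s.pt
  π :=
    { app := fun i => s.π.app i ≫ pullback.snd f (D.obj i).hom
      naturality := fun i j g => by
        have h := s.w g
        change s.π.app i ≫ bcMap f (D.map g) = s.π.app j at h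
        change 𝟙 _ ≫ s.π.app j ≫ pullback.snd f (D.obj j).hom =
          (s.π.app i ≫ pullback.snd f (D.obj i).hom) ≫ (D.map g).left
        rw [Category.id_comp, ← h, Category.assoc, Category.assoc, bcMap_snd] }

lemma cone_fst_eq [IsCofiltered I] (s : Cone (bcDiagram f D)) (i j : I) :
    s.π.app i ≫ pullback.fst f (D.obj i).hom = s.π.app j ≫ pullback.fst f (D.obj j).hom := by
  have key : ∀ {a b : I} (g : a ⟶ b),
      s.π.app a ≫ pullback.fst f (D.obj a).hom = s.π.app b ≫ pullback.fst f (D.obj b).hom := by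
    intro a b g
    have h := s.w g
    change s.π.app a ≫ bcMap f (D.map g) = s.π.app b at h
    rw [← h, Category.assoc, bcMap_fst]
  rw [← key (IsCofiltered.minToLeft i j), key (IsCofiltered.minToRight i j)]

/-- the lift to `X ×_S T` -/
noncomputable def bcLift (c : Cone D) (hc : IsLimit ((Over.forget S).mapCone c))
    (s : Cone (bcDiagram f D)) (i₀ : I) : s.pt ⟶ pullback f c.pt.hom :=
  pullback.lift (s.π.app i₀ ≫ pullback.fst f (D.obj i₀).hom) (hc.lift (sndCone f D s)) (by
    have h1 : hc.lift (sndCone f D s) ≫ (c.π.app i₀).left =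
      s.π.app i₀ ≫ pullback.snd f (D.obj i₀).hom := hc.fac (sndCone f D s) i₀
    calc (s.π.app i₀ ≫ pullback.fst f (D.obj i₀).hom) ≫ f
        = s.π.app i₀ ≫ (pullback.snd f (D.obj i₀).hom ≫ (D.obj i₀).hom) := by
          rw [Category.assoc, pullback.condition]
      _ = (s.π.app i₀ ≫ pullback.snd f (D.obj i₀).hom) ≫ (D.obj i₀).hom :=
          (Category.assoc _ _ _).symm
      _ = (hc.lift (sndCone f D s) ≫ (c.π.app i₀).left) ≫ (D.obj i₀).hom :=
          congrArg (· ≫ (D.obj i₀).hom) h1.symm
      _ = hc.lift (sndCone f D s) ≫ ((c.π.app i₀).left ≫ (D.obj i₀).hom) := Category.assoc _ _ _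
      _ = hc.lift (sndCone f D s) ≫ c.pt.hom :=
          congrArg (hc.lift (sndCone f D s) ≫ ·) (Over.w (c.π.app i₀)))

/-- `X ×_S lim T_i = lim X ×_S T_i` -/
noncomputable def isLimitBcCone [IsCofiltered I] (c : Cone D)
    (hc : IsLimit ((Over.forget S).mapCone c)) : IsLimit (bcCone f D c) where
  lift s := bcLift f D c hc s (Classical.choice IsCofiltered.nonempty)
  fac s i := by
    apply pullback.hom_ext
    · change (bcLift f D c hc s _ ≫ bcMap f (c.π.app i)) ≫ pullback.fst f (D.obj i).hom =
        s.π.app i ≫ pullback.fst f (D.obj i).hom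
      rw [Category.assoc, bcMap_fst]
      unfold bcLift
      rw [pullback.lift_fst]
      exact cone_fst_eq f D s _ _
    · change (bcLift f D c hc s _ ≫ bcMap f (c.π.app i)) ≫ pullback.snd f (D.obj i).hom =
        s.π.app i ≫ pullback.snd f (D.obj i).hom
      rw [Category.assoc, bcMap_snd]
      unfold bcLift
      rw [pullback.lift_snd_assoc]
      exact hc.fac (sndCone f D s) i
  uniq s m hm := by
    apply pullback.hom_ext
    · unfold bcLift
      rw [pullback.lift_fst]
      have h := hm (Classical.choice IsCofiltered.nonempty)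
      change m ≫ bcMap f (c.π.app _) = s.π.app _ at h
      rw [← h, Category.assoc, bcMap_fst]
    · unfold bcLift
      rw [pullback.lift_snd]
      apply hc.uniq (sndCone f D s)
      intro i
      have h := hm i
      change m ≫ bcMap f (c.π.app i) = s.π.app i at h
      change (m ≫ pullback.snd f c.pt.hom) ≫ (c.π.app i).left =
        s.π.app i ≫ pullback.snd f (D.obj i).hom
      rw [← h, Category.assoc, Category.assoc, bcMap_snd]

end BcDiagram

section Epi
variable {X S : Scheme.{u}} (f : X ⟶ S) {I : Type u} [SmallCategory I] (D : I ⥤ Over S)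

/-- if the base change of `u` to the limit is an epimorphism, so is the base change to a finite
stage (the target being of finite type and `f` quasi-compact). -/
theorem exists_epi_of_isLimit [QuasiCompact f] {F G : X.Modules} [F.IsQuasicoherent]
    [G.IsQuasicoherent] (hG : G.IsFiniteType) (u : F ⟶ G) [IsCofiltered I] (c : Cone D)
    (hc : IsLimit ((Over.forget S).mapCone c)) (hD : ∀ i, IsAffine (D.obj i).left)
    (h : Epi ((Scheme.Modules.pullback (pullback.fst f c.pt.hom)).map u)) :
    ∃ i, Epi ((Scheme.Modules.pullback (pullback.fst f (D.obj i).hom)).map u) := by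
  haveI hC : (cokernel u).IsQuasicoherent := QC.qc_cokernel u inferInstance inferInstance
  have hCft : (cokernel u).IsFiniteType :=
    QC.isFiniteType_of_epi (cokernel.π u) inferInstance hC hG
  have hcl := QC.isClosed_support_of_isFiniteType (cokernel u) hCft
  obtain ⟨U, hmemU⟩ : ∃ U : X.Opens, ∀ x : X, x ∈ U ↔
      Subsingleton ((cokernel u).presheaf.stalk x) :=
    ⟨⟨{x : X | ¬ Subsingleton ((cokernel u).presheaf.stalk x)}ᶜ, hcl.isOpen_compl⟩,
      fun x => not_not⟩
  haveI : ∀ i, IsAffine (D.obj i).left := hD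
  haveI haff : ∀ {i j : I} (g : i ⟶ j), IsAffineHom ((bcDiagram f D).map g) := fun g =>
    MorphismProperty.of_isPullback (P := @IsAffineHom) (isPullback_bcMap f (D.map g))
      inferInstance
  haveI hcpt : ∀ i, CompactSpace ((bcDiagram f D).obj i) := fun i =>
    inferInstanceAs (CompactSpace ↑(pullback f (D.obj i).hom))
  obtain ⟨i₀⟩ : Nonempty I := IsCofiltered.nonempty
  have hU : (bcCone f D c).π.app i₀ ⁻¹ᵁ (pullback.fst f (D.obj i₀).hom ⁻¹ᵁ U) = ⊤ := by
    rw [eq_top_iff]
    intro y _
    change (pullback.fst f (D.obj i₀).hom) ((bcMap f (c.π.app i₀)) y) ∈ U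
    rw [hmemU]
    have h1 := (QC.epi_pullback_iff (pullback.fst f c.pt.hom) hG u).1 h y
    have e : (pullback.fst f (D.obj i₀).hom) ((bcMap f (c.π.app i₀)) y) =
        (pullback.fst f c.pt.hom) y := by
      rw [← Scheme.Hom.comp_apply, bcMap_fst]
      try rfl
    rw [e]
    exact h1
  obtain ⟨j, fji, hj⟩ := exists_map_eq_top (bcDiagram f D) (bcCone f D c)
    (isLimitBcCone f D c hc) _ hU
  refine ⟨j, (QC.epi_pullback_iff (pullback.fst f (D.obj j).hom) hG u).2 fun y => ?_⟩
  have hy : y ∈ ((bcDiagram f D).map fji ⁻¹ᵁ (pullback.fst f (D.obj i₀).hom ⁻¹ᵁ U)) := by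
    rw [hj]; trivial
  have hy' : (pullback.fst f (D.obj i₀).hom) ((bcMap f (D.map fji)) y) ∈ U := hy
  rw [hmemU] at hy'
  have e : (pullback.fst f (D.obj i₀).hom) ((bcMap f (D.map fji)) y) =
      (pullback.fst f (D.obj j).hom) y := by
    rw [← Scheme.Hom.comp_apply, bcMap_fst]
    try rfl
  rwa [e] at hy'

end Epi

section LimitPreserving
variable {S : Scheme.{u}}

/-- a condition stable under base change which descends to a finite stage of a cofiltered limit
of affine schemes generates a limit preserving functor. -/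
theorem isLimitPreserving_genPSp_of_exists (Q : Over S → Prop)
    (hQ1 : ∀ ⦃T T₀ : Over S⦄ (_ : T ⟶ T₀), Q T₀ → Q T)
    (hQ3 : ∀ {I : Type u} [SmallCategory I] [IsCofiltered I] (D : I ⥤ Over S) (c : Cone D),
      IsLimit ((Over.forget S).mapCone c) → (∀ i, IsAffine (D.obj i).left) →
      IsAffine c.pt.left → Q c.pt → ∃ i, Q (D.obj i)) :
    AlgSp.IsLimitPreserving (FlatFun.genPSp S Q) := by
  intro I _ _ D c hc hD hT
  refine ⟨Types.FilteredColimit.isColimitOf _ _ ?_ ?_⟩
  · intro x
    obtain ⟨T₀, k, hk⟩ := (x : (FlatFun.genPSp S Q).obj (op c.pt)).down.down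
    have hQc : Q c.pt := hQ1 k hk
    obtain ⟨i, hi⟩ := hQ3 D c hc hD hT hQc
    exact ⟨op i, ⟨⟨⟨D.obj i, 𝟙 _, hi⟩⟩⟩,
      @Subsingleton.elim _ (FlatFun.genPSp_subsingleton S Q (op c.pt)) _ _⟩
  · intro i j xi xj _
    exact ⟨IsFiltered.max i j, IsFiltered.leftToMax i j, IsFiltered.rightToMax i j,
      @Subsingleton.elim _ (FlatFun.genPSp_subsingleton S Q _) _ _⟩

end LimitPreserving

end Groth.Agent.LD.FF
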