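import Mathlib.RingTheory.Spectrum.Prime.FreeLocus
import Mathlib.RingTheory.LocalRing.Module
import Mathlib.RingTheory.Finiteness.Descent
import Mathlib.RingTheory.Flat.FaithfullyFlat.Algebra

/-! # Faithfully flat descent of "free of rank one" over a semi-local ring. -/

namespace Groth.Agent.LD.FF

open TensorProduct Module

variable {R R' M N : Type*} [CommRing R] [CommRing R'] [Algebra R R']
  [Module.FaithfullyFlat R R'] [AddCommGroup M] [Module R M]

/-- the rank of `M` at a maximal ideal, in terms of `R ⧸ P`. -/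
lemma finrank_quotient_tensor_eq_rankAtStalk [Module.Finite R M] [Module.Flat R M]
    (P : Ideal R) [hP : P.IsMaximal] :
    letI := Ideal.Quotient.field P
    finrank (R ⧸ P) ((R ⧸ P) ⊗[R] M) = rankAtStalk M ⟨P, hP.isPrime⟩ := by
  letI := Ideal.Quotient.field P
  rw [rankAtStalk_eq]
  let e : P.ResidueField ⊗[R ⧸ P] ((R ⧸ P) ⊗[R] M) ≃ₗ[P.ResidueField] P.ResidueField ⊗[R] M :=
    AlgebraTensorModule.cancelBaseChange _ _ _ _ _
  exact (finrank_baseChange (R := P.ResidueField) (S := R ⧸ P) (M' := (R ⧸ P) ⊗[R] M)).symm.trans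
    e.finrank_eq

/-- **descent of free of rank one over a semi-local ring.** -/
theorem exists_basis_of_tensor_equiv [Finite (MaximalSpectrum R)]
    (E : R' ⊗[R] M ≃ₗ[R'] R') : ∃ s : M, ∀ m : M, ∃ r : R, r • s = m := by
  haveI : Module.Finite R' (R' ⊗[R] M) := Module.Finite.equiv E.symm
  haveI : Module.Flat R' (R' ⊗[R] M) := Module.Flat.of_linearEquiv E
  haveI : Module.Finite R M := Module.Finite.of_finite_tensorProduct_of_faithfullyFlat R'
  haveI : Module.Flat R M := Module.Flat.of_flat_tensorProduct R M R'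
  have rk : ∀ P : MaximalSpectrum R, finrank (R ⧸ P.1) ((R ⧸ P.1) ⊗[R] M) = 1 := by
    intro P
    haveI := P.2
    have h1 := finrank_quotient_tensor_eq_rankAtStalk (M := M) P.1
    refine h1.trans ?_
    obtain ⟨p', hp'⟩ := PrimeSpectrum.comap_surjective_of_faithfullyFlat (A := R) (B := R')
      ⟨P.1, P.2.isPrime⟩
    haveI : Nontrivial R' := ⟨⟨0, 1, fun h => p'.2.ne_top ((Ideal.eq_top_iff_one _).mpr
      (h ▸ p'.asIdeal.zero_mem))⟩⟩
    have h2 := rankAtStalk_baseChange (R := R) (M := M) (S := R') p'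
    rw [hp'] at h2
    rw [← h2, rankAtStalk_eq_of_equiv E, rankAtStalk_self]
    rfl
  obtain ⟨b⟩ := nonempty_basis_of_flat_of_finrank_eq R M 1 rk
  refine ⟨b 0, fun m => ⟨b.repr m 0, ?_⟩⟩
  have := b.sum_repr m
  rw [Fin.sum_univ_one] at this
  exact this

/-- the same in terms of a base change map. -/
theorem exists_generator_of_isBaseChange [Finite (MaximalSpectrum R)]
    [AddCommGroup N] [Module R N] [Module R' N] [IsScalarTower R R' N]
    (υ : M →ₗ[R] N) (hυ : IsBaseChange R' υ) (e : N ≃ₗ[R'] R') :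
    ∃ s : M, ∀ m : M, ∃ r : R, r • s = m :=
  exists_basis_of_tensor_equiv (hυ.equiv.trans e)

end Groth.Agent.LD.FF
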