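import Mathlib
import Groth.Agent.S4448
import Groth.Agent.S4454
import Groth.Agent.Lib.Helper5.Gro.HypFF
import Groth.Agent.Lib.Helper5.AG.ProjProper
import Groth.Agent.Lib.Helper5.Curve6.P1Facts
import Groth.Agent.Lib.Helper5.IntN.Veronese
import Groth.Agent.Lib.Helper1.DimFormula3
import Groth.Agent.Lib.Lead.MirFlat

/-!
# The normal proper curve of a function field of transcendence degree one

The curve is the normalization of the projective line in the function field (S2345).
-/

set_option autoImplicit false
universe u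
open CategoryTheory CategoryTheory.Limits AlgebraicGeometry TopologicalSpace Opposite

namespace Groth.Agent.LD.FFC

open Groth.Agent.H5.Gro.P1C Groth.Agent.H5.Gro.HypFF Polynomial

attribute [local instance] Curv2.stalkAlgebra

/-- restriction along an equality of opens does nothing. -/
lemma map_eqToHom_heq {Y : Scheme.{u}} {U V : Y.Opensᵒᵖ} (h : U = V) (x : Y.presheaf.obj U) :
    HEq ((Y.presheaf.map (eqToHom h)).hom x) x := by
  subst h
  simp

/-- the value of `stalkClosedPointTo` on germs of global sections. -/
theorem stalkClosedPointTo_germ_top {X : Scheme.{u}} {R : CommRingCat.{u}} [IsLocalRing R]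
    (f : Spec R ⟶ X) (s : Γ(X, ⊤)) :
    (Scheme.stalkClosedPointTo f).hom
        ((X.presheaf.germ ⊤ (f (IsLocalRing.closedPoint R)) trivial).hom s) =
      (Scheme.ΓSpecIso R).hom.hom (f.appTop.hom s) := by
  have h := Scheme.germ_stalkClosedPointTo f ⊤ trivial
  have h' := congr(($h).hom s)
  simp only [CommRingCat.hom_comp, RingHom.comp_apply, Iso.trans_hom, Functor.mapIso_hom,
    Iso.op_hom, eqToIso.hom, eqToHom_op] at h'
  rw [h']
  congr 1

/-- transporting a bijective map out of a stalk along an equality of points. -/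
theorem exists_equiv_of_eq {X : Scheme.{u}} {R : Type u} [CommRing R] (x y : X) (h : x = y)
    (σ : X.presheaf.stalk x ⟶ CommRingCat.of R) (hσ : Function.Bijective σ.hom) :
    ∃ e : X.presheaf.stalk y ≃+* R, ∀ s : Γ(X, ⊤),
      e ((X.presheaf.germ ⊤ y trivial).hom s) = σ.hom ((X.presheaf.germ ⊤ x trivial).hom s) := by
  subst h
  exact ⟨RingEquiv.ofBijective σ.hom hσ, fun s => rfl⟩

/-- **S2345**: a finitely generated field extension of transcendence degree one is the
function field of a normal proper curve. -/
theorem main (k : Type u) [Field k] (K : Type u) [Field K] [Algebra k K]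
    (hfg : (⊤ : IntermediateField k K).FG) (htr : Algebra.trdeg k K = 1) :
    ∃ (X : Scheme.{u}) (_ : X.Over (Spec (CommRingCat.of k))) (_ : IsIntegral X),
      IsProper (X ↘ (Spec (CommRingCat.of k))) ∧ Pi1.IsNormalScheme X ∧
      (∀ x : X, IsClosed ({x} : Set X) → ringKrullDim (X.presheaf.stalk x) = 1) ∧
      ∃ e : X.presheaf.stalk (genericPoint X) ≃+* K,
        ∀ c : k, e (algebraMap k (X.presheaf.stalk (genericPoint X)) c) = algebraMap k K c := by
  classical
  -- the transcendental element
  obtain ⟨s, hs⟩ := exists_isTranscendenceBasis k K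
  have hcard : Cardinal.mk s = 1 := by rw [hs.cardinalMk_eq_trdeg, htr]
  obtain ⟨hsub, ⟨⟨t, hts⟩⟩⟩ := Cardinal.eq_one_iff_unique.mp hcard
  have httr : Transcendental k t := hs.1.transcendental ⟨t, hts⟩
  -- the projective line
  letI ovP : (PP k).Over (Spec (CommRingCat.of k)) := ⟨CohB1.ProjSpace.toSpec 1 k⟩
  haveI : IsIntegral (PP k) := Groth.Agent.H5.Curve6.isIntegral_projSpace k 1
  haveI hprop : IsProper ((PP k) ↘ Spec (CommRingCat.of k)) :=
    Groth.Agent.H5.AG.isProper_toSpec 1 k
  haveI : LocallyOfFiniteType ((PP k) ↘ Spec (CommRingCat.of k)) := inferInstance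
  haveI : QuasiCompact ((PP k) ↘ Spec (CommRingCat.of k)) := inferInstance
  haveI : IsSeparated ((PP k) ↘ Spec (CommRingCat.of k)) := inferInstance
  have hX : ∀ x : PP k, IsClosed ({x} : Set (PP k)) →
      ringKrullDim ((PP k).presheaf.stalk x) = 1 := by
    intro x hx
    have h1 := Groth.Agent.H1.DimFormula.localDim_eq_stalk_of_isClosed
      ((PP k) ↘ Spec (CommRingCat.of k)) x hx
    have h2 := Groth.Agent.LD.MirFlat.localDim_eq_of_equidim
      ((PP k) ↘ Spec (CommRingCat.of k)) 1 (by
        intro W hW
        rw [irreducibleComponents_eq_singleton, Set.mem_singleton_iff] at hW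
        subst hW
        exact (IsHomeomorph.topologicalKrullDim_eq _
          (Homeomorph.Set.univ (PP k)).isHomeomorph).trans
          (Groth.Agent.H5.IntN.dim_projSpace k 1)) x
    rw [← h1, h2]
    rfl
  -- the chart and the map of function fields
  have hξ : genericPoint (PP k) ∈ U0 k := genericPoint_mem_U0 k
  haveI : Nonempty (U0 k) := ⟨⟨_, hξ⟩⟩
  haveI : IsDomain Γ(PP k, U0 k) := isDomain_U0 k
  haveI : IsFractionRing Γ(PP k, U0 k) (PP k).functionField :=
    functionField_isFractionRing_of_isAffineOpen (PP k) (U0 k) (isAffineOpen_U0 k)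
  let a0 : Γ(PP k, U0 k) →+* K :=
    (aeval (R := k) t).toRingHom.comp (φ0E k).symm.toRingHom
  have ha0 : Function.Injective a0 := by
    intro x y hxy
    exact (φ0E k).symm.injective (transcendental_iff_injective.mp httr hxy)
  let φ : (PP k).functionField →+* K := IsFractionRing.lift ha0
  have hφ0 : ∀ p : k[X],
      φ (((PP k).presheaf.germ (U0 k) (genericPoint (PP k)) hξ).hom (φ0 k p)) = aeval t p := by
    intro p
    have h := IsFractionRing.lift_algebraMap (K := (PP k).functionField) ha0 (φ0 k p)
    refine (show φ (((PP k).presheaf.germ (U0 k) (genericPoint (PP k)) hξ).hom (φ0 k p)) =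
      a0 (φ0 k p) from h).trans ?_
    change aeval t ((φ0E k).symm (φ0E k p)) = _
    rw [RingEquiv.symm_apply_apply]
  have hφk : ∀ c : k,
      φ (Curv2.stalkMap k (PP k) (genericPoint (PP k)) c) = algebraMap k K c := by
    intro c
    have h2 : φ0 k (C c) = κ k (U0 k) c := by
      change Polynomial.eval₂ (κ k (U0 k)) (t0 k) (C c) = _
      rw [Polynomial.eval₂_C]
    have h1 : Curv2.stalkMap k (PP k) (genericPoint (PP k)) c =
        ((PP k).presheaf.germ (U0 k) (genericPoint (PP k)) hξ).hom (φ0 k (C c)) := by
      rw [h2]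
      exact (TopCat.Presheaf.germ_res_apply (PP k).presheaf
        (homOfLE (le_top : U0 k ≤ ⊤)) (genericPoint (PP k)) hξ _).symm
    rw [h1, hφ0, aeval_C]
  -- finiteness
  letI algFK : Algebra (PP k).functionField K := φ.toAlgebra
  haveI : IsScalarTower k (PP k).functionField K :=
    IsScalarTower.of_algebraMap_eq (fun c => (hφk c).symm)
  haveI : Algebra.EssFiniteType k K := IntermediateField.fg_top_iff.mp hfg
  haveI : Algebra.EssFiniteType (PP k).functionField K :=
    Algebra.EssFiniteType.of_comp k (PP k).functionField K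
  have ht' : t = algebraMap (PP k).functionField K
      (((PP k).presheaf.germ (U0 k) (genericPoint (PP k)) hξ).hom (φ0 k X)) := by
    have := hφ0 X
    rw [aeval_X] at this
    exact this.symm
  haveI : Algebra.IsAlgebraic (PP k).functionField K := by
    refine (hs.isAlgebraic_iff (S := (PP k).functionField)).mpr ?_
    rintro ⟨y, hy⟩
    have hyt : y = t := congrArg Subtype.val (Subsingleton.elim (⟨y, hy⟩ : s) ⟨t, hts⟩)
    have h3 : IsAlgebraic (PP k).functionField (algebraMap (PP k).functionField K
      (((PP k).presheaf.germ (U0 k) (genericPoint (PP k)) hξ).hom (φ0 k X))) :=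
      isAlgebraic_algebraMap _
    rw [← ht', ← hyt] at h3
    exact h3
  haveI hfinM : Module.Finite (PP k).functionField K :=
    Algebra.finite_of_essFiniteType_of_isAlgebraic
  have hφfin : φ.Finite := hfinM
  -- the normalization
  haveI : QuasiSeparatedSpace (PP k) :=
    quasiSeparatedSpace_of_quasiSeparated ((PP k) ↘ Spec (CommRingCat.of k))
  let g : Spec (CommRingCat.of K) ⟶ PP k :=
    Spec.map (CommRingCat.ofHom φ) ≫ (PP k).fromSpecStalk (genericPoint (PP k))
  haveI : QuasiCompact g := inferInstance
  haveI : QuasiSeparated g := inferInstance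
  obtain ⟨hint, hnorm, -, hgen, hinj, hrange⟩ := Groth.Agent.S4448.result (PP k) K φ g rfl
  obtain ⟨hfin, -, hdim⟩ := Groth.Agent.S4454.result k (PP k) hX K φ hφfin g rfl
  haveI := hint
  refine ⟨g.normalization, ⟨g.fromNormalization ≫ CohB1.ProjSpace.toSpec 1 k⟩, hint, ?_, hnorm,
    hdim, ?_⟩
  · haveI : IsFinite g.fromNormalization := hfin
    let q : PP k ⟶ Spec (CommRingCat.of k) := CohB1.ProjSpace.toSpec 1 k
    haveI : IsProper q := Groth.Agent.H5.AG.isProper_toSpec 1 k
    change IsProper (g.fromNormalization ≫ q)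
    infer_instance
  · have hsurj : Function.Surjective (Scheme.stalkClosedPointTo g.toNormalization).hom := by
      intro y
      have hy : y ∈ Set.range (Scheme.stalkClosedPointTo g.toNormalization).hom := by
        rw [hrange]
        obtain ⟨q, hq, hq0⟩ := Algebra.IsIntegral.isIntegral (R := (PP k).functionField) y
        exact ⟨q, hq, hq0⟩
      exact hy
    obtain ⟨e, he⟩ := exists_equiv_of_eq (X := g.normalization) _ _ hgen
      (Scheme.stalkClosedPointTo g.toNormalization) ⟨hinj, hsurj⟩
    refine ⟨e, fun c => ?_⟩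
    change e ((g.normalization.presheaf.germ ⊤ (genericPoint g.normalization) trivial).hom
      (Coh.toGlobal (g.fromNormalization ≫ CohB1.ProjSpace.toSpec 1 k) c)) = _
    rw [he, stalkClosedPointTo_germ_top]
    have h5 : g.toNormalization.appTop.hom
        (Coh.toGlobal (g.fromNormalization ≫ CohB1.ProjSpace.toSpec 1 k) c) =
        g.appTop.hom (Coh.toGlobal (CohB1.ProjSpace.toSpec 1 k) c) := by
      have h6 : g = g.toNormalization ≫ g.fromNormalization :=
        (Scheme.Hom.toNormalization_fromNormalization g).symm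
      have h7 : g.appTop = g.fromNormalization.appTop ≫ g.toNormalization.appTop := by
        conv_lhs => rw [h6]
        rfl
      rw [h7]
      rfl
    rw [h5, ← stalkClosedPointTo_germ_top]
    have h8 := Scheme.germ_stalkClosedPointTo_Spec_fromSpecStalk (X := PP k)
      (x := genericPoint (PP k)) (CommRingCat.ofHom φ) ⊤ trivial
    have h9 := congr(($h8).hom (Coh.toGlobal (CohB1.ProjSpace.toSpec 1 k) c))
    refine h9.trans ?_
    exact hφk c

end Groth.Agent.LD.FFC
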