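import Groth.Agent.Lib.Lead.FF.ReesMain
import Groth.Agent.Lib.Lead.CohLES.DualLin

/-! # The filtration of `H^p(X, F)` by the images of `H^p(X, I^n F)`: algebraic consequences of
the finite generation over the Rees algebra -/

universe u
open CategoryTheory Limits Opposite TopologicalSpace AlgebraicGeometry

namespace Groth.Agent.LD.FF

variable {A : Type u} [CommRing A] {X : Scheme.{u}} [X.Over (Spec (CommRingCat.of A))]
variable (F : X.Modules) (p : ℕ)

/-- multiplication by `t` as a map `H^p(J F) → H^p(J' F)`. -/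
noncomputable def up (J J' : Ideal A) (t : A) (h : ∀ b ∈ J, t * b ∈ J') :
    Coh.HH X (CohIII.idealMul J F) p →ₗ[A] Coh.HH X (CohIII.idealMul J' F) p :=
  CL.HHmap A (mulTo J J' F t h) p

/-- the map `H^p(J F) → H^p(F)`. -/
noncomputable def ιH (J : Ideal A) : Coh.HH X (CohIII.idealMul J F) p →ₗ[A] Coh.HH X F p :=
  CL.HHmap A (CohIII.idealMulι J F) p

/-- multiplication by `t ∈ J` as a map `H^p(F) → H^p(J F)`. -/
noncomputable def dn (J : Ideal A) (t : J) : Coh.HH X F p →ₗ[A] Coh.HH X (CohIII.idealMul J F) p :=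
  CL.HHmap A (eComp J F t) p

variable {F p}

lemma ιH_up {J J' : Ideal A} (t : A) (h : ∀ b ∈ J, t * b ∈ J')
    (x : Coh.HH X (CohIII.idealMul J F) p) : ιH F p J' (up F p J J' t h x) = t • ιH F p J x := by
  unfold ιH up
  rw [← CL.HHmap_comp_apply, mulTo_ι, CL.HHmap_comp_apply, CL.HHmap_smulMod]

lemma up_up {J J' J'' : Ideal A} (t t' : A) (h : ∀ b ∈ J, t * b ∈ J') (h' : ∀ b ∈ J', t' * b ∈ J'')
    (h'' : ∀ b ∈ J, t' * t * b ∈ J'') (x : Coh.HH X (CohIII.idealMul J F) p) :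
    up F p J' J'' t' h' (up F p J J' t h x) = up F p J J'' (t' * t) h'' x := by
  unfold up
  rw [← CL.HHmap_comp_apply, mulTo_comp]

lemma mulTo_self (J : Ideal A) (t : A) (h : ∀ b ∈ J, t * b ∈ J) :
    mulTo J J F t h = Formal.smulMod A (CohIII.idealMul J F) t := by
  rw [← cancel_mono (CohIII.idealMulι J F), mulTo_ι, comp_smulMod]

lemma up_self {J : Ideal A} (t : A) (h : ∀ b ∈ J, t * b ∈ J)
    (x : Coh.HH X (CohIII.idealMul J F) p) : up F p J J t h x = t • x := by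
  unfold up
  rw [mulTo_self, CL.HHmap_smulMod]

lemma up_eq_dn {J J' : Ideal A} (t : A) (ht : t ∈ J') (h : ∀ b ∈ J, t * b ∈ J')
    (x : Coh.HH X (CohIII.idealMul J F) p) :
    up F p J J' t h x = dn F p J' ⟨t, ht⟩ (ιH F p J x) := by
  unfold up dn ιH
  rw [← CL.HHmap_comp_apply]
  congr 2
  rw [← cancel_mono (CohIII.idealMulι J' F), mulTo_ι, Category.assoc, eComp_ι]

lemma ιH_dn {J : Ideal A} (t : J) (y : Coh.HH X F p) : ιH F p J (dn F p J t y) = (t : A) • y := by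
  unfold ιH dn
  rw [← CL.HHmap_comp_apply, eComp_ι, CL.HHmap_smulMod]

lemma up_one_refl {J : Ideal A} (h : ∀ b ∈ J, (1 : A) * b ∈ J)
    (x : Coh.HH X (CohIII.idealMul J F) p) : up F p J J 1 h x = x := by
  rw [up_self, one_smul]

lemma pow_mul_mem {I : Ideal A} {k r n : ℕ} (hn : n = k + r) :
    ∀ t ∈ I ^ r, ∀ b ∈ I ^ k, t * b ∈ I ^ n := by
  intro t ht b hb
  rw [hn, add_comm, pow_add]
  exact Ideal.mul_mem_mul ht hb

lemma one_mul_mem {I : Ideal A} {n m : ℕ} (h : m ≤ n) : ∀ b ∈ I ^ n, (1 : A) * b ∈ I ^ m := by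
  intro b hb
  rw [one_mul]
  exact Ideal.pow_le_pow_right h hb

section rstep
variable (I : Ideal A) {s : ℕ} (a : Fin s → A) (ha : Ideal.span (Set.range a) = I)

include ha in
/-- from one-step generation to `r`-step generation, for a sub-family. -/
theorem rstep (W : ∀ k, Submodule A (Coh.HH X (CohIII.idealMul (I ^ k) F) p)) (k₁ : ℕ)
    (hgen : ∀ k, k₁ ≤ k → ∀ x ∈ W (k + 1),
      ∃ y : Fin s → Coh.HH X (CohIII.idealMul (I ^ k) F) p, (∀ i, y i ∈ W k) ∧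
        x = ∑ i, up F p (I ^ k) (I ^ (k + 1)) (a i) (rees_aux I a ha i k) (y i))
    (k : ℕ) (hk : k₁ ≤ k) : ∀ (r n : ℕ) (hn : n = k + r), ∀ x ∈ W n,
      x ∈ ⨆ t : ↥(I ^ r), (W k).map (up F p (I ^ k) (I ^ n) t (pow_mul_mem (I := I) hn (t : A) t.2)) := by
  intro r
  induction r with
  | zero =>
    intro n hn x hx
    obtain rfl : n = k := hn
    have h1 : (1 : A) ∈ I ^ 0 := by rw [pow_zero, Ideal.one_eq_top]; trivial
    refine Submodule.mem_iSup_of_mem (⟨1, h1⟩ : ↥(I ^ 0)) ⟨x, hx, ?_⟩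
    exact up_one_refl _ x
  | succ r ih =>
    intro n hn x hx
    obtain rfl : n = k + r + 1 := hn
    obtain ⟨y, hyW, hy⟩ := hgen (k + r) (by omega) x hx
    rw [hy]
    refine Submodule.sum_mem _ fun i _ => ?_
    have hyi := ih (k + r) rfl (y i) (hyW i)
    have hle : (⨆ t : ↥(I ^ r), (W k).map (up F p (I ^ k) (I ^ (k + r)) t
        (pow_mul_mem (I := I) rfl (t : A) t.2))) ≤
        (⨆ t : ↥(I ^ (r + 1)), (W k).map (up F p (I ^ k) (I ^ (k + r + 1)) t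
          (pow_mul_mem (I := I) rfl (t : A) t.2))).comap
          (up F p (I ^ (k + r)) (I ^ (k + r + 1)) (a i) (rees_aux I a ha i (k + r))) := by
      refine iSup_le fun c => ?_
      rintro _ ⟨w, hw, rfl⟩
      have hc : a i * (c : A) ∈ I ^ (r + 1) := by
        rw [pow_succ']
        exact Ideal.mul_mem_mul (ha ▸ Ideal.subset_span ⟨i, rfl⟩) c.2
      refine Submodule.mem_iSup_of_mem (⟨a i * c, hc⟩ : ↥(I ^ (r + 1))) ⟨w, hw, ?_⟩
      exact (up_up _ _ _ _ _ w).symm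
    exact hle hyi

end rstep

end Groth.Agent.LD.FF

namespace Groth.Agent.LD.FF

variable {A : Type u} [CommRing A] {X : Scheme.{u}} [X.Over (Spec (CommRingCat.of A))]

/-- generators of an ideal of a Noetherian ring, indexed by `Fin s`. -/
lemma exists_fin_generators [IsNoetherianRing A] (I : Ideal A) :
    ∃ (s : ℕ) (a : Fin s → A), Ideal.span (Set.range a) = I := by
  classical
  obtain ⟨S, hS⟩ := (isNoetherianRing_iff_ideal_fg A).mp inferInstance I
  refine ⟨S.card, fun i => (S.equivFin.symm i : A), ?_⟩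
  rw [← hS]
  congr 1
  ext x
  constructor
  · rintro ⟨i, rfl⟩
    exact (S.equivFin.symm i).2
  · intro hx
    exact ⟨S.equivFin ⟨x, hx⟩, by simp⟩

section main
variable [IsNoetherianRing A] (hN : NoethHyp.{u}) [IsLocallyNoetherian X] [CompactSpace X]
  (hfin : FinHyp X A) (I : Ideal A) {s : ℕ} (a : Fin s → A)
  (ha : Ideal.span (Set.range a) = I) (F : X.Modules) (hF : Coh.IsCoh F) (p : ℕ)

include hN hfin hF in
/-- one-step generation of stable sub-families of `(H^p(I^k F))_k`. -/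
theorem exists_gen_sub (W : ∀ k, Submodule A (Coh.HH X (CohIII.idealMul (I ^ k) F) p))
    (hW : ∀ i k x, x ∈ W k →
      up F p (I ^ k) (I ^ (k + 1)) (a i) (rees_aux I a ha i k) x ∈ W (k + 1)) :
    ∃ k₁, ∀ k, k₁ ≤ k → ∀ x ∈ W (k + 1),
      ∃ y : Fin s → Coh.HH X (CohIII.idealMul (I ^ k) F) p, (∀ i, y i ∈ W k) ∧
        x = ∑ i, up F p (I ^ k) (I ^ (k + 1)) (a i) (rees_aux I a ha i k) (y i) := by
  obtain ⟨𝒰, h𝒰fin, h𝒰aff, h𝒰cov⟩ := exists_finite_affine_cover X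
  obtain ⟨k₀, hk₀⟩ := exists_HGen hN hfin h𝒰aff h𝒰fin h𝒰cov s (reesFam I a ha F)
    (reesFam_isCoh I a ha F hF) 0 (reesFam_evGen I a ha F hF.1 𝒰 h𝒰aff) p
  obtain ⟨k₁, hk₁⟩ := subfamily_gen hN hfin (reesFam I a ha F) (reesFam_isCoh I a ha F hF) p k₀
    hk₀ (fun k => ↥(W k)) (fun k => (W k).subtype)
    (fun i k w => ⟨⟨_, hW i k w.1 w.2⟩, rfl⟩)
  refine ⟨k₁, fun k hk x hx => ?_⟩
  obtain ⟨w', hw'⟩ := hk₁ k hk ⟨x, hx⟩
  exact ⟨fun i => (w' i).1, fun i => (w' i).2, hw'⟩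

include hN hfin hF ha in
/-- `r`-step generation of stable sub-families. -/
theorem exists_rgen_sub (W : ∀ k, Submodule A (Coh.HH X (CohIII.idealMul (I ^ k) F) p))
    (hW : ∀ (t : A) (ht : t ∈ I) (k : ℕ) (x), x ∈ W k →
      up F p (I ^ k) (I ^ (k + 1)) t (pow_mul_mem (I := I) (r := 1) (add_comm 1 k ▸ rfl) t
        (by rwa [pow_one])) x ∈ W (k + 1)) :
    ∃ k₁, ∀ k, k₁ ≤ k → ∀ (r n : ℕ) (hn : n = k + r), ∀ x ∈ W n,
      x ∈ ⨆ t : ↥(I ^ r), (W k).map (up F p (I ^ k) (I ^ n) t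
        (pow_mul_mem (I := I) hn (t : A) t.2)) := by
  obtain ⟨k₁, hk₁⟩ := exists_gen_sub hN hfin I a ha F hF p W (fun i k x hx =>
    hW (a i) (ha ▸ Ideal.subset_span ⟨i, rfl⟩) k x hx)
  exact ⟨k₁, fun k hk => rstep I a ha W k₁ hk₁ k hk⟩

end main

end Groth.Agent.LD.FF
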