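import Groth.Agent.Lib.Lead.FF.Filt

/-! # Consequences of Rees finiteness for the filtration on `H^p(X, F)` (idealMul form) -/

universe u
open CategoryTheory Limits Opposite TopologicalSpace AlgebraicGeometry

namespace Groth.Agent.LD.FF

variable {A : Type u} [CommRing A] {X : Scheme.{u}} [X.Over (Spec (CommRingCat.of A))]

section main
variable [IsNoetherianRing A] (hN : NoethHyp.{u}) [IsLocallyNoetherian X] [CompactSpace X]
  (hfin : FinHyp X A) (I : Ideal A) (F : X.Modules) (hF : Coh.IsCoh F) (p : ℕ)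

omit [IsNoetherianRing A] [IsLocallyNoetherian X] [CompactSpace X] in
lemma up_congr {J J' : Ideal A} {t t' : A} (e : t = t') (h : ∀ b ∈ J, t * b ∈ J')
    (h' : ∀ b ∈ J, t' * b ∈ J') : up F p J J' t h = up F p J J' t' h' := by
  subst e; rfl

omit [IsNoetherianRing A] [IsLocallyNoetherian X] [CompactSpace X] in
lemma mul_mem_succ {I : Ideal A} {t : A} (ht : t ∈ I) (k : ℕ) : ∀ b ∈ I ^ k, t * b ∈ I ^ (k + 1) := by
  intro b hb
  rw [pow_succ']
  exact Ideal.mul_mem_mul ht hb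

include hN hfin hF in
/-- `r`-step generation of stable sub-families (generator-free form). -/
theorem exists_rgen (W : ∀ k, Submodule A (Coh.HH X (CohIII.idealMul (I ^ k) F) p))
    (hW : ∀ (t : A) (ht : t ∈ I) (k : ℕ) (x), x ∈ W k →
      up F p (I ^ k) (I ^ (k + 1)) t (mul_mem_succ ht k) x ∈ W (k + 1)) :
    ∃ k₁, ∀ k, k₁ ≤ k → ∀ (r n : ℕ) (hn : n = k + r), ∀ x ∈ W n,
      x ∈ ⨆ t : ↥(I ^ r), (W k).map (up F p (I ^ k) (I ^ n) t
        (pow_mul_mem (I := I) hn (t : A) t.2)) := by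
  obtain ⟨s, a, ha⟩ := exists_fin_generators I
  exact exists_rgen_sub hN hfin I a ha F hF p W hW

/-- the image of `H^p(I^k F)` in `H^p(F)`. -/
noncomputable def Rfil (k : ℕ) : Submodule A (Coh.HH X F p) := LinearMap.range (ιH F p (I ^ k))

include hN hfin hF in
/-- the filtration by the images of `H^p(I^k F)` is `I`-good. -/
theorem exists_Rfil_succ : ∃ k₀, ∀ k, k₀ ≤ k → Rfil I F p (k + 1) = I • Rfil I F p k := by
  obtain ⟨k₁, hk₁⟩ := exists_rgen hN hfin I F hF p (fun _ => ⊤) (fun _ _ _ _ _ => trivial)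
  refine ⟨k₁, fun k hk => le_antisymm ?_ ?_⟩
  · rintro _ ⟨x, rfl⟩
    have hx := hk₁ k hk 1 (k + 1) rfl x trivial
    have hle : (⨆ t : ↥(I ^ 1), (⊤ : Submodule A _).map (up F p (I ^ k) (I ^ (k + 1)) t
        (pow_mul_mem (I := I) rfl (t : A) t.2))) ≤ (I • Rfil I F p k).comap (ιH F p (I ^ (k + 1))) := by
      refine iSup_le fun t => ?_
      rintro _ ⟨y, -, rfl⟩
      change ιH F p (I ^ (k + 1)) (up F p (I ^ k) (I ^ (k + 1)) t _ y) ∈ I • Rfil I F p k
      rw [ιH_up]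
      exact Submodule.smul_mem_smul (by simpa using t.2) ⟨y, rfl⟩
    exact hle hx
  · rw [Submodule.smul_le]
    rintro t ht _ ⟨x, rfl⟩
    exact ⟨up F p (I ^ k) (I ^ (k + 1)) t (mul_mem_succ ht k) x, ιH_up _ _ _⟩

include hN hfin hF in
/-- the images of `H^p(I^n F)` in `H^p(F)` are contained in `I^(n-c) H^p(F)`. -/
theorem exists_Rfil_le : ∃ c, ∀ n, c ≤ n → Rfil I F p n ≤ I ^ (n - c) • ⊤ := by
  obtain ⟨k₁, hk₁⟩ := exists_rgen hN hfin I F hF p (fun _ => ⊤) (fun _ _ _ _ _ => trivial)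
  refine ⟨k₁, fun n hn => ?_⟩
  rintro _ ⟨x, rfl⟩
  have hx := hk₁ k₁ le_rfl (n - k₁) n (by omega) x trivial
  have hle : (⨆ t : ↥(I ^ (n - k₁)), (⊤ : Submodule A _).map (up F p (I ^ k₁) (I ^ n) t
      (pow_mul_mem (I := I) (by omega) (t : A) t.2))) ≤
      (I ^ (n - k₁) • (⊤ : Submodule A (Coh.HH X F p))).comap (ιH F p (I ^ n)) := by
    refine iSup_le fun t => ?_
    rintro _ ⟨y, -, rfl⟩
    change ιH F p (I ^ n) (up F p (I ^ k₁) (I ^ n) t _ y) ∈
      I ^ (n - k₁) • (⊤ : Submodule A (Coh.HH X F p))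
    rw [ιH_up]
    exact Submodule.smul_mem_smul t.2 trivial
  exact hle hx

include hN hfin hF in
/-- the kernel of `H^p(I^n F) → H^p(F)` equals the kernel of `H^p(I^n F) → H^p(I^(n-c) F)`. -/
theorem exists_ker_eq : ∃ c, ∀ n (hn : c ≤ n),
    LinearMap.ker (ιH F p (I ^ n)) =
      LinearMap.ker (up F p (I ^ n) (I ^ (n - c)) 1 (one_mul_mem (Nat.sub_le n c))) := by
  obtain ⟨k₁, hk₁⟩ := exists_rgen hN hfin I F hF p (fun k => LinearMap.ker (ιH F p (I ^ k)))
    (fun t ht k x hx => by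
      rw [LinearMap.mem_ker] at hx ⊢
      rw [ιH_up, hx, smul_zero])
  refine ⟨k₁, fun n hn => le_antisymm ?_ ?_⟩
  · intro x hx
    have hx' := hk₁ k₁ le_rfl (n - k₁) n (by omega) x hx
    have hle : (⨆ t : ↥(I ^ (n - k₁)), (LinearMap.ker (ιH F p (I ^ k₁))).map
        (up F p (I ^ k₁) (I ^ n) t (pow_mul_mem (I := I) (by omega) (t : A) t.2))) ≤
        LinearMap.ker (up F p (I ^ n) (I ^ (n - k₁)) 1 (one_mul_mem (Nat.sub_le n k₁))) := by
      refine iSup_le fun t => ?_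
      rintro _ ⟨y, hy, rfl⟩
      have hy' : ιH F p (I ^ k₁) y = 0 := hy
      rw [LinearMap.mem_ker]
      rw [up_up (h'' := fun b hb => by
        rw [one_mul]
        exact Ideal.mul_mem_right _ _ t.2), up_eq_dn (1 * (t : A)) (by rw [one_mul]; exact t.2), hy',
        map_zero]
    exact hle hx'
  · intro x hx
    rw [LinearMap.mem_ker] at hx ⊢
    have h := ιH_up (F := F) (p := p) (1 : A) (one_mul_mem (I := I) (Nat.sub_le n k₁)) x
    rw [hx, map_zero, one_smul] at h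
    exact h.symm

include hN hfin hF in
/-- the image of `H^p(I^(n+m) F) → H^p(I^n F)` is contained in `I^(m-(c-n)) H^p(I^n F)`. -/
theorem exists_range_le : ∃ c, ∀ n m, c ≤ n + m →
    LinearMap.range (up F p (I ^ (n + m)) (I ^ n) 1 (one_mul_mem (Nat.le_add_right n m))) ≤
      I ^ (m - (c - n)) • ⊤ := by
  obtain ⟨k₁, hk₁⟩ := exists_rgen hN hfin I F hF p (fun _ => ⊤) (fun _ _ _ _ _ => trivial)
  refine ⟨k₁, fun n m hnm => ?_⟩
  rintro _ ⟨x, rfl⟩
  by_cases hn : k₁ ≤ n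
  · have hx := hk₁ n hn m (n + m) rfl x trivial
    have hle : (⨆ t : ↥(I ^ m), (⊤ : Submodule A _).map (up F p (I ^ n) (I ^ (n + m)) t
        (pow_mul_mem (I := I) rfl (t : A) t.2))) ≤
        (I ^ (m - (k₁ - n)) • (⊤ : Submodule A (Coh.HH X (CohIII.idealMul (I ^ n) F) p))).comap
          (up F p (I ^ (n + m)) (I ^ n) 1 (one_mul_mem (Nat.le_add_right n m))) := by
      refine iSup_le fun t => ?_
      rintro _ ⟨y, -, rfl⟩
      change up F p (I ^ (n + m)) (I ^ n) 1 _ (up F p (I ^ n) (I ^ (n + m)) t _ y) ∈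
        I ^ (m - (k₁ - n)) • (⊤ : Submodule A (Coh.HH X (CohIII.idealMul (I ^ n) F) p))
      rw [up_up (h'' := fun b hb => by
        rw [one_mul]
        exact Ideal.mul_mem_left _ _ hb), up_self, one_mul]
      have : k₁ - n = 0 := by omega
      rw [this, Nat.sub_zero]
      exact Submodule.smul_mem_smul t.2 trivial
    exact hle hx
  · have hx := hk₁ k₁ le_rfl (n + m - k₁) (n + m) (by omega) x trivial
    have hle : (⨆ t : ↥(I ^ (n + m - k₁)), (⊤ : Submodule A _).map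
        (up F p (I ^ k₁) (I ^ (n + m)) t (pow_mul_mem (I := I) (by omega) (t : A) t.2))) ≤
        (I ^ (m - (k₁ - n)) • (⊤ : Submodule A (Coh.HH X (CohIII.idealMul (I ^ n) F) p))).comap
          (up F p (I ^ (n + m)) (I ^ n) 1 (one_mul_mem (Nat.le_add_right n m))) := by
      refine iSup_le fun t => ?_
      rintro _ ⟨y, -, rfl⟩
      change up F p (I ^ (n + m)) (I ^ n) 1 _ (up F p (I ^ k₁) (I ^ (n + m)) t _ y) ∈
        I ^ (m - (k₁ - n)) • (⊤ : Submodule A (Coh.HH X (CohIII.idealMul (I ^ n) F) p))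
      have hI : ∀ b ∈ I ^ k₁, (1 : A) * b ∈ I ^ n := one_mul_mem (by omega)
      have hI' : ∀ b ∈ I ^ n, (t : A) * b ∈ I ^ n := fun b hb => Ideal.mul_mem_left _ _ hb
      have h1 : up F p (I ^ (n + m)) (I ^ n) 1 (one_mul_mem (Nat.le_add_right n m))
          (up F p (I ^ k₁) (I ^ (n + m)) t (pow_mul_mem (I := I) (by omega) (t : A) t.2) y) =
          up F p (I ^ n) (I ^ n) t hI' (up F p (I ^ k₁) (I ^ n) 1 hI y) := by
        rw [up_up (h'' := fun b hb => by
          rw [one_mul]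
          exact Ideal.mul_mem_left _ _ (Ideal.pow_le_pow_right (by omega) hb)),
          up_up (h'' := fun b hb => by
          rw [mul_one]
          exact Ideal.mul_mem_left _ _ (Ideal.pow_le_pow_right (by omega) hb))]
        exact LinearMap.congr_fun (up_congr F p (J := I ^ k₁) (J' := I ^ n)
          (show (1 : A) * (t : A) = (t : A) * 1 by rw [one_mul, mul_one]) _ _) y
      rw [h1, up_self]
      have : n + m - k₁ = m - (k₁ - n) := by omega
      rw [← this]
      exact Submodule.smul_mem_smul t.2 trivial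
    exact hle hx

end main

end Groth.Agent.LD.FF
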