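import Mathlib
import Groth.Agent.Lib.Lead.FF.LimPres
import Groth.Agent.Lib.Helper5.Lim.ModuleIso

set_option autoImplicit false
universe u
open CategoryTheory CategoryTheory.Limits AlgebraicGeometry TopologicalSpace Opposite

/-!
# Limit preservation of `F_zero` and `F_iso`: descent to a finite stage
-/

namespace Groth.Agent.LD.FF

variable {X S : Scheme.{u}} (f : X ⟶ S) {I : Type u} [SmallCategory I] (D : I ⥤ Over S)

/-- if the base change of `u` to the limit vanishes, so does the base change to a finite stage
(the source being of finite type and `f` quasi-compact). -/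
theorem exists_zero_of_isLimit [QuasiCompact f] {F G : X.Modules} [F.IsQuasicoherent]
    [G.IsQuasicoherent] (hF : F.IsFiniteType) (u : F ⟶ G) [IsCofiltered I] (c : Cone D)
    (hc : IsLimit ((Over.forget S).mapCone c)) (hD : ∀ i, IsAffine (D.obj i).left)
    (h : (Scheme.Modules.pullback (pullback.fst f c.pt.hom)).map u = 0) :
    ∃ i, (Scheme.Modules.pullback (pullback.fst f (D.obj i).hom)).map u = 0 := by
  haveI : ∀ i, IsAffine (D.obj i).left := hD
  haveI haff : ∀ (i j : I) (g : i ⟶ j), IsAffineHom ((bcDiagram f D).map g) := fun i j g =>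
    MorphismProperty.of_isPullback (P := @IsAffineHom) (isPullback_bcMap f (D.map g))
      inferInstance
  obtain ⟨i₀⟩ : Nonempty I := IsCofiltered.nonempty
  haveI hcpt : CompactSpace ((bcDiagram f D).obj i₀) :=
    inferInstanceAs (CompactSpace ↑(pullback f (D.obj i₀).hom))
  haveI : ((Scheme.Modules.pullback (pullback.fst f (D.obj i₀).hom)).obj F).IsQuasicoherent :=
    QC.qc_pullback _ F
  haveI : ((Scheme.Modules.pullback (pullback.fst f (D.obj i₀).hom)).obj G).IsQuasicoherent :=
    QC.qc_pullback _ G
  have hft : ((Scheme.Modules.pullback (pullback.fst f (D.obj i₀).hom)).obj F).IsFiniteType :=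
    QC.isFiniteType_pullback _ F hF
  have h0 : (Scheme.Modules.pullback ((bcCone f D c).π.app i₀)).map
      ((Scheme.Modules.pullback (pullback.fst f (D.obj i₀).hom)).map u) =
      (Scheme.Modules.pullback ((bcCone f D c).π.app i₀)).map 0 := by
    rw [Functor.map_zero]
    exact (eq_zero_pullback_comp_iff _ _ (bcMap_fst f (c.π.app i₀)) u).1 h
  obtain ⟨k, hk⟩ := Groth.Agent.H5.Lim.exists_stage_pullback_map_eq (bcDiagram f D)
    (bcCone f D c) (isLimitBcCone f D c hc) i₀ hft
    ((Scheme.Modules.pullback (pullback.fst f (D.obj i₀).hom)).map u) 0 h0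
  rw [Functor.map_zero] at hk
  exact ⟨k.left, (eq_zero_pullback_comp_iff _ _ (bcMap_fst f (D.map k.hom)) u).2 hk⟩

/-- if the base change of `u` to the limit is an isomorphism, so is the base change to a finite
stage (`F` of finite type, `G` of finite presentation and `f` quasi-compact). -/
theorem exists_isIso_of_isLimit [QuasiCompact f] {F G : X.Modules} [F.IsQuasicoherent]
    (hF : F.IsFiniteType) (hG : G.IsFinitePresentation) (u : F ⟶ G) [IsCofiltered I]
    (c : Cone D) (hc : IsLimit ((Over.forget S).mapCone c))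
    (hD : ∀ i, IsAffine (D.obj i).left)
    (h : IsIso ((Scheme.Modules.pullback (pullback.fst f c.pt.hom)).map u)) :
    ∃ i, IsIso ((Scheme.Modules.pullback (pullback.fst f (D.obj i).hom)).map u) := by
  haveI : ∀ i, IsAffine (D.obj i).left := hD
  haveI haff : ∀ (i j : I) (g : i ⟶ j), IsAffineHom ((bcDiagram f D).map g) := fun i j g =>
    MorphismProperty.of_isPullback (P := @IsAffineHom) (isPullback_bcMap f (D.map g))
      inferInstance
  obtain ⟨i₀⟩ : Nonempty I := IsCofiltered.nonempty
  haveI hcpt : CompactSpace ((bcDiagram f D).obj i₀) :=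
    inferInstanceAs (CompactSpace ↑(pullback f (D.obj i₀).hom))
  haveI : ((Scheme.Modules.pullback (pullback.fst f (D.obj i₀).hom)).obj F).IsQuasicoherent :=
    QC.qc_pullback _ F
  have hft : ((Scheme.Modules.pullback (pullback.fst f (D.obj i₀).hom)).obj F).IsFiniteType :=
    QC.isFiniteType_pullback _ F hF
  have hfp : ((Scheme.Modules.pullback (pullback.fst f (D.obj i₀).hom)).obj
      G).IsFinitePresentation := QC.isFinitePresentation_pullback _ G hG
  have h0 : IsIso ((Scheme.Modules.pullback ((bcCone f D c).π.app i₀)).map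
      ((Scheme.Modules.pullback (pullback.fst f (D.obj i₀).hom)).map u)) :=
    (isIso_pullback_comp_iff _ _ (bcMap_fst f (c.π.app i₀)) u).1 h
  obtain ⟨k, hk⟩ := Groth.Agent.H5.Lim.exists_stage_isIso_pullback_map (bcDiagram f D)
    (bcCone f D c) (isLimitBcCone f D c hc) i₀ hft hfp
    ((Scheme.Modules.pullback (pullback.fst f (D.obj i₀).hom)).map u) h0
  exact ⟨k.left, (isIso_pullback_comp_iff _ _ (bcMap_fst f (D.map k.hom)) u).2 hk⟩

end Groth.Agent.LD.FF
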