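import Groth.Agent.Lib.Lead.FF.FlatSheaf
import Groth.Agent.Lib.Lead.FF.LimPres2
import Groth.Agent.Lib.Lead.RelFP.Geom2
import Groth.Agent.Lib.Lead.FBC.AlgPushout
import Groth.Agent.Lib.Lead.QC.Flat
import Groth.Agent.Lib.Helper1.WeakFlat
import Groth.Agent.Lib.Helper1.SchFlat
import Groth.Agent.Lib.Helper5.Lim.ModuleLocFree
import Groth.Agent.Lib.Helper5.Lim.ConnComponents

/-! # The functor `F_flat` is limit preserving (S9013; EGA IV 11.2.6 for modules) -/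

set_option autoImplicit false
universe u
open CategoryTheory CategoryTheory.Limits AlgebraicGeometry TopologicalSpace Opposite TensorProduct

namespace Groth.Agent.LD.FF

open Groth.Agent.LD.QC Groth.Agent.LD.RelFP

section BaseChange

variable {X S X' S' : Scheme.{u}} (f : X ⟶ S) (f' : X' ⟶ S') (g' : X' ⟶ X) (g : S' ⟶ S)

/-- sections of the base change of a quasi-coherent module over an affine piece of a fibre
product: flatness over the new base in terms of the tensor product. -/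
theorem flat_tensor_iff_flat_sections (hc : IsPullback g' f' f g) (F : X.Modules)
    [F.IsQuasicoherent] {V : S.Opens} {V' : S'.Opens} {U : X.Opens} (hV'V : V' ≤ g ⁻¹ᵁ V)
    (hUV : U ≤ f ⁻¹ᵁ V) (hV : IsAffineOpen V) (hV' : IsAffineOpen V') (hU : IsAffineOpen U) :
    letI : Algebra Γ(S, V) Γ(S', V') := (g.appLE V V' hV'V).hom.toAlgebra
    letI := sectionsModuleOver f F hUV
    letI := sectionsModuleOver f' ((Scheme.Modules.pullback g').obj F)
      (inf_le_right : g' ⁻¹ᵁ U ⊓ f' ⁻¹ᵁ V' ≤ f' ⁻¹ᵁ V')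
    Module.Flat Γ(S', V') (Γ(S', V') ⊗[Γ(S, V)] Γ(F, U)) ↔
      Module.Flat Γ(S', V') Γ((Scheme.Modules.pullback g').obj F, g' ⁻¹ᵁ U ⊓ f' ⁻¹ᵁ V') := by
  have hU' := isAffineOpen_inf_of_isPullback f f' g' g hc hV'V hUV hV hV' hU
  have hpo := (isIso_pushoutSection_iff hc hV'V hUV rfl).1
    (isIso_pushoutSection_of_isAffineOpen hc hV'V hUV rfl hV hV' hU)
  letI i1 : Algebra Γ(S, V) Γ(X, U) := (f.appLE V U hUV).hom.toAlgebra
  letI i2 : Algebra Γ(S, V) Γ(S', V') := (g.appLE V V' hV'V).hom.toAlgebra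
  letI i3 : Algebra Γ(X, U) Γ(X', g' ⁻¹ᵁ U ⊓ f' ⁻¹ᵁ V') :=
    (g'.appLE U (g' ⁻¹ᵁ U ⊓ f' ⁻¹ᵁ V') inf_le_left).hom.toAlgebra
  letI i4 : Algebra Γ(S', V') Γ(X', g' ⁻¹ᵁ U ⊓ f' ⁻¹ᵁ V') :=
    (f'.appLE V' (g' ⁻¹ᵁ U ⊓ f' ⁻¹ᵁ V') inf_le_right).hom.toAlgebra
  letI i5 : Algebra Γ(S, V) Γ(X', g' ⁻¹ᵁ U ⊓ f' ⁻¹ᵁ V') :=
    ((g'.appLE U (g' ⁻¹ᵁ U ⊓ f' ⁻¹ᵁ V') inf_le_left).hom.comp (f.appLE V U hUV).hom).toAlgebra
  haveI : IsScalarTower Γ(S, V) Γ(X, U) Γ(X', g' ⁻¹ᵁ U ⊓ f' ⁻¹ᵁ V') := .of_algebraMap_eq' rfl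
  haveI : IsScalarTower Γ(S, V) Γ(S', V') Γ(X', g' ⁻¹ᵁ U ⊓ f' ⁻¹ᵁ V') :=
    .of_algebraMap_eq' (congr($(hpo.1.1).hom))
  haveI hpo1 : Algebra.IsPushout Γ(S, V) Γ(X, U) Γ(S', V') Γ(X', g' ⁻¹ᵁ U ⊓ f' ⁻¹ᵁ V') :=
    CommRingCat.isPushout_iff_isPushout.mp hpo
  haveI hpo2 : Algebra.IsPushout Γ(S, V) Γ(S', V') Γ(X, U) Γ(X', g' ⁻¹ᵁ U ⊓ f' ⁻¹ᵁ V') :=
    Algebra.IsPushout.symm hpo1
  have e1 : g' ⁻¹ᵁ U ⊓ f' ⁻¹ᵁ V' ≤ g' ⁻¹ᵁ U := inf_le_left
  letI := pbModule g' F e1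
  haveI := pbModule_isScalarTower g' F e1
  have hbc := isBaseChange_pbSec g' hU' hU e1 F
  letI m1 := sectionsModuleOver f F hUV
  letI m2 := sectionsModuleOver f' ((Scheme.Modules.pullback g').obj F)
    (inf_le_right : g' ⁻¹ᵁ U ⊓ f' ⁻¹ᵁ V' ≤ f' ⁻¹ᵁ V')
  haveI : IsScalarTower Γ(S, V) Γ(X, U) Γ(F, U) :=
    Groth.Agent.H1.SchFlat.isScalarTower_sections f F hUV
  haveI : IsScalarTower Γ(S', V') Γ(X', g' ⁻¹ᵁ U ⊓ f' ⁻¹ᵁ V')
      Γ((Scheme.Modules.pullback g').obj F, g' ⁻¹ᵁ U ⊓ f' ⁻¹ᵁ V') :=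
    Groth.Agent.H1.SchFlat.isScalarTower_sections f' ((Scheme.Modules.pullback g').obj F)
      (inf_le_right : g' ⁻¹ᵁ U ⊓ f' ⁻¹ᵁ V' ≤ f' ⁻¹ᵁ V')
  exact Module.Flat.equiv_iff
    ((Algebra.IsPushout.cancelBaseChange Γ(S, V) Γ(S', V') Γ(X, U)
      Γ(X', g' ⁻¹ᵁ U ⊓ f' ⁻¹ᵁ V') Γ(F, U)).symm ≪≫ₗ hbc.equiv.restrictScalars Γ(S', V'))

/-- flatness of the base change of a quasi-coherent module at the points of an affine piece of a
fibre product, in terms of the tensor product. -/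
theorem flat_tensor_iff_isFlatOverAt (hc : IsPullback g' f' f g) (F : X.Modules)
    [F.IsQuasicoherent] {V : S.Opens} {V' : S'.Opens} {U : X.Opens} (hV'V : V' ≤ g ⁻¹ᵁ V)
    (hUV : U ≤ f ⁻¹ᵁ V) (hV : IsAffineOpen V) (hV' : IsAffineOpen V') (hU : IsAffineOpen U) :
    letI : Algebra Γ(S, V) Γ(S', V') := (g.appLE V V' hV'V).hom.toAlgebra
    letI := sectionsModuleOver f F hUV
    Module.Flat Γ(S', V') (Γ(S', V') ⊗[Γ(S, V)] Γ(F, U)) ↔
      ∀ x' ∈ g' ⁻¹ᵁ U ⊓ f' ⁻¹ᵁ V',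
        FlatMod.IsFlatOverAt f' ((Scheme.Modules.pullback g').obj F) x' := by
  have hU' := isAffineOpen_inf_of_isPullback f f' g' g hc hV'V hUV hV hV' hU
  haveI := qc_pullback g' F
  refine (flat_tensor_iff_flat_sections f f' g' g hc F hV'V hUV hV hV' hU).trans
    ⟨fun h x' hx' => ?_, fun H => ?_⟩
  · exact isFlatOverAt_of_flat_sections f' _ hU' hV' inf_le_right x' hx' h
  · exact flat_sections_of_isFlatOverAt f' _ hU' hV' inf_le_right H

end BaseChange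

section LimitStage

open Groth.Agent.H5.Lim

variable {I : Type u} [SmallCategory I] [IsCofiltered I] (D : I ⥤ Scheme.{u}) (c : Cone D)
  (hc : IsLimit c) [∀ (i j : I) (f : i ⟶ j), IsAffineHom (D.map f)] (i₀ : I)
  [IsAffine (D.obj i₀)]

include hc in
/-- **EGA IV 11.2.6 (modules).** Flatness over the base of the base change of a finitely
presented module to the limit of a cofiltered system of affine schemes descends to a stage. -/
theorem exists_stage_isFlatOver {X₀ : Scheme.{u}} (f₀ : X₀ ⟶ D.obj i₀) [CompactSpace X₀]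
    [LocallyOfFinitePresentation f₀] (F₀ : X₀.Modules) [F₀.IsQuasicoherent]
    (hF₀ : F₀.IsFinitePresentation) {Xl : Scheme.{u}} (gl : Xl ⟶ X₀) (fl : Xl ⟶ c.pt)
    (hsq : IsPullback gl fl f₀ (c.π.app i₀))
    (h : FlatMod.IsFlatOver fl ((Scheme.Modules.pullback gl).obj F₀)) :
    ∃ k : Over i₀, ∀ (k' : Over i₀) (_ : k' ⟶ k) {X' : Scheme.{u}} (g' : X' ⟶ X₀)
      (f' : X' ⟶ D.obj k'.left), IsPullback g' f' f₀ (D.map k'.hom) →
        FlatMod.IsFlatOver f' ((Scheme.Modules.pullback g').obj F₀) := by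
  classical
  have hVtop : IsAffineOpen (⊤ : (D.obj i₀).Opens) := isAffineOpen_top _
  have hUV : ∀ U : X₀.Opens, U ≤ f₀ ⁻¹ᵁ ⊤ := fun U x _ => trivial
  obtain ⟨t, ht⟩ := exists_finset_affineOpens_cover X₀
  let P : X₀.affineOpens → Over i₀ → Prop := fun U k =>
    ∀ (k' : Over i₀) (_ : k' ⟶ k),
      letI := stageAlgebra D i₀ (⊤ : (D.obj i₀).Opens)
      letI := sectionsModuleOver f₀ F₀ (hUV U.1)
      Module.Flat Γ(D.obj k'.left, stageOpen D i₀ ⊤ k')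
        (Γ(D.obj k'.left, stageOpen D i₀ ⊤ k') ⊗[Γ(D.obj i₀, ⊤)] Γ(F₀, U.1))
  have hP : ∀ U ∈ (t : Set X₀.affineOpens), ∃ k, P U k := by
    intro U _
    letI := stageAlgebra D i₀ (⊤ : (D.obj i₀).Opens)
    letI := limAlgebra D c i₀ (⊤ : (D.obj i₀).Opens)
    letI : Algebra Γ(D.obj i₀, ⊤) Γ(X₀, U.1) := (f₀.appLE ⊤ U.1 (hUV U.1)).hom.toAlgebra
    letI := sectionsModuleOver f₀ F₀ (hUV U.1)
    haveI : IsScalarTower Γ(D.obj i₀, ⊤) Γ(X₀, U.1) Γ(F₀, U.1) :=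
      Groth.Agent.H1.SchFlat.isScalarTower_sections f₀ F₀ (hUV U.1)
    haveI : Algebra.FinitePresentation Γ(D.obj i₀, ⊤) Γ(X₀, U.1) :=
      f₀.finitePresentation_appLE hVtop U.2 (hUV U.1)
    haveI : Module.FinitePresentation Γ(X₀, U.1) Γ(F₀, U.1) :=
      finitePresentation_sections_of_isFinitePresentation F₀ hF₀ U.2
    haveI : Module.Flat Γ(c.pt, limOpen D c i₀ ⊤)
        (Γ(c.pt, limOpen D c i₀ ⊤) ⊗[Γ(D.obj i₀, ⊤)] Γ(F₀, U.1)) := by
      refine (flat_tensor_iff_isFlatOverAt f₀ fl gl (c.π.app i₀) hsq F₀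
        (V' := limOpen D c i₀ ⊤) le_rfl (hUV U.1) hVtop
        (isAffineOpen_limOpen D c hc i₀ ⊤ hVtop) U.2).2 ?_
      intro x' _
      exact h x'
    obtain ⟨k, θ, -, hk⟩ := Groth.Agent.H1.WeakFlat.exists_flat_tensor_stage
      (weakColimitOpens D c i₀ ⊤ hc hVtop) Γ(X₀, U.1) Γ(F₀, U.1) (Over.mk (𝟙 i₀))
    refine ⟨k, fun k' a => ?_⟩
    exact hk _ (stageTransAlgHom D i₀ ⊤ a)
  have hmono : ∀ (U : X₀.affineOpens) (k k' : Over i₀) (_ : k' ⟶ k), P U k → P U k' := by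
    intro U k k' a hk k'' b
    exact hk k'' (b ≫ a)
  obtain ⟨k, -, hk⟩ := exists_common_stage (t : Set X₀.affineOpens) t.finite_toSet P hP hmono
    (Over.mk (𝟙 i₀))
  refine ⟨k, ?_⟩
  intro k' a X' g' f' hsq' x
  have hx : g' x ∈ ⨆ U ∈ t, (U.1 : X₀.Opens) := ht trivial
  obtain ⟨U, hU⟩ := Opens.mem_iSup.1 hx
  obtain ⟨hUt, hxU⟩ := Opens.mem_iSup.1 hU
  exact (flat_tensor_iff_isFlatOverAt f₀ f' g' (D.map k'.hom) hsq' F₀
    (V' := stageOpen D i₀ ⊤ k') le_rfl (hUV U.1) hVtop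
    (isAffineOpen_stageOpen D i₀ ⊤ hVtop k') U.2).1 (hk U hUt k' a) x ⟨hxU, trivial⟩

end LimitStage

variable {X S : Scheme.{u}} (f : X ⟶ S) {I : Type u} [SmallCategory I] (D : I ⥤ Over S)

/-- if the base change of `F` to the limit is flat over the limit, so is the base change to a
finite stage. -/
theorem exists_isFlatOver_of_isLimit [QuasiCompact f] [LocallyOfFinitePresentation f]
    (F : X.Modules) [F.IsQuasicoherent] (hF : F.IsFinitePresentation) [IsCofiltered I]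
    (c : Cone D) (hc : IsLimit ((Over.forget S).mapCone c))
    (hD : ∀ i, IsAffine (D.obj i).left)
    (h : FlatMod.IsFlatOver (pullback.snd f c.pt.hom)
      ((Scheme.Modules.pullback (pullback.fst f c.pt.hom)).obj F)) :
    ∃ i, FlatMod.IsFlatOver (pullback.snd f (D.obj i).hom)
      ((Scheme.Modules.pullback (pullback.fst f (D.obj i).hom)).obj F) := by
  haveI : ∀ i, IsAffine (D.obj i).left := hD
  obtain ⟨i₀⟩ : Nonempty I := IsCofiltered.nonempty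
  haveI haff : ∀ (i j : I) (g : i ⟶ j), IsAffineHom ((D ⋙ Over.forget S).map g) :=
    fun i j g => inferInstanceAs (IsAffineHom (D.map g).left)
  haveI : IsAffine ((D ⋙ Over.forget S).obj i₀) := hD i₀
  haveI hcpt : CompactSpace ↑(pullback f (D.obj i₀).hom) := inferInstance
  haveI hlfp : LocallyOfFinitePresentation (pullback.snd f (D.obj i₀).hom) :=
    MorphismProperty.pullback_snd (P := @LocallyOfFinitePresentation) _ _ inferInstance
  haveI : ((Scheme.Modules.pullback (pullback.fst f (D.obj i₀).hom)).obj F).IsQuasicoherent :=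
    QC.qc_pullback _ F
  have hF₀ : ((Scheme.Modules.pullback (pullback.fst f (D.obj i₀).hom)).obj
      F).IsFinitePresentation := QC.isFinitePresentation_pullback _ F hF
  have hsq : IsPullback (bcMap f (c.π.app i₀)) (pullback.snd f c.pt.hom)
      (pullback.snd f (D.obj i₀).hom) (c.π.app i₀).left := (isPullback_bcMap f (c.π.app i₀)).flip
  have hl : FlatMod.IsFlatOver (pullback.snd f c.pt.hom)
      ((Scheme.Modules.pullback (bcMap f (c.π.app i₀))).obj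
        ((Scheme.Modules.pullback (pullback.fst f (D.obj i₀).hom)).obj F)) := fun x =>
    (isFlatOverAt_pullback_comp (bcMap f (c.π.app i₀)) (pullback.fst f (D.obj i₀).hom)
      (bcMap_fst f (c.π.app i₀)) _ F x).2 (h x)
  obtain ⟨k, hk⟩ := @exists_stage_isFlatOver I _ _ (D ⋙ Over.forget S)
    ((Over.forget S).mapCone c) hc haff i₀ (hD i₀) _
    (pullback.snd f (D.obj i₀).hom) hcpt hlfp
    ((Scheme.Modules.pullback (pullback.fst f (D.obj i₀).hom)).obj F) inferInstance hF₀ _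
    (bcMap f (c.π.app i₀)) (pullback.snd f c.pt.hom) hsq hl
  refine ⟨k.left, fun x => ?_⟩
  have hsq' : IsPullback (bcMap f (D.map k.hom)) (pullback.snd f (D.obj k.left).hom)
      (pullback.snd f (D.obj i₀).hom) (D.map k.hom).left := (isPullback_bcMap f (D.map k.hom)).flip
  have h1 := hk k (𝟙 k) (bcMap f (D.map k.hom)) (pullback.snd f (D.obj k.left).hom) hsq' x
  exact (isFlatOverAt_pullback_comp (bcMap f (D.map k.hom)) (pullback.fst f (D.obj i₀).hom)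
    (bcMap_fst f (D.map k.hom)) _ F x).1 h1

/-- **S9013.** -/
theorem s9013 [QuasiCompact f] [LocallyOfFinitePresentation f] (F : X.Modules)
    [F.IsQuasicoherent] (hF : F.IsFinitePresentation) :
    AlgSp.IsLimitPreserving
      (FlatFun.genPSp S (fun T => FlatMod.IsFlatOver (PicF.XTproj f T) (FGA.ET f F T))) := by
  refine isLimitPreserving_genPSp_of_exists
    (fun T => FlatMod.IsFlatOver (PicF.XTproj f T) (FGA.ET f F T))
    (fun T T₀ k hk => isFlatOver_bc_of_isFlatOver f F k hk) ?_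
  intro I _ _ D c hc hD hT h
  exact exists_isFlatOver_of_isLimit f D F hF c hc hD h

end Groth.Agent.LD.FF
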