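import Groth.Agent.Lib.Lead.FF.FlatLim
import Groth.Agent.Lib.Helper5.Lim.BaseChangeSystem
import Groth.Agent.Lib.Helper5.EtSrc.OfComp
import Groth.Agent.Lib.Lead.QC.FlatBC

/-! # EGA IV 11.2.6 in general form (S4849) -/

set_option autoImplicit false
universe u
open CategoryTheory CategoryTheory.Limits AlgebraicGeometry TopologicalSpace Opposite TensorProduct

namespace Groth.Agent.LD.FF

open Groth.Agent.LD.QC Groth.Agent.LD.RelFP Groth.Agent.H5.Lim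

section LimitStageGen

variable {I : Type u} [SmallCategory I] [IsCofiltered I] (D : I ⥤ Scheme.{u}) (c : Cone D)
  (hc : IsLimit c) [∀ (i j : I) (f : i ⟶ j), IsAffineHom (D.map f)] (i₀ : I)

include hc in
/-- **EGA IV 11.2.6 (modules), non-affine base.** -/
theorem exists_stage_isFlatOver_gen {X₀ : Scheme.{u}} (f₀ : X₀ ⟶ D.obj i₀) [CompactSpace X₀]
    [LocallyOfFinitePresentation f₀] (F₀ : X₀.Modules) [F₀.IsQuasicoherent]
    (hF₀ : F₀.IsFinitePresentation) {Xl : Scheme.{u}} (gl : Xl ⟶ X₀) (fl : Xl ⟶ c.pt)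
    (hsq : IsPullback gl fl f₀ (c.π.app i₀))
    (h : FlatMod.IsFlatOver fl ((Scheme.Modules.pullback gl).obj F₀)) :
    ∃ k : Over i₀, ∀ (k' : Over i₀) (_ : k' ⟶ k) {X' : Scheme.{u}} (g' : X' ⟶ X₀)
      (f' : X' ⟶ D.obj k'.left), IsPullback g' f' f₀ (D.map k'.hom) →
        FlatMod.IsFlatOver f' ((Scheme.Modules.pullback g').obj F₀) := by
  classical
  let Pair := {p : X₀.affineOpens × (D.obj i₀).affineOpens // p.1.1 ≤ f₀ ⁻¹ᵁ p.2.1}
  have hpair : ∀ x : X₀, ∃ p : Pair, x ∈ p.1.1.1 := by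
    intro x
    obtain ⟨V, hV, hxV, -⟩ := exists_isAffineOpen_mem_and_subset (x := f₀ x)
      (U := (⊤ : (D.obj i₀).Opens)) trivial
    obtain ⟨U, hU, hxU, hUV⟩ := exists_isAffineOpen_mem_and_subset (x := x)
      (U := f₀ ⁻¹ᵁ V) hxV
    exact ⟨⟨(⟨U, hU⟩, ⟨V, hV⟩), hUV⟩, hxU⟩
  choose pp hpp using hpair
  obtain ⟨s, hs⟩ := isCompact_univ.elim_finite_subcover (fun x : X₀ => ((pp x).1.1.1 : Set X₀))
    (fun x => (pp x).1.1.1.2) (fun x _ => Set.mem_iUnion.2 ⟨x, hpp x⟩)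
  let t : Finset Pair := s.image pp
  have ht : ∀ x : X₀, ∃ p ∈ t, x ∈ p.1.1.1 := by
    intro x
    obtain ⟨y, hy⟩ := Set.mem_iUnion.1 (hs (Set.mem_univ x))
    obtain ⟨hys, hxy⟩ := Set.mem_iUnion.1 hy
    exact ⟨pp y, Finset.mem_image_of_mem pp hys, hxy⟩
  let P : Pair → Over i₀ → Prop := fun p k =>
    ∀ (k' : Over i₀) (_ : k' ⟶ k),
      letI := stageAlgebra D i₀ p.1.2.1
      letI := sectionsModuleOver f₀ F₀ p.2
      Module.Flat Γ(D.obj k'.left, stageOpen D i₀ p.1.2.1 k')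
        (Γ(D.obj k'.left, stageOpen D i₀ p.1.2.1 k') ⊗[Γ(D.obj i₀, p.1.2.1)] Γ(F₀, p.1.1.1))
  have hP : ∀ p ∈ (t : Set Pair), ∃ k, P p k := by
    intro p _
    have hV : IsAffineOpen p.1.2.1 := p.1.2.2
    letI := stageAlgebra D i₀ p.1.2.1
    letI := limAlgebra D c i₀ p.1.2.1
    letI : Algebra Γ(D.obj i₀, p.1.2.1) Γ(X₀, p.1.1.1) :=
      (f₀.appLE p.1.2.1 p.1.1.1 p.2).hom.toAlgebra
    letI := sectionsModuleOver f₀ F₀ p.2
    haveI : IsScalarTower Γ(D.obj i₀, p.1.2.1) Γ(X₀, p.1.1.1) Γ(F₀, p.1.1.1) :=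
      Groth.Agent.H1.SchFlat.isScalarTower_sections f₀ F₀ p.2
    haveI : Algebra.FinitePresentation Γ(D.obj i₀, p.1.2.1) Γ(X₀, p.1.1.1) :=
      f₀.finitePresentation_appLE hV p.1.1.2 p.2
    haveI : Module.FinitePresentation Γ(X₀, p.1.1.1) Γ(F₀, p.1.1.1) :=
      finitePresentation_sections_of_isFinitePresentation F₀ hF₀ p.1.1.2
    haveI : Module.Flat Γ(c.pt, limOpen D c i₀ p.1.2.1)
        (Γ(c.pt, limOpen D c i₀ p.1.2.1) ⊗[Γ(D.obj i₀, p.1.2.1)] Γ(F₀, p.1.1.1)) := by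
      refine (flat_tensor_iff_isFlatOverAt f₀ fl gl (c.π.app i₀) hsq F₀
        (V' := limOpen D c i₀ p.1.2.1) le_rfl p.2 hV
        (isAffineOpen_limOpen D c hc i₀ p.1.2.1 hV) p.1.1.2).2 ?_
      intro x' _
      exact h x'
    obtain ⟨k, θ, -, hk⟩ := Groth.Agent.H1.WeakFlat.exists_flat_tensor_stage
      (weakColimitOpens D c i₀ p.1.2.1 hc hV) Γ(X₀, p.1.1.1) Γ(F₀, p.1.1.1) (Over.mk (𝟙 i₀))
    refine ⟨k, fun k' a => ?_⟩
    exact hk _ (stageTransAlgHom D i₀ p.1.2.1 a)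
  have hmono : ∀ (p : Pair) (k k' : Over i₀) (_ : k' ⟶ k), P p k → P p k' := by
    intro p k k' a hk k'' b
    exact hk k'' (b ≫ a)
  obtain ⟨k, -, hk⟩ := exists_common_stage (t : Set Pair) t.finite_toSet P hP hmono
    (Over.mk (𝟙 i₀))
  refine ⟨k, ?_⟩
  intro k' a X' g' f' hsq' x
  obtain ⟨p, hpt, hxU⟩ := ht (g' x)
  have hw : (D.map k'.hom) (f' x) = f₀ (g' x) := by
    have := congrArg (fun φ : X' ⟶ D.obj i₀ => φ x) hsq'.w
    exact this.symm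
  have hxV : x ∈ f' ⁻¹ᵁ stageOpen D i₀ p.1.2.1 k' := by
    change (D.map k'.hom) (f' x) ∈ p.1.2.1
    rw [hw]
    exact p.2 hxU
  exact (flat_tensor_iff_isFlatOverAt f₀ f' g' (D.map k'.hom) hsq' F₀
    (V' := stageOpen D i₀ p.1.2.1 k') le_rfl p.2 p.1.2.2
    (isAffineOpen_stageOpen D i₀ p.1.2.1 p.1.2.2 k') p.1.1.2).1 (hk p hpt k' a) x ⟨hxU, hxV⟩

end LimitStageGen

/-- **S4849** (EGA IV 11.2.6, modules). -/
theorem s4849 {I : Type u} [SmallCategory I] [IsCofiltered I]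
    (D : I ⥤ Scheme.{u}) (c : Limits.Cone D) (hc : Limits.IsLimit c)
    [∀ (i j : I) (φ : i ⟶ j), IsAffineHom (D.map φ)] (i₀ : I) [CompactSpace (D.obj i₀)]
    {X₀ Y₀ : Scheme.{u}} (f₀ : X₀ ⟶ Y₀) (g₀ : Y₀ ⟶ D.obj i₀)
    [LocallyOfFinitePresentation g₀] [QuasiCompact g₀] [QuasiSeparated g₀]
    [LocallyOfFinitePresentation (f₀ ≫ g₀)] [QuasiCompact (f₀ ≫ g₀)] [QuasiSeparated (f₀ ≫ g₀)]
    (F₀ : X₀.Modules) [F₀.IsQuasicoherent] (hF₀ : F₀.IsFinitePresentation)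
    {X Y : Scheme.{u}} (f : X ⟶ Y) (g : Y ⟶ c.pt) (qY : Y ⟶ Y₀) (qX : X ⟶ X₀)
    (hY : IsPullback qY g g₀ (c.π.app i₀)) (hX : IsPullback qX f f₀ qY) :
    FlatMod.IsFlatOver f ((Scheme.Modules.pullback qX).obj F₀) ↔
      ∃ (i : I) (φ : i ⟶ i₀) (Xi Yi : Scheme.{u}) (fi : Xi ⟶ Yi) (gi : Yi ⟶ D.obj i)
        (pY : Yi ⟶ Y₀) (pX : Xi ⟶ X₀),
        IsPullback pY gi g₀ (D.map φ) ∧ IsPullback pX fi f₀ pY ∧
          FlatMod.IsFlatOver fi ((Scheme.Modules.pullback pX).obj F₀) := by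
  constructor
  · intro h
    haveI : CompactSpace X₀ := QuasiCompact.compactSpace_of_compactSpace (f₀ ≫ g₀)
    haveI : LocallyOfFinitePresentation f₀ :=
      Groth.Agent.H5.EtSrc.locallyOfFinitePresentation_of_comp f₀ g₀ inferInstance inferInstance
    haveI : ∀ (j k : Over i₀) (φ : j ⟶ k), IsAffineHom ((Groth.Agent.H5.Lim.bcDiagram D g₀).map φ) :=
      fun j k φ => Groth.Agent.H5.Lim.isAffineHom_bcMap D g₀ φ inferInstance
    haveI : IsIso (D.map (𝟙 i₀)) := by rw [D.map_id]; infer_instance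
    let p₀ : pullback g₀ (D.map (𝟙 i₀)) ⟶ Y₀ := pullback.fst g₀ (D.map (𝟙 i₀))
    haveI : IsIso p₀ := inferInstanceAs (IsIso (pullback.fst g₀ (D.map (𝟙 i₀))))
    let eY : Y ≅ pullback g₀ (c.π.app i₀) := hY.isoPullback
    have hsqL : IsPullback qX (f ≫ eY.hom) (f₀ ≫ inv p₀) (Groth.Agent.H5.Lim.bcProj D c g₀ (Over.mk (𝟙 i₀))) := by
      refine hX.of_iso (Iso.refl _) (Iso.refl _) eY (asIso p₀).symm ?_ ?_ ?_ ?_
      · simp
      · simp
      · simp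
      · rw [Iso.symm_hom, asIso_inv, IsIso.comp_inv_eq, Category.assoc]
        have h1 : Groth.Agent.H5.Lim.bcProj D c g₀ (Over.mk (𝟙 i₀)) ≫ p₀ = pullback.fst g₀ (c.π.app i₀) :=
          Groth.Agent.H5.Lim.bcProj_fst D c g₀ (Over.mk (𝟙 i₀))
        rw [h1]
        exact (hY.isoPullback_hom_fst).symm
    have hflatL : FlatMod.IsFlatOver (f ≫ eY.hom) ((Scheme.Modules.pullback qX).obj F₀) := by
      intro x
      refine isFlatOverAt_comp f eY.hom _ x (RingHom.Flat.of_bijective ?_) (h x)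
      exact ConcreteCategory.bijective_of_isIso (eY.hom.stalkMap (f x))
    obtain ⟨f₀', hf₀'⟩ : ∃ f₀' : X₀ ⟶ pullback g₀ (D.map (𝟙 i₀)), f₀' = f₀ ≫ inv p₀ := ⟨_, rfl⟩
    have hl : LocallyOfFinitePresentation f₀' := by rw [hf₀']; infer_instance
    haveI : @LocallyOfFinitePresentation X₀
        ((Groth.Agent.H5.Lim.bcDiagram D g₀).obj (Over.mk (𝟙 i₀))) f₀' := hl
    rw [← hf₀'] at hsqL
    obtain ⟨k, hk⟩ := exists_stage_isFlatOver_gen (Groth.Agent.H5.Lim.bcDiagram D g₀)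
      (Groth.Agent.H5.Lim.bcCone D c g₀)
      (Groth.Agent.H5.Lim.isLimitBcCone D c g₀ hc) (Over.mk (𝟙 i₀)) f₀' F₀ hF₀ qX (f ≫ eY.hom)
      hsqL hflatL
    refine ⟨k.left.left, k.left.hom, pullback f₀ (pullback.fst g₀ (D.map k.left.hom)),
      pullback g₀ (D.map k.left.hom), pullback.snd _ _, pullback.snd _ _, pullback.fst _ _,
      pullback.fst _ _, IsPullback.of_hasPullback _ _, IsPullback.of_hasPullback _ _, ?_⟩
    refine hk k (𝟙 k) (pullback.fst f₀ (pullback.fst g₀ (D.map k.left.hom)))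
      (pullback.snd f₀ (pullback.fst g₀ (D.map k.left.hom))) ?_
    rw [hf₀']
    refine (IsPullback.of_hasPullback f₀ (pullback.fst g₀ (D.map k.left.hom))).of_iso
      (Iso.refl _) (Iso.refl _) (Iso.refl _) (asIso p₀).symm ?_ ?_ ?_ ?_
    · exact (Category.comp_id _).trans (Category.id_comp _).symm
    · exact (Category.comp_id _).trans (Category.id_comp _).symm
    · exact (Category.id_comp _).symm
    · change pullback.fst g₀ (D.map k.left.hom) ≫ inv p₀ =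
        𝟙 _ ≫ Groth.Agent.H5.Lim.bcMap D g₀ k.hom
      rw [Category.id_comp, IsIso.comp_inv_eq]
      exact (Groth.Agent.H5.Lim.bcMap_fst D g₀ k.hom).symm
  · rintro ⟨i, φ, Xi, Yi, fi, gi, pY, pX, hYi, hXi, hfl⟩
    have hw : qY ≫ g₀ = (g ≫ c.π.app i) ≫ D.map φ := by
      rw [Category.assoc, c.w, hY.w]
    have hrY : hYi.lift qY (g ≫ c.π.app i) hw ≫ pY = qY := hYi.lift_fst _ _ _
    have hX' : IsPullback qX f f₀ (hYi.lift qY (g ≫ c.π.app i) hw ≫ pY) := by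
      rw [hrY]; exact hX
    have hsq := IsPullback.of_right' hX' hXi
    have hrX : hXi.lift qX (f ≫ hYi.lift qY (g ≫ c.π.app i) hw)
        (by rw [hX'.w, Category.assoc]) ≫ pX = qX := hXi.lift_fst _ _ _
    haveI := qc_pullback pX F₀
    intro x
    have h1 := isFlatOverAt_pullback_of_isPullback hsq ((Scheme.Modules.pullback pX).obj F₀) x
      (hfl _)
    exact (isFlatOverAt_pullback_comp _ pX hrX f F₀ x).1 h1

end Groth.Agent.LD.FF
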