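import Groth.Agent.Lib.Lead.FF.FlatLimGen
import Groth.Agent.Lib.Helper5.Lim.Constructible

/-! # EGA IV 11.2.6, pointwise form (S4900) -/

set_option autoImplicit false
universe u
open CategoryTheory CategoryTheory.Limits AlgebraicGeometry TopologicalSpace Opposite TensorProduct

namespace Groth.Agent.LD.FF

open Groth.Agent.LD.QC Groth.Agent.LD.RelFP Groth.Agent.H5.Lim

section LimitStagePt

variable {I : Type u} [SmallCategory I] [IsCofiltered I] (D : I ⥤ Scheme.{u}) (c : Cone D)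
  (hc : IsLimit c) [∀ (i j : I) (f : i ⟶ j), IsAffineHom (D.map f)] (i₀ : I)

include hc in
/-- **EGA IV 11.2.6 (modules), over a quasi-compact open of the base stage.** -/
theorem exists_stage_isFlatOverAt_of_isCompact {X₀ : Scheme.{u}} (f₀ : X₀ ⟶ D.obj i₀)
    [LocallyOfFinitePresentation f₀] (F₀ : X₀.Modules) [F₀.IsQuasicoherent]
    (hF₀ : F₀.IsFinitePresentation) {Xl : Scheme.{u}} (gl : Xl ⟶ X₀) (fl : Xl ⟶ c.pt)
    (hsq : IsPullback gl fl f₀ (c.π.app i₀)) (U₀ : X₀.Opens) (hU₀ : IsCompact (U₀ : Set X₀))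
    (h : ∀ y : Xl, gl y ∈ U₀ →
      FlatMod.IsFlatOverAt fl ((Scheme.Modules.pullback gl).obj F₀) y) :
    ∃ k : Over i₀, ∀ (k' : Over i₀) (_ : k' ⟶ k) {X' : Scheme.{u}} (g' : X' ⟶ X₀)
      (f' : X' ⟶ D.obj k'.left), IsPullback g' f' f₀ (D.map k'.hom) →
        ∀ y : X', g' y ∈ U₀ →
          FlatMod.IsFlatOverAt f' ((Scheme.Modules.pullback g').obj F₀) y := by
  classical
  let Pair := {p : X₀.affineOpens × (D.obj i₀).affineOpens //
    p.1.1 ≤ f₀ ⁻¹ᵁ p.2.1 ∧ p.1.1 ≤ U₀}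
  have hpair : ∀ x : (U₀ : Set X₀), ∃ p : Pair, x.1 ∈ p.1.1.1 := by
    intro x
    obtain ⟨V, hV, hxV, -⟩ := exists_isAffineOpen_mem_and_subset (x := f₀ x.1)
      (U := (⊤ : (D.obj i₀).Opens)) trivial
    obtain ⟨U, hU, hxU, hUV⟩ := exists_isAffineOpen_mem_and_subset (x := x.1)
      (U := f₀ ⁻¹ᵁ V ⊓ U₀) ⟨hxV, x.2⟩
    exact ⟨⟨(⟨U, hU⟩, ⟨V, hV⟩), ⟨hUV.trans inf_le_left, hUV.trans inf_le_right⟩⟩, hxU⟩
  choose pp hpp using hpair
  obtain ⟨s, hs⟩ := hU₀.elim_finite_subcover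
    (fun x : (U₀ : Set X₀) => ((pp x).1.1.1 : Set X₀))
    (fun x => (pp x).1.1.1.2) (fun y hy => Set.mem_iUnion.2 ⟨⟨y, hy⟩, hpp ⟨y, hy⟩⟩)
  let t : Finset Pair := s.image pp
  have ht : ∀ x : X₀, x ∈ U₀ → ∃ p ∈ t, x ∈ p.1.1.1 := by
    intro x hx
    obtain ⟨y, hy⟩ := Set.mem_iUnion.1 (hs hx)
    obtain ⟨hys, hxy⟩ := Set.mem_iUnion.1 hy
    exact ⟨pp y, Finset.mem_image_of_mem pp hys, hxy⟩
  let P : Pair → Over i₀ → Prop := fun p k =>
    ∀ (k' : Over i₀) (_ : k' ⟶ k),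
      letI := stageAlgebra D i₀ p.1.2.1
      letI := sectionsModuleOver f₀ F₀ p.2.1
      Module.Flat Γ(D.obj k'.left, stageOpen D i₀ p.1.2.1 k')
        (Γ(D.obj k'.left, stageOpen D i₀ p.1.2.1 k') ⊗[Γ(D.obj i₀, p.1.2.1)] Γ(F₀, p.1.1.1))
  have hP : ∀ p ∈ (t : Set Pair), ∃ k, P p k := by
    intro p _
    have hV : IsAffineOpen p.1.2.1 := p.1.2.2
    letI := stageAlgebra D i₀ p.1.2.1
    letI := limAlgebra D c i₀ p.1.2.1
    letI : Algebra Γ(D.obj i₀, p.1.2.1) Γ(X₀, p.1.1.1) :=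
      (f₀.appLE p.1.2.1 p.1.1.1 p.2.1).hom.toAlgebra
    letI := sectionsModuleOver f₀ F₀ p.2.1
    haveI : IsScalarTower Γ(D.obj i₀, p.1.2.1) Γ(X₀, p.1.1.1) Γ(F₀, p.1.1.1) :=
      Groth.Agent.H1.SchFlat.isScalarTower_sections f₀ F₀ p.2.1
    haveI : Algebra.FinitePresentation Γ(D.obj i₀, p.1.2.1) Γ(X₀, p.1.1.1) :=
      f₀.finitePresentation_appLE hV p.1.1.2 p.2.1
    haveI : Module.FinitePresentation Γ(X₀, p.1.1.1) Γ(F₀, p.1.1.1) :=
      finitePresentation_sections_of_isFinitePresentation F₀ hF₀ p.1.1.2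
    haveI : Module.Flat Γ(c.pt, limOpen D c i₀ p.1.2.1)
        (Γ(c.pt, limOpen D c i₀ p.1.2.1) ⊗[Γ(D.obj i₀, p.1.2.1)] Γ(F₀, p.1.1.1)) := by
      refine (flat_tensor_iff_isFlatOverAt f₀ fl gl (c.π.app i₀) hsq F₀
        (V' := limOpen D c i₀ p.1.2.1) le_rfl p.2.1 hV
        (isAffineOpen_limOpen D c hc i₀ p.1.2.1 hV) p.1.1.2).2 ?_
      intro x' hx'
      exact h x' (p.2.2 hx'.1)
    obtain ⟨k, θ, -, hk⟩ := Groth.Agent.H1.WeakFlat.exists_flat_tensor_stage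
      (weakColimitOpens D c i₀ p.1.2.1 hc hV) Γ(X₀, p.1.1.1) Γ(F₀, p.1.1.1) (Over.mk (𝟙 i₀))
    refine ⟨k, fun k' a => ?_⟩
    exact hk _ (stageTransAlgHom D i₀ p.1.2.1 a)
  have hmono : ∀ (p : Pair) (k k' : Over i₀) (_ : k' ⟶ k), P p k → P p k' := by
    intro p k k' a hk k'' b
    exact hk k'' (b ≫ a)
  obtain ⟨k, -, hk⟩ := exists_common_stage (t : Set Pair) t.finite_toSet P hP hmono
    (Over.mk (𝟙 i₀))
  refine ⟨k, ?_⟩
  intro k' a X' g' f' hsq' x hxU₀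
  obtain ⟨p, hpt, hxU⟩ := ht (g' x) hxU₀
  have hw : (D.map k'.hom) (f' x) = f₀ (g' x) := by
    have := congrArg (fun φ : X' ⟶ D.obj i₀ => φ x) hsq'.w
    exact this.symm
  have hxV : x ∈ f' ⁻¹ᵁ stageOpen D i₀ p.1.2.1 k' := by
    change (D.map k'.hom) (f' x) ∈ p.1.2.1
    rw [hw]
    exact p.2.1 hxU
  exact (flat_tensor_iff_isFlatOverAt f₀ f' g' (D.map k'.hom) hsq' F₀
    (V' := stageOpen D i₀ p.1.2.1 k') le_rfl p.2.1 p.1.2.2
    (isAffineOpen_stageOpen D i₀ p.1.2.1 p.1.2.2 k') p.1.1.2).1 (hk p hpt k' a) x ⟨hxU, hxV⟩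

include hc in
/-- **EGA IV 11.2.6 (modules), pointwise.** -/
theorem exists_stage_isFlatOverAt {X₀ : Scheme.{u}} (f₀ : X₀ ⟶ D.obj i₀)
    [LocallyOfFinitePresentation f₀] (F₀ : X₀.Modules) [F₀.IsQuasicoherent]
    (hF₀ : F₀.IsFinitePresentation) {Xl : Scheme.{u}} (gl : Xl ⟶ X₀) (fl : Xl ⟶ c.pt)
    (hsq : IsPullback gl fl f₀ (c.π.app i₀)) (x : Xl)
    (h : FlatMod.IsFlatOverAt fl ((Scheme.Modules.pullback gl).obj F₀) x) :
    ∃ k : Over i₀, ∀ {X' : Scheme.{u}} (g' : X' ⟶ X₀) (f' : X' ⟶ D.obj k.left),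
      IsPullback g' f' f₀ (D.map k.hom) → ∀ v : Xl ⟶ X', v ≫ g' = gl →
        v ≫ f' = fl ≫ c.π.app k.left →
        FlatMod.IsFlatOverAt f' ((Scheme.Modules.pullback g').obj F₀) (v x) := by
  classical
  haveI : LocallyOfFinitePresentation fl :=
    MorphismProperty.of_isPullback (P := @LocallyOfFinitePresentation) hsq inferInstance
  haveI := qc_pullback gl F₀
  have hopen := Groth.Agent.H1.SchFlat.isOpen_setOf_isFlatOverAt fl
    ((Scheme.Modules.pullback gl).obj F₀) (isFinitePresentation_pullback gl F₀ hF₀)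
  obtain ⟨W, hW, hxW, hWO⟩ := exists_isAffineOpen_mem_and_subset (x := x)
    (U := (⟨_, hopen⟩ : Xl.Opens)) h
  haveI : ∀ (j k : Over i₀) (φ : j ⟶ k), IsAffineHom ((Groth.Agent.H5.Lim.bcDiagram D f₀).map φ) :=
    fun j k φ => Groth.Agent.H5.Lim.isAffineHom_bcMap D f₀ φ inferInstance
  let e : Xl ≅ pullback f₀ (c.π.app i₀) := hsq.isoPullback
  have hWc : IsCompact ((e.inv ⁻¹ᵁ W : (pullback f₀ (c.π.app i₀)).Opens) :
      Set ↥(pullback f₀ (c.π.app i₀))) :=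
    QuasiCompact.isCompact_preimage (f := e.inv) _ W.2 hW.isCompact
  obtain ⟨j, V₀, hVc₀, hVW₀⟩ := exists_preimage_eq (Groth.Agent.H5.Lim.bcDiagram D f₀)
    (Groth.Agent.H5.Lim.bcCone D c f₀)
    (Groth.Agent.H5.Lim.isLimitBcCone D c f₀ hc) (e.inv ⁻¹ᵁ W) hWc
  obtain ⟨V, hVc, hVW⟩ : ∃ V : (pullback f₀ (D.map j.hom)).Opens,
      IsCompact (V : Set ↥(pullback f₀ (D.map j.hom))) ∧
      ∀ z : ↥(pullback f₀ (c.π.app i₀)),
        (Groth.Agent.H5.Lim.bcProj D c f₀ j) z ∈ V ↔ z ∈ e.inv ⁻¹ᵁ W :=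
    ⟨V₀, hVc₀, fun z => SetLike.ext_iff.1 hVW₀ z⟩
  -- the canonical map to the stage `j`
  have hwj : gl ≫ f₀ = (fl ≫ c.π.app j.left) ≫ D.map j.hom := by
    rw [Category.assoc, c.w, hsq.w]
  let vj : Xl ⟶ pullback f₀ (D.map j.hom) := pullback.lift gl (fl ≫ c.π.app j.left) hwj
  have hvj1 : vj ≫ pullback.fst f₀ (D.map j.hom) = gl := pullback.lift_fst _ _ _
  have hvj2 : vj ≫ pullback.snd f₀ (D.map j.hom) = fl ≫ c.π.app j.left :=
    pullback.lift_snd _ _ _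
  have hvj : vj = e.hom ≫ Groth.Agent.H5.Lim.bcProj D c f₀ j := by
    apply pullback.hom_ext
    · rw [hvj1, Category.assoc, Groth.Agent.H5.Lim.bcProj_fst]
      exact (hsq.isoPullback_hom_fst).symm
    · rw [hvj2, Category.assoc, Groth.Agent.H5.Lim.bcProj_snd, ← Category.assoc]
      exact congrArg (· ≫ c.π.app j.left) (hsq.isoPullback_hom_snd).symm
  have hmemV : ∀ y : Xl, vj y ∈ V ↔ y ∈ W := by
    intro y
    have h1 : vj y = (Groth.Agent.H5.Lim.bcProj D c f₀ j) (e.hom y) := by rw [hvj]; rfl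
    have h2 : e.inv (e.hom y) = y := by
      have := congrArg (fun φ : Xl ⟶ Xl => φ y) e.hom_inv_id
      exact this
    have h3 : (Groth.Agent.H5.Lim.bcProj D c f₀ j) (e.hom y) ∈ V ↔ e.hom y ∈ e.inv ⁻¹ᵁ W :=
      hVW (e.hom y)
    rw [h1, h3]
    change e.inv (e.hom y) ∈ W ↔ _
    rw [h2]
  have hsqj : IsPullback vj fl (pullback.snd f₀ (D.map j.hom)) (c.π.app j.left) := by
    refine IsPullback.of_right ?_ hvj2 (IsPullback.of_hasPullback f₀ (D.map j.hom))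
    rw [hvj1, c.w]
    exact hsq
  haveI : LocallyOfFinitePresentation (pullback.snd f₀ (D.map j.hom)) :=
    MorphismProperty.pullback_snd (P := @LocallyOfFinitePresentation) _ _ inferInstance
  haveI := qc_pullback (pullback.fst f₀ (D.map j.hom)) F₀
  have hFj := isFinitePresentation_pullback (pullback.fst f₀ (D.map j.hom)) F₀ hF₀
  have hflatV : ∀ y : Xl, vj y ∈ V → FlatMod.IsFlatOverAt fl
      ((Scheme.Modules.pullback vj).obj
        ((Scheme.Modules.pullback (pullback.fst f₀ (D.map j.hom))).obj F₀)) y := by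
    intro y hy
    have hyW : y ∈ W := (hmemV y).1 hy
    exact (isFlatOverAt_pullback_comp vj (pullback.fst f₀ (D.map j.hom)) hvj1 fl F₀ y).2
      (hWO hyW)
  obtain ⟨k₂, hk₂⟩ := exists_stage_isFlatOverAt_of_isCompact D c hc j.left
    (pullback.snd f₀ (D.map j.hom))
    ((Scheme.Modules.pullback (pullback.fst f₀ (D.map j.hom))).obj F₀) hFj vj fl hsqj V hVc
    hflatV
  refine ⟨Over.mk (k₂.hom ≫ j.hom), ?_⟩
  intro X' g' f' hsq' v hv1 hv2
  have hsq'' : IsPullback g' f' f₀ (D.map k₂.hom ≫ D.map j.hom) := by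
    rw [← D.map_comp]; exact hsq'
  have hw' : g' ≫ f₀ = (f' ≫ D.map k₂.hom) ≫ D.map j.hom := by
    rw [Category.assoc]; exact hsq''.w
  let t : X' ⟶ pullback f₀ (D.map j.hom) := pullback.lift g' (f' ≫ D.map k₂.hom) hw'
  have ht1 : t ≫ pullback.fst f₀ (D.map j.hom) = g' := pullback.lift_fst _ _ _
  have ht2 : t ≫ pullback.snd f₀ (D.map j.hom) = f' ≫ D.map k₂.hom := pullback.lift_snd _ _ _
  have hsqt : IsPullback t f' (pullback.snd f₀ (D.map j.hom)) (D.map k₂.hom) := by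
    refine IsPullback.of_right ?_ ht2 (IsPullback.of_hasPullback f₀ (D.map j.hom))
    rw [ht1]
    exact hsq''
  have hvt : v ≫ t = vj := by
    apply pullback.hom_ext
    · rw [Category.assoc, ht1, hv1, hvj1]
    · rw [Category.assoc, ht2, ← Category.assoc, hv2, hvj2, Category.assoc]
      exact congrArg (fl ≫ ·) (c.w k₂.hom)
  have hmem : t (v x) ∈ V := by
    have h1 : t (v x) = vj x := by rw [← hvt]; rfl
    rw [h1]
    exact (hmemV x).2 hxW
  have hfin := hk₂ k₂ (𝟙 k₂) t f' hsqt (v x) hmem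
  exact (isFlatOverAt_pullback_comp t (pullback.fst f₀ (D.map j.hom)) ht1 f' F₀ (v x)).1 hfin

end LimitStagePt

/-- **S4900** (EGA IV 11.2.6, modules, pointwise). -/
theorem s4900 {I : Type u} [SmallCategory I] [IsCofiltered I]
    (D : I ⥤ Scheme.{u}) (c : Limits.Cone D) (hc : Limits.IsLimit c)
    [∀ (i j : I) (φ : i ⟶ j), IsAffineHom (D.map φ)] (i₀ : I)
    {X₀ Y₀ : Scheme.{u}} (f₀ : X₀ ⟶ Y₀) (g₀ : Y₀ ⟶ D.obj i₀)
    [LocallyOfFinitePresentation g₀]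
    [LocallyOfFinitePresentation (f₀ ≫ g₀)]
    (F₀ : X₀.Modules) [F₀.IsQuasicoherent] (hF₀ : F₀.IsFinitePresentation)
    {X Y : Scheme.{u}} (f : X ⟶ Y) (g : Y ⟶ c.pt) (qY : Y ⟶ Y₀) (qX : X ⟶ X₀)
    (hY : IsPullback qY g g₀ (c.π.app i₀)) (hX : IsPullback qX f f₀ qY) (x : X) :
    FlatMod.IsFlatOverAt f ((Scheme.Modules.pullback qX).obj F₀) x ↔
      ∃ (i : I) (φ : i ⟶ i₀) (Xi Yi : Scheme.{u}) (fi : Xi ⟶ Yi) (gi : Yi ⟶ D.obj i)
        (pY : Yi ⟶ Y₀) (pX : Xi ⟶ X₀) (vY : Y ⟶ Yi) (vX : X ⟶ Xi),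
        IsPullback pY gi g₀ (D.map φ) ∧ IsPullback pX fi f₀ pY ∧
          vY ≫ pY = qY ∧ vY ≫ gi = g ≫ c.π.app i ∧ vX ≫ pX = qX ∧ vX ≫ fi = f ≫ vY ∧
          FlatMod.IsFlatOverAt fi ((Scheme.Modules.pullback pX).obj F₀) (vX x) := by
  constructor
  · intro h
    haveI : LocallyOfFinitePresentation f₀ :=
      Groth.Agent.H5.EtSrc.locallyOfFinitePresentation_of_comp f₀ g₀ inferInstance inferInstance
    haveI : ∀ (j k : Over i₀) (φ : j ⟶ k),
        IsAffineHom ((Groth.Agent.H5.Lim.bcDiagram D g₀).map φ) :=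
      fun j k φ => Groth.Agent.H5.Lim.isAffineHom_bcMap D g₀ φ inferInstance
    haveI : IsIso (D.map (𝟙 i₀)) := by rw [D.map_id]; infer_instance
    let p₀ : pullback g₀ (D.map (𝟙 i₀)) ⟶ Y₀ := pullback.fst g₀ (D.map (𝟙 i₀))
    haveI : IsIso p₀ := inferInstanceAs (IsIso (pullback.fst g₀ (D.map (𝟙 i₀))))
    let eY : Y ≅ pullback g₀ (c.π.app i₀) := hY.isoPullback
    have hsqL : IsPullback qX (f ≫ eY.hom) (f₀ ≫ inv p₀)
        (Groth.Agent.H5.Lim.bcProj D c g₀ (Over.mk (𝟙 i₀))) := by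
      refine hX.of_iso (Iso.refl _) (Iso.refl _) eY (asIso p₀).symm ?_ ?_ ?_ ?_
      · simp
      · simp
      · simp
      · rw [Iso.symm_hom, asIso_inv, IsIso.comp_inv_eq, Category.assoc]
        have h1 : Groth.Agent.H5.Lim.bcProj D c g₀ (Over.mk (𝟙 i₀)) ≫ p₀ =
            pullback.fst g₀ (c.π.app i₀) :=
          Groth.Agent.H5.Lim.bcProj_fst D c g₀ (Over.mk (𝟙 i₀))
        rw [h1]
        exact (hY.isoPullback_hom_fst).symm
    have hflatL : FlatMod.IsFlatOverAt (f ≫ eY.hom) ((Scheme.Modules.pullback qX).obj F₀) x := by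
      refine isFlatOverAt_comp f eY.hom _ x (RingHom.Flat.of_bijective ?_) h
      exact ConcreteCategory.bijective_of_isIso (eY.hom.stalkMap (f x))
    obtain ⟨f₀', hf₀'⟩ : ∃ f₀' : X₀ ⟶ pullback g₀ (D.map (𝟙 i₀)), f₀' = f₀ ≫ inv p₀ := ⟨_, rfl⟩
    have hl : LocallyOfFinitePresentation f₀' := by rw [hf₀']; infer_instance
    haveI : @LocallyOfFinitePresentation X₀
        ((Groth.Agent.H5.Lim.bcDiagram D g₀).obj (Over.mk (𝟙 i₀))) f₀' := hl
    rw [← hf₀'] at hsqL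
    obtain ⟨k, hk⟩ := exists_stage_isFlatOverAt (Groth.Agent.H5.Lim.bcDiagram D g₀)
      (Groth.Agent.H5.Lim.bcCone D c g₀)
      (Groth.Agent.H5.Lim.isLimitBcCone D c g₀ hc) (Over.mk (𝟙 i₀)) f₀' F₀ hF₀ qX (f ≫ eY.hom)
      hsqL x hflatL
    -- the data at the stage `k.left`
    let vY : Y ⟶ pullback g₀ (D.map k.left.hom) :=
      eY.hom ≫ Groth.Agent.H5.Lim.bcProj D c g₀ k.left
    have hvY1 : vY ≫ pullback.fst g₀ (D.map k.left.hom) = qY := by
      change (eY.hom ≫ Groth.Agent.H5.Lim.bcProj D c g₀ k.left) ≫ _ = _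
      rw [Category.assoc, Groth.Agent.H5.Lim.bcProj_fst]
      exact hY.isoPullback_hom_fst
    have hvY2 : vY ≫ pullback.snd g₀ (D.map k.left.hom) = g ≫ c.π.app k.left.left := by
      change (eY.hom ≫ Groth.Agent.H5.Lim.bcProj D c g₀ k.left) ≫ _ = _
      rw [Category.assoc, Groth.Agent.H5.Lim.bcProj_snd, ← Category.assoc]
      exact congrArg (· ≫ c.π.app k.left.left) hY.isoPullback_hom_snd
    have hwX : qX ≫ f₀ = (f ≫ vY) ≫ pullback.fst g₀ (D.map k.left.hom) := by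
      rw [Category.assoc, hvY1]; exact hX.w
    let vX : X ⟶ pullback f₀ (pullback.fst g₀ (D.map k.left.hom)) :=
      pullback.lift qX (f ≫ vY) hwX
    have hvX1 : vX ≫ pullback.fst f₀ (pullback.fst g₀ (D.map k.left.hom)) = qX :=
      pullback.lift_fst _ _ _
    have hvX2 : vX ≫ pullback.snd f₀ (pullback.fst g₀ (D.map k.left.hom)) = f ≫ vY :=
      pullback.lift_snd _ _ _
    refine ⟨k.left.left, k.left.hom, pullback f₀ (pullback.fst g₀ (D.map k.left.hom)),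
      pullback g₀ (D.map k.left.hom), pullback.snd _ _, pullback.snd _ _, pullback.fst _ _,
      pullback.fst _ _, vY, vX, IsPullback.of_hasPullback _ _, IsPullback.of_hasPullback _ _,
      hvY1, hvY2, hvX1, hvX2, ?_⟩
    refine hk (pullback.fst f₀ (pullback.fst g₀ (D.map k.left.hom)))
      (pullback.snd f₀ (pullback.fst g₀ (D.map k.left.hom))) ?_ vX hvX1 ?_
    · rw [hf₀']
      refine (IsPullback.of_hasPullback f₀ (pullback.fst g₀ (D.map k.left.hom))).of_iso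
        (Iso.refl _) (Iso.refl _) (Iso.refl _) (asIso p₀).symm ?_ ?_ ?_ ?_
      · exact (Category.comp_id _).trans (Category.id_comp _).symm
      · exact (Category.comp_id _).trans (Category.id_comp _).symm
      · exact (Category.id_comp _).symm
      · change pullback.fst g₀ (D.map k.left.hom) ≫ inv p₀ =
          𝟙 _ ≫ Groth.Agent.H5.Lim.bcMap D g₀ k.hom
        rw [Category.id_comp, IsIso.comp_inv_eq]
        exact (Groth.Agent.H5.Lim.bcMap_fst D g₀ k.hom).symm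
    · exact hvX2.trans (Category.assoc f eY.hom _).symm
  · rintro ⟨i, φ, Xi, Yi, fi, gi, pY, pX, vY, vX, hYi, hXi, hvY1, hvY2, hvX1, hvX2, hfl⟩
    have hX' : IsPullback (vX ≫ pX) f f₀ (vY ≫ pY) := by
      rw [hvX1, hvY1]; exact hX
    have hsq : IsPullback vX f fi vY := IsPullback.of_right hX' hvX2 hXi
    haveI := qc_pullback pX F₀
    have h1 := isFlatOverAt_pullback_of_isPullback hsq ((Scheme.Modules.pullback pX).obj F₀) x hfl
    exact (isFlatOverAt_pullback_comp _ pX hvX1 f F₀ x).1 h1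

end Groth.Agent.LD.FF
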