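import Groth.Agent.Lib.Lead.FF.FlatLimPt
import Groth.Agent.Lib.Helper5.Lim.FGSub2
import Groth.Agent.Lib.Helper5.Lim.Model11
import Groth.Agent.Lib.Helper3.ModDesc.ObjDesc
import Groth.Agent.Lib.Helper3.ArtFlat.Fam2

/-! # Descent of flatness to a finitely generated subring (S4867, EGA IV 11.2.7) -/

set_option autoImplicit false
universe u
open CategoryTheory CategoryTheory.Limits AlgebraicGeometry TopologicalSpace Opposite TensorProduct

namespace Groth.Agent.LD.FF

open Groth.Agent.LD.QC Groth.Agent.LD.RelFP Groth.Agent.H5.Lim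

section ModelModule

variable {I : Type u} [SmallCategory I] [IsCofiltered I] (D : I ⥤ Scheme.{u}) (c : Cone D)
  (hc : IsLimit c) [∀ (i j : I) (f : i ⟶ j), IsAffineHom (D.map f)]
  [∀ i, QuasiSeparatedSpace (D.obj i)] [∀ i, CompactSpace (D.obj i)]

include hc in
/-- a finitely presented scheme over the limit with a finitely presented module comes from a
stage. -/
theorem exists_model_module {X : Scheme.{u}} (f : X ⟶ c.pt) [LocallyOfFinitePresentation f]
    [QuasiCompact f] [QuasiSeparated f] (F : X.Modules) [F.IsQuasicoherent]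
    (hF : F.IsFinitePresentation) :
    ∃ (i : I) (X₀ : Scheme.{u}) (p : X₀ ⟶ D.obj i) (q : X ⟶ X₀) (F₀ : X₀.Modules),
      LocallyOfFinitePresentation p ∧ QuasiCompact p ∧ QuasiSeparated p ∧
      IsPullback q f p (c.π.app i) ∧ F₀.IsFinitePresentation ∧
      Nonempty ((Scheme.Modules.pullback q).obj F₀ ≅ F) := by
  obtain ⟨j, ⟨M⟩⟩ := exists_model D c hc f
  haveI : CompactSpace M.Y := M.compactSpace_Y
  haveI : QuasiSeparatedSpace M.Y := M.quasiSeparatedSpace_Y
  haveI : ∀ (a b : Over j) (φ : a ⟶ b),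
      IsAffineHom ((Groth.Agent.H5.Lim.bcDiagram D M.p).map φ) :=
    fun a b φ => Groth.Agent.H5.Lim.isAffineHom_bcMap D M.p φ inferInstance
  let e : X ≅ pullback M.p (c.π.app j) := M.pb.isoPullback
  haveI : CompactSpace ↥((Groth.Agent.H5.Lim.bcDiagram D M.p).obj (Over.mk (𝟙 j))) :=
    compactSpace_bcDiagram_obj D M.p (Over.mk (𝟙 j)) inferInstance
  haveI : QuasiSeparatedSpace ↥((Groth.Agent.H5.Lim.bcDiagram D M.p).obj (Over.mk (𝟙 j))) :=
    quasiSeparatedSpace_bcDiagram_obj D M.p (Over.mk (𝟙 j)) inferInstance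
  have hF' : ((Scheme.Modules.pullback e.inv).obj F).IsFinitePresentation :=
    isFinitePresentation_pullback e.inv F hF
  obtain ⟨k, Fk, hFk, ⟨ι⟩⟩ := Groth.Agent.H3.ModDesc.exists_stage_module
    (Groth.Agent.H5.Lim.bcDiagram D M.p) (Groth.Agent.H5.Lim.bcCone D c M.p)
    (Groth.Agent.H5.Lim.isLimitBcCone D c M.p hc) (Over.mk (𝟙 j))
    (F := (Scheme.Modules.pullback e.inv).obj F) hF'
  have hsnd : e.hom ≫ pullback.snd M.p (c.π.app j) = f := M.pb.isoPullback_hom_snd
  refine ⟨k.left.left, pullback M.p (D.map k.left.hom), pullback.snd M.p (D.map k.left.hom),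
    e.hom ≫ Groth.Agent.H5.Lim.bcProj D c M.p k.left, Fk,
    MorphismProperty.pullback_snd (P := @LocallyOfFinitePresentation) _ _ M.lfp,
    MorphismProperty.pullback_snd (P := @QuasiCompact) _ _ M.qc,
    MorphismProperty.pullback_snd (P := @QuasiSeparated) _ _ M.qs, ?_, hFk, ⟨?_⟩⟩
  · refine (isPullback_bcProj D c M.p k.left).of_iso e.symm (Iso.refl _) (Iso.refl _)
      (Iso.refl _) ?_ ?_ ?_ ?_
    · rw [Iso.refl_hom, Category.comp_id, Iso.symm_hom, Iso.inv_hom_id_assoc]
    · rw [Iso.refl_hom, Category.comp_id, Iso.symm_hom]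
      exact (Iso.eq_inv_comp e).2 hsnd
    · rw [Iso.refl_hom, Iso.refl_hom, Category.comp_id, Category.id_comp]
    · rw [Iso.refl_hom, Iso.refl_hom, Category.comp_id, Category.id_comp]
  · exact ((Scheme.Modules.pullbackComp e.hom
        (Groth.Agent.H5.Lim.bcProj D c M.p k.left)).app Fk).symm ≪≫
      (Scheme.Modules.pullback e.hom).mapIso ι ≪≫
      (Scheme.Modules.pullbackComp e.hom e.inv).app F ≪≫
      (Scheme.Modules.pullbackCongr e.hom_inv_id).app F ≪≫
      (Scheme.Modules.pullbackId X).app F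

end ModelModule

/-- **S4867** (EGA IV 11.2.7). -/
theorem s4867 {A : Type u} [CommRing A] {X : Scheme.{u}}
    (f : X ⟶ Spec (CommRingCat.of A)) [LocallyOfFinitePresentation f] [QuasiCompact f]
    [QuasiSeparated f] (F : X.Modules) [F.IsQuasicoherent] (hF : F.IsFinitePresentation)
    (x : X) :
    (FlatMod.IsFlatOverAt f F x →
      ∃ (A₀ : Subalgebra ℤ A) (_ : A₀.FG) (X₀ : Scheme.{u})
        (f₀ : X₀ ⟶ Spec (CommRingCat.of ↥A₀))
        (_ : LocallyOfFiniteType f₀) (_ : QuasiCompact f₀) (F₀ : X₀.Modules) (_ : Coh.IsCoh F₀)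
        (q : X ⟶ X₀)
        (_ : IsPullback q f f₀ (Spec.map (CommRingCat.ofHom A₀.val.toRingHom)))
        (_ : (Scheme.Modules.pullback q).obj F₀ ≅ F),
        FlatMod.IsFlatOverAt f₀ F₀ (q x)) ∧
    (FlatMod.IsFlatOver f F →
      ∃ (A₀ : Subalgebra ℤ A) (_ : A₀.FG) (X₀ : Scheme.{u})
        (f₀ : X₀ ⟶ Spec (CommRingCat.of ↥A₀))
        (_ : LocallyOfFiniteType f₀) (_ : QuasiCompact f₀) (F₀ : X₀.Modules) (_ : Coh.IsCoh F₀)
        (q : X ⟶ X₀)
        (_ : IsPullback q f f₀ (Spec.map (CommRingCat.ofHom A₀.val.toRingHom)))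
        (_ : (Scheme.Modules.pullback q).obj F₀ ≅ F),
        FlatMod.IsFlatOver f₀ F₀) := by
  let f' : X ⟶ (fgzCone A).pt := f
  haveI : LocallyOfFinitePresentation f' := ‹LocallyOfFinitePresentation f›
  haveI : QuasiCompact f' := ‹QuasiCompact f›
  haveI : QuasiSeparated f' := ‹QuasiSeparated f›
  obtain ⟨i, X₀, p, q, F₀, hlfp, hqc, hqs, hpb, hF₀, ⟨ι⟩⟩ :=
    exists_model_module (fgzDiagram A) (fgzCone A) (isLimitFgzCone A) f' F hF
  haveI := hlfp
  haveI := hqc
  haveI := hqs
  haveI : F₀.IsFinitePresentation := hF₀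
  haveI : F₀.IsQuasicoherent := inferInstance
  -- common construction of the data at a later stage
  have key : ∀ (m : Over i), ∃ (v : X ⟶ pullback p ((fgzDiagram A).map m.hom)),
      v ≫ pullback.fst p ((fgzDiagram A).map m.hom) = q ∧
      v ≫ pullback.snd p ((fgzDiagram A).map m.hom) = f' ≫ (fgzCone A).π.app m.left ∧
      IsPullback v f' (pullback.snd p ((fgzDiagram A).map m.hom)) ((fgzCone A).π.app m.left) ∧
      Nonempty ((Scheme.Modules.pullback v).obj ((Scheme.Modules.pullback
        (pullback.fst p ((fgzDiagram A).map m.hom))).obj F₀) ≅ F) := by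
    intro m
    have hw : q ≫ p = (f' ≫ (fgzCone A).π.app m.left) ≫ (fgzDiagram A).map m.hom := by
      rw [Category.assoc, (fgzCone A).w, hpb.w]
    refine ⟨pullback.lift q (f' ≫ (fgzCone A).π.app m.left) hw, pullback.lift_fst _ _ _,
      pullback.lift_snd _ _ _, ?_, ⟨?_⟩⟩
    · refine IsPullback.of_right ?_ (pullback.lift_snd _ _ _)
        (IsPullback.of_hasPullback p ((fgzDiagram A).map m.hom))
      rw [pullback.lift_fst, (fgzCone A).w]
      exact hpb
    · exact (Scheme.Modules.pullbackComp _ _).app F₀ ≪≫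
        (Scheme.Modules.pullbackCongr (pullback.lift_fst _ _ _)).app F₀ ≪≫ ι
  constructor
  · intro h
    have h' : FlatMod.IsFlatOverAt f' ((Scheme.Modules.pullback q).obj F₀) x :=
      Groth.Agent.H3.ArtFlat.isFlatOverAt_of_iso f' ι.symm x h
    obtain ⟨m, hm⟩ := exists_stage_isFlatOverAt (fgzDiagram A) (fgzCone A) (isLimitFgzCone A) i
      p F₀ hF₀ q f' hpb x h'
    obtain ⟨v, hv1, hv2, hvpb, ⟨ιv⟩⟩ := key m
    haveI : LocallyOfFinitePresentation (pullback.snd p ((fgzDiagram A).map m.hom)) :=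
      MorphismProperty.pullback_snd (P := @LocallyOfFinitePresentation) _ _ hlfp
    haveI : QuasiCompact (pullback.snd p ((fgzDiagram A).map m.hom)) :=
      MorphismProperty.pullback_snd (P := @QuasiCompact) _ _ hqc
    haveI := qc_pullback (pullback.fst p ((fgzDiagram A).map m.hom)) F₀
    have hfp := isFinitePresentation_pullback (pullback.fst p ((fgzDiagram A).map m.hom)) F₀ hF₀
    haveI := hfp
    have hft : LocallyOfFiniteType (pullback.snd p ((fgzDiagram A).map m.hom)) := inferInstance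
    have hqc' : QuasiCompact (pullback.snd p ((fgzDiagram A).map m.hom)) := inferInstance
    exact ⟨m.left.unop.1, m.left.unop.2, pullback p ((fgzDiagram A).map m.hom),
      pullback.snd p ((fgzDiagram A).map m.hom), hft, hqc',
      (Scheme.Modules.pullback (pullback.fst p ((fgzDiagram A).map m.hom))).obj F₀,
      ⟨inferInstance, inferInstance⟩, v, hvpb, ιv,
      hm _ _ (IsPullback.of_hasPullback _ _) v hv1 hv2⟩
  · intro h
    have h' : FlatMod.IsFlatOver f' ((Scheme.Modules.pullback q).obj F₀) := fun y =>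
      Groth.Agent.H3.ArtFlat.isFlatOverAt_of_iso f' ι.symm y (h y)
    haveI : CompactSpace X₀ := QuasiCompact.compactSpace_of_compactSpace p
    obtain ⟨m, hm⟩ := exists_stage_isFlatOver_gen (fgzDiagram A) (fgzCone A) (isLimitFgzCone A) i
      p F₀ hF₀ q f' hpb h'
    obtain ⟨v, hv1, hv2, hvpb, ⟨ιv⟩⟩ := key m
    haveI : LocallyOfFinitePresentation (pullback.snd p ((fgzDiagram A).map m.hom)) :=
      MorphismProperty.pullback_snd (P := @LocallyOfFinitePresentation) _ _ hlfp
    haveI : QuasiCompact (pullback.snd p ((fgzDiagram A).map m.hom)) :=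
      MorphismProperty.pullback_snd (P := @QuasiCompact) _ _ hqc
    haveI := qc_pullback (pullback.fst p ((fgzDiagram A).map m.hom)) F₀
    have hfp := isFinitePresentation_pullback (pullback.fst p ((fgzDiagram A).map m.hom)) F₀ hF₀
    haveI := hfp
    have hft : LocallyOfFiniteType (pullback.snd p ((fgzDiagram A).map m.hom)) := inferInstance
    have hqc' : QuasiCompact (pullback.snd p ((fgzDiagram A).map m.hom)) := inferInstance
    exact ⟨m.left.unop.1, m.left.unop.2, pullback p ((fgzDiagram A).map m.hom),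
      pullback.snd p ((fgzDiagram A).map m.hom), hft, hqc',
      (Scheme.Modules.pullback (pullback.fst p ((fgzDiagram A).map m.hom))).obj F₀,
      ⟨inferInstance, inferInstance⟩, v, hvpb, ιv,
      hm m (𝟙 m) _ _ (IsPullback.of_hasPullback _ _)⟩

end Groth.Agent.LD.FF
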