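import Mathlib

/-!
# Lead: separability of integral elements of geometrically reduced algebras; derivations kill them

* `separable_minpoly_of_isReduced_tensor`: `k` a field, `R` a commutative `k`-algebra, `L` a perfect field
  over `k` with `L ⊗[k] R` reduced, `s : R` integral over `k` ⇒ `minpoly k s` is separable.
* `map_eq_zero_of_separable`: an additive Leibniz map `D : R → M` vanishing on the constants `k` kills
  every root of a separable polynomial over `k`.
-/

open Polynomial TensorProduct

namespace Groth.Agent.LD.FF

universe v w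

theorem separable_minpoly_of_isReduced_tensor {k : Type*} {R : Type*} {L : Type*} [Field k] [CommRing R]
    [Algebra k R] [Field L] [Algebra k L] [PerfectField L] (hred : IsReduced (L ⊗[k] R)) (s : R)
    (hs : IsIntegral k s) : (minpoly k s).Separable := by
  classical
  set P := minpoly k s with hP
  rw [← Polynomial.separable_map (algebraMap k L), PerfectField.separable_iff_squarefree]
  set PL := P.map (algebraMap k L) with hPL
  have hPL0 : PL ≠ 0 := (Polynomial.map_ne_zero (minpoly.ne_zero hs))
  have hdeg : PL.natDegree = P.natDegree := Polynomial.natDegree_map _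
  intro q hq
  obtain ⟨h, hh⟩ := hq
  by_contra hqu
  have hq0 : q ≠ 0 := by
    rintro rfl
    apply hPL0
    rw [hh]; simp
  have hh0 : h ≠ 0 := by
    rintro rfl
    apply hPL0
    rw [hh]; simp
  have hqd : 0 < q.natDegree := by
    rw [Nat.pos_iff_ne_zero]
    intro h0
    apply hqu
    rw [Polynomial.isUnit_iff]
    refine ⟨q.coeff 0, ?_, ?_⟩
    · rw [isUnit_iff_ne_zero]
      intro hc
      apply hq0
      rw [Polynomial.eq_C_of_natDegree_eq_zero h0, hc, map_zero]
    · exact (Polynomial.eq_C_of_natDegree_eq_zero h0).symm
  -- the element t = (q h)(1 ⊗ s)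
  set x : L ⊗[k] R := (1 : L) ⊗ₜ[k] s with hx
  have hPx : aeval x PL = 0 := by
    rw [hPL, Polynomial.aeval_map_algebraMap]
    have : x = (Algebra.TensorProduct.includeRight : R →ₐ[k] L ⊗[k] R) s := rfl
    rw [this, Polynomial.aeval_algHom_apply, hP, minpoly.aeval, map_zero]
  have ht2 : (aeval x (q * h)) ^ 2 = 0 := by
    have : (q * h) ^ 2 = PL * h := by rw [hh]; ring
    rw [← map_pow, this, map_mul, hPx, zero_mul]
  have ht : aeval x (q * h) = 0 := IsReduced.eq_zero _ ⟨2, ht2⟩
  have hqh0 : q * h ≠ 0 := mul_ne_zero hq0 hh0
  have hdlt : (q * h).natDegree < P.natDegree := by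
    have h1 : PL.natDegree = q.natDegree + (q * h).natDegree := by
      rw [hh, mul_assoc, Polynomial.natDegree_mul hq0 hqh0]
    omega
  -- linear independence of the powers
  have hli : LinearIndependent L (fun i : Fin P.natDegree => (1 : L) ⊗ₜ[k] (s ^ (i : ℕ))) :=
    Module.Flat.linearIndependent_one_tmul (linearIndependent_pow (K := k) s)
  have hsum : ∑ i : Fin P.natDegree, (q * h).coeff (i : ℕ) • ((1 : L) ⊗ₜ[k] (s ^ (i : ℕ))) = 0 := by
    rw [Fin.sum_univ_eq_sum_range (fun i => (q * h).coeff i • ((1 : L) ⊗ₜ[k] (s ^ i)))]
    rw [← ht, Polynomial.aeval_eq_sum_range' hdlt]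
    refine Finset.sum_congr rfl (fun i _ => ?_)
    rw [hx, Algebra.TensorProduct.tmul_pow, one_pow]
  have hco := Fintype.linearIndependent_iff.mp hli (fun i => (q * h).coeff (i : ℕ)) hsum
  apply hqh0
  ext i
  rw [Polynomial.coeff_zero]
  by_cases hi : i < P.natDegree
  · exact hco ⟨i, hi⟩
  · exact Polynomial.coeff_eq_zero_of_natDegree_lt (by omega)

theorem map_eq_zero_of_separable {k : Type*} {R : Type*} {M : Type*} [Field k] [CommRing R] [Algebra k R]
    [AddCommGroup M] [Module R M] (D : R →+ M) (hmul : ∀ a b, D (a * b) = a • D b + b • D a)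
    (hc : ∀ c : k, D (algebraMap k R c) = 0) (s : R) (P : k[X]) (hP : P.Separable)
    (hPs : aeval s P = 0) : D s = 0 := by
  letI : Module k M := Module.compHom M (algebraMap k R)
  haveI : IsScalarTower k R M := ⟨fun c r m => by
    change (c • r) • m = (algebraMap k R c) • (r • m)
    rw [Algebra.smul_def, mul_smul]⟩
  let D' : Derivation k R M :=
    { toFun := D
      map_add' := D.map_add
      map_smul' := fun c r => by
        simp only [RingHom.id_apply]
        rw [Algebra.smul_def, hmul, hc, smul_zero, add_zero]
        rfl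
      map_one_eq_zero' := by
        change D 1 = 0
        rw [← map_one (algebraMap k R)]
        exact hc 1
      leibniz' := fun a b => hmul a b }
  have h1 : D' (aeval s P) = aeval s (derivative P) • D' s := Derivation.map_aeval D' P s
  rw [hPs, map_zero] at h1
  obtain ⟨a, b, hab⟩ := hP
  have h2 : aeval s b * aeval s (derivative P) = 1 := by
    have := congrArg (aeval s) hab
    rw [map_add, map_mul, map_mul, hPs, mul_zero, zero_add, map_one] at this
    exact this
  have h3 : D' s = (aeval s b * aeval s (derivative P)) • D' s := by rw [h2, one_smul]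
  rw [mul_smul, ← h1, smul_zero] at h3
  exact h3

end Groth.Agent.LD.FF
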