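import Groth.Agent.Lib.Lead.FF.H0Const
import Groth.Agent.Lib.Lead.FF.SepAlg

/-! # Global functions of a proper geometrically reduced scheme over a field are separable over it. -/

universe u
open CategoryTheory Limits Opposite TopologicalSpace AlgebraicGeometry TensorProduct Polynomial

namespace Groth.Agent.LD.FF
open Groth.Agent.LD.QC Groth.Agent.LD.FBC

variable {k : Type u} [Field k] {X : Scheme.{u}} (f : X ⟶ Spec (CommRingCat.of k))

/-- for `f : X ⟶ Spec k` quasi-compact quasi-separated and geometrically reduced, and any field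
`K` over `k`, the ring `K ⊗[k] Γ(X, ⊤)` is reduced. -/
theorem isReduced_tensor_of_geometricallyReduced [QuasiCompact f] [QuasiSeparated f]
    [GeometricallyReduced f] (K : Type u) [Field K] [Algebra k K] :
    letI : Algebra k Γ(X, ⊤) := (algAΓ f ⊤).toAlgebra
    _root_.IsReduced (K ⊗[k] Γ(X, ⊤)) := by
  let φ := Spec.map (CommRingCat.ofHom (algebraMap k K))
  let X' := pullback f φ
  let g' : X' ⟶ X := pullback.fst f φ
  let f' : X' ⟶ Spec (CommRingCat.of K) := pullback.snd f φ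
  have h : IsPullback g' f' f φ := IsPullback.of_hasPullback f φ
  haveI hred : IsReduced X' :=
    GeometricallyReduced.geometrically_isReduced (f := f) φ g' f' h
  haveI : CompactSpace X := QuasiCompact.compactSpace_of_compactSpace f
  haveI : QuasiSeparatedSpace X := quasiSeparatedSpace_of_quasiSeparated f
  letI algAR : Algebra k Γ(X, ⊤) := (algAΓ f ⊤).toAlgebra
  letI algBR' : Algebra K Γ(X', g' ⁻¹ᵁ ⊤) := (algAΓ f' (g' ⁻¹ᵁ ⊤)).toAlgebra
  letI algRR' : Algebra Γ(X, ⊤) Γ(X', g' ⁻¹ᵁ ⊤) :=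
    (g'.appLE ⊤ (g' ⁻¹ᵁ ⊤) le_rfl).hom.toAlgebra
  letI algAR' : Algebra k Γ(X', g' ⁻¹ᵁ ⊤) :=
    ((algebraMap K Γ(X', g' ⁻¹ᵁ ⊤)).comp (algebraMap k K)).toAlgebra
  haveI : IsScalarTower k K Γ(X', g' ⁻¹ᵁ ⊤) := IsScalarTower.of_algebraMap_eq' rfl
  have hpo := isPushout_sections'_of_isCompact f f' g' h ⊤ isCompact_univ
    (isQuasiSeparated_univ_iff.mpr inferInstance)
  haveI : IsScalarTower k Γ(X, ⊤) Γ(X', g' ⁻¹ᵁ ⊤) :=
    IsScalarTower.of_algebraMap_eq' (by
      have := hpo.w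
      exact congrArg CommRingCat.Hom.hom this)
  haveI hPO : Algebra.IsPushout k K Γ(X, ⊤) Γ(X', g' ⁻¹ᵁ ⊤) :=
    CommRingCat.isPushout_iff_isPushout.mp hpo
  haveI : _root_.IsReduced Γ(X', g' ⁻¹ᵁ ⊤) := inferInstanceAs (_root_.IsReduced Γ(X', ⊤))
  exact isReduced_of_injective
    (Algebra.IsPushout.equiv k K Γ(X, ⊤) Γ(X', g' ⁻¹ᵁ ⊤)).toRingEquiv.toRingHom
    (Algebra.IsPushout.equiv k K Γ(X, ⊤) Γ(X', g' ⁻¹ᵁ ⊤)).injective

/-- every global function on a proper scheme over a field is integral over the field. -/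
theorem isIntegral_algAΓ_top [UniversallyClosed f] (s : Γ(X, ⊤)) :
    letI : Algebra k Γ(X, ⊤) := (algAΓ f ⊤).toAlgebra
    IsIntegral k s := by
  letI : Algebra k Γ(X, ⊤) := (algAΓ f ⊤).toAlgebra
  obtain ⟨p, hp, hps⟩ := isIntegral_appTop_of_universallyClosed f s
  refine ⟨p.map (Scheme.ΓSpecIso (CommRingCat.of k)).hom.hom, hp.map _, ?_⟩
  rw [eval₂_map]
  refine Eq.trans ?_ hps
  congr 1
  ext x
  change resΓ X ⊤ (f.appTop ((Scheme.ΓSpecIso (CommRingCat.of k)).inv
    ((Scheme.ΓSpecIso (CommRingCat.of k)).hom x))) = f.appTop x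
  have h3 : ∀ r : Γ(X, ⊤), resΓ X ⊤ r = r := by
    intro r
    change (X.ringCatSheaf.obj.map (𝟙 (op (⊤ : X.Opens)))).hom r = r
    rw [X.ringCatSheaf.obj.map_id]
    rfl
  rw [h3]
  congr 1
  exact congr($((Scheme.ΓSpecIso (CommRingCat.of k)).hom_inv_id) x)

/-- **global functions of a proper geometrically reduced `k`-scheme are separable over `k`**: each is
a root of a separable polynomial (coefficients mapped by `Coh.toGlobal f`). -/
theorem exists_separable_eval₂_eq_zero [IsProper f] [GeometricallyReduced f] (s : Γ(X, ⊤)) :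
    ∃ P : k[X], P.Separable ∧ Polynomial.eval₂ (Coh.toGlobal f) s P = 0 := by
  letI : Algebra k Γ(X, ⊤) := (algAΓ f ⊤).toAlgebra
  have hint : IsIntegral k s := isIntegral_algAΓ_top f s
  have hred := isReduced_tensor_of_geometricallyReduced f (AlgebraicClosure k)
  refine ⟨minpoly k s, separable_minpoly_of_isReduced_tensor (L := AlgebraicClosure k) hred s hint, ?_⟩
  have h1 : Polynomial.aeval s (minpoly k s) = 0 := minpoly.aeval k s
  rw [Polynomial.aeval_def] at h1
  have h2 : algebraMap k Γ(X, ⊤) = Coh.toGlobal f := algAΓ_top_eq f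
  rw [h2] at h1
  exact h1

end Groth.Agent.LD.FF
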