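import Groth.Agent.Lib.Helper1.IntModel

/-!
# Descent of a finitely presented module over a finitely presented algebra to a finite type
`ℤ`-algebra (no flatness), adapting helper1's `IntModel.exists_int_model`.
-/

set_option autoImplicit false

universe u

open TensorProduct Function

namespace Groth.Agent.LD.FF.IntModelNF

open Groth.Agent.H1.PolyModel Groth.Agent.H1.LimFlat Groth.Agent.H1.IntModel

attribute [local instance] MvPolynomial.algebraMvPolynomial

set_option maxHeartbeats 800000 in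
/-- **Packaged descent of a finitely presented module to a finite type `ℤ`-algebra.** -/
theorem exists_int_model_nonflat (R : Type u) [CommRing R]
    (S : Type u) [CommRing S] [Algebra R S] [Algebra.FinitePresentation R S] (M : Type u)
    [AddCommGroup M] [Module S M] [Module R M] [IsScalarTower R S M]
    [Module.FinitePresentation S M] :
    ∃ (R₀ : Type u) (_ : CommRing R₀) (_ : Algebra R₀ R) (S₀ : Type u) (_ : CommRing S₀)
      (_ : Algebra R₀ S₀) (_ : Algebra S₀ S) (_ : Algebra R₀ S) (_ : IsScalarTower R₀ R S)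
      (_ : IsScalarTower R₀ S₀ S) (M₀ : Type u) (_ : AddCommGroup M₀) (_ : Module S₀ M₀)
      (_ : Module S₀ M) (_ : IsScalarTower S₀ S M)
      (f : M₀ →ₗ[S₀] M),
      Algebra.FiniteType ℤ R₀ ∧ Algebra.FiniteType R₀ S₀ ∧ Module.Finite S₀ M₀ ∧
        Algebra.IsPushout R₀ R S₀ S ∧ IsBaseChange S f := by
  classical
  obtain ⟨n, φ, hφ, hker⟩ := Algebra.FinitePresentation.out (R := R) (A := S)
  letI algPS : Algebra (P n R) S := φ.toRingHom.toAlgebra
  haveI towRPS : IsScalarTower R (P n R) S :=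
    IsScalarTower.of_algebraMap_eq fun x => (φ.commutes x).symm
  letI modPM : Module (P n R) M := Module.compHom M (algebraMap (P n R) S)
  haveI towPSM : IsScalarTower (P n R) S M :=
    ⟨fun p s m => by
      change (algebraMap (P n R) S p * s) • m = algebraMap (P n R) S p • (s • m)
      rw [mul_smul]⟩
  haveI towRPM : IsScalarTower R (P n R) M := IsScalarTower.of_algebraMap_smul fun a m => by
    change algebraMap (P n R) S (algebraMap R (P n R) a) • m = a • m
    rw [← IsScalarTower.algebraMap_apply, algebraMap_smul]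
  have hsurj : Surjective (algebraMap (P n R) S) := hφ
  obtain ⟨r, t, k, ⟨e⟩⟩ := exists_model_equiv (R := R) (S := S) (M := M) hsurj hker
  obtain ⟨S₂, -, hS₂, k₂, hk₂⟩ := exists_level_zero r t k ⊥ Subalgebra.fg_bot
  -- generators of the kernel
  obtain ⟨t', s, hs⟩ := Submodule.fg_iff_exists_fin_generating_family.mp hker
  obtain ⟨S₃, hS₂₃, hS₃, hQ⟩ := exists_fg_ge_forall_mem_range S₂ hS₂ (Finset.univ.image s)
  choose s' hs' using fun j => hQ (s j) (Finset.mem_image_of_mem _ (Finset.mem_univ j))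
  letI alg23 : Algebra S₂ S₃ := (Subalgebra.inclusion hS₂₃).toAlgebra
  haveI : IsScalarTower S₂ S₃ R := IsScalarTower.of_algebraMap_eq fun x => rfl
  let k₃ : Fin t → (Fin r → P n S₃) := kmap S₃ r t k₂
  have hk₃ : kmap R r t k₃ = k := (kmap_kmap S₃ R r t k₂).trans hk₂
  subst hk₃
  -- the descended ideal and quotient
  let I₀ : Ideal (P n S₃) := Ideal.span (Set.range s')
  have hmapker : ∀ a ∈ I₀, algebraMap (P n R) S (MvPolynomial.map (algebraMap S₃ R) a) = 0 := by
    have : I₀ ≤ RingHom.ker ((algebraMap (P n R) S).comp (MvPolynomial.map (algebraMap S₃ R))) := by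
      rw [Ideal.span_le]
      rintro _ ⟨j, rfl⟩
      rw [SetLike.mem_coe, RingHom.mem_ker, RingHom.comp_apply, hs']
      have : s j ∈ RingHom.ker φ.toRingHom := by
        rw [← hs]; exact Submodule.subset_span ⟨j, rfl⟩
      exact RingHom.mem_ker.mp this
    intro a ha
    exact RingHom.mem_ker.mp (this ha)
  let ψ : (P n S₃ ⧸ I₀) →+* S := Ideal.Quotient.lift I₀
    ((algebraMap (P n R) S).comp (MvPolynomial.map (algebraMap S₃ R))) hmapker
  letI algS₀S : Algebra (P n S₃ ⧸ I₀) S := ψ.toAlgebra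
  haveI tow1 : IsScalarTower S₃ R S := inferInstance
  haveI tow2 : IsScalarTower S₃ (P n S₃ ⧸ I₀) S := IsScalarTower.of_algebraMap_eq fun x => by
    change algebraMap S₃ S x = ψ (algebraMap S₃ (P n S₃ ⧸ I₀) x)
    rw [IsScalarTower.algebraMap_apply S₃ (P n S₃) (P n S₃ ⧸ I₀), Ideal.Quotient.algebraMap_eq,
      Ideal.Quotient.lift_mk, RingHom.comp_apply, MvPolynomial.algebraMap_eq, MvPolynomial.map_C,
      ← MvPolynomial.algebraMap_eq, ← IsScalarTower.algebraMap_apply R (P n R) S,
      ← IsScalarTower.algebraMap_apply S₃ R S]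
  -- module structures on `M`
  letI modS₀M : Module (P n S₃ ⧸ I₀) M := Module.compHom M (algebraMap (P n S₃ ⧸ I₀) S)
  haveI towS₀SM : IsScalarTower (P n S₃ ⧸ I₀) S M :=
    ⟨fun p s m => by
      change (algebraMap (P n S₃ ⧸ I₀) S p * s) • m = algebraMap (P n S₃ ⧸ I₀) S p • (s • m)
      rw [mul_smul]⟩
  letI modP₀M : Module (P n S₃) M := Module.compHom M (algebraMap (P n S₃) (P n R))
  haveI towP₀PM : IsScalarTower (P n S₃) (P n R) M :=
    ⟨fun p s m => by
      change (algebraMap (P n S₃) (P n R) p * s) • m = algebraMap (P n S₃) (P n R) p • (s • m)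
      rw [mul_smul]⟩
  have hψmk : ∀ a : P n S₃, algebraMap (P n S₃ ⧸ I₀) S (Ideal.Quotient.mk I₀ a) =
      algebraMap (P n R) S (algebraMap (P n S₃) (P n R) a) := fun a => rfl
  haveI towP₀S₀M : IsScalarTower (P n S₃) (P n S₃ ⧸ I₀) M :=
    IsScalarTower.of_algebraMap_smul (R := P n S₃) (A := P n S₃ ⧸ I₀) (M := M) fun a m => by
      change algebraMap (P n S₃ ⧸ I₀) S (algebraMap (P n S₃) (P n S₃ ⧸ I₀) a) • m =
        algebraMap (P n R) S (algebraMap (P n S₃) (P n R) a) • m
      rw [Ideal.Quotient.algebraMap_eq, hψmk]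
  -- the comparison maps
  let fN : Mod r t k₃ →ₗ[P n S₃] M :=
    { toFun := fun x => e (muM R r t k₃ x)
      map_add' := fun x y => by rw [map_add, map_add]
      map_smul' := fun a x => by
        rw [RingHom.id_apply, map_smul, ← algebraMap_smul (P n R) a, map_smul]
        rfl }
  let f : (P n S₃ ⧸ I₀) ⊗[P n S₃] Mod r t k₃ →ₗ[P n S₃ ⧸ I₀] M :=
    LinearMap.liftBaseChange (P n S₃ ⧸ I₀) fN
  refine ⟨S₃, inferInstance, inferInstance, P n S₃ ⧸ I₀, inferInstance, inferInstance, algS₀S,
    inferInstance, tow1, tow2, (P n S₃ ⧸ I₀) ⊗[P n S₃] Mod r t k₃, inferInstance, inferInstance,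
    modS₀M, towS₀SM, f, ?_, ?_, ?_, ?_, ?_⟩
  · exact (Subalgebra.fg_iff_finiteType S₃).mp hS₃
  · exact Algebra.FiniteType.of_surjective (Ideal.Quotient.mkₐ S₃ I₀)
      (Ideal.Quotient.mkₐ_surjective S₃ I₀)
  · infer_instance
  · refine ⟨?_⟩
    let F₀ : (Fin t' → P n S₃) →ₗ[S₃] P n S₃ :=
      (Fintype.linearCombination (P n S₃) s').restrictScalars S₃
    let G₀ : P n S₃ →ₗ[S₃] (P n S₃ ⧸ I₀) := (Ideal.Quotient.mkₐ S₃ I₀).toLinearMap
    let F : (Fin t' → P n R) →ₗ[R] P n R := (Fintype.linearCombination (P n R) s).restrictScalars R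
    let G : P n R →ₗ[R] S := φ.toLinearMap
    have hi₂ : IsBaseChange R (IsScalarTower.toAlgHom S₃ (P n S₃) (P n R)).toLinearMap :=
      (inferInstance : Algebra.IsPushout S₃ R (P n S₃) (P n R)).out
    refine IsBaseChange.of_right_exact R ((vmap n t' S₃ R).restrictScalars S₃)
      (IsScalarTower.toAlgHom S₃ (P n S₃) (P n R)).toLinearMap
      (IsScalarTower.toAlgHom S₃ (P n S₃ ⧸ I₀) S).toLinearMap (f := F₀) (g := G₀) (f' := F)
      (g' := G) ?_ ?_ (isBaseChange_vmap_restrictScalars n t' S₃ R) hi₂ ?_ ?_ ?_ hφ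
    · refine LinearMap.ext fun c => ?_
      change MvPolynomial.map (algebraMap S₃ R) (Fintype.linearCombination (P n S₃) s' c) =
        Fintype.linearCombination (P n R) s (vmap n t' S₃ R c)
      rw [Fintype.linearCombination_apply, Fintype.linearCombination_apply, map_sum]
      refine Finset.sum_congr rfl fun j _ => ?_
      rw [smul_eq_mul, map_mul, hs', vmap_apply, smul_eq_mul]
    · refine LinearMap.ext fun p => ?_
      rfl
    · intro p
      change Ideal.Quotient.mk I₀ p = 0 ↔ p ∈ Set.range (Fintype.linearCombination (P n S₃) s')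
      rw [Ideal.Quotient.eq_zero_iff_mem, ← LinearMap.coe_range, Fintype.range_linearCombination]
      rfl
    · exact Ideal.Quotient.mk_surjective
    · intro p
      change φ p = 0 ↔ p ∈ Set.range (Fintype.linearCombination (P n R) s)
      rw [← LinearMap.coe_range, Fintype.range_linearCombination, SetLike.mem_coe]
      change _ ↔ p ∈ Submodule.span (P n R) (Set.range s)
      rw [hs]
      rfl
  · letI algP₀S : Algebra (P n S₃) S :=
      ((algebraMap (P n R) S).comp (algebraMap (P n S₃) (P n R))).toAlgebra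
    haveI : IsScalarTower (P n S₃) (P n R) S := IsScalarTower.of_algebraMap_eq fun x => rfl
    haveI : IsScalarTower (P n S₃) (P n S₃ ⧸ I₀) S :=
      IsScalarTower.of_algebraMap_eq (R := P n S₃) (S := P n S₃ ⧸ I₀) (A := S) fun x => rfl
    haveI : IsScalarTower (P n S₃) S M :=
      IsScalarTower.of_algebraMap_smul (R := P n S₃) (A := S) (M := M) fun a m => rfl
    have h1 : IsBaseChange (P n R) fN :=
      (isBaseChange_muM R r t k₃).comp (IsBaseChange.ofEquiv e)
    have h2 : IsBaseChange S (LinearMap.id : M →ₗ[P n R] M) := isBaseChange_id_of_surjective hsurj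
    have h3 : IsBaseChange S
        ((LinearMap.id : M →ₗ[P n R] M).restrictScalars (P n S₃) ∘ₗ fN) := IsBaseChange.comp h1 h2
    have h4 : IsBaseChange (P n S₃ ⧸ I₀)
        (TensorProduct.mk (P n S₃) (P n S₃ ⧸ I₀) (Mod r t k₃) 1) :=
      TensorProduct.isBaseChange (P n S₃) (Mod r t k₃) (P n S₃ ⧸ I₀)
    have h5 : (LinearMap.id : M →ₗ[P n R] M).restrictScalars (P n S₃) ∘ₗ fN =
        f.restrictScalars (P n S₃) ∘ₗ
          (TensorProduct.mk (P n S₃) (P n S₃ ⧸ I₀) (Mod r t k₃) 1) := by
      refine LinearMap.ext fun x => ?_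
      change fN x = f ((1 : P n S₃ ⧸ I₀) ⊗ₜ x)
      rw [LinearMap.liftBaseChange_tmul, one_smul]
    rw [h5] at h3
    exact (IsBaseChange.comp_iff h4).mp h3

end Groth.Agent.LD.FF.IntModelNF
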