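import Mathlib.CategoryTheory.Abelian.Basic
import Mathlib.Algebra.Homology.ShortComplex.ShortExact
import Mathlib.Algebra.Homology.ShortComplex.Exact

/-! # The two short exact sequences attached to a morphism in an abelian category

For `t : P ⟶ Q`: `0 → ker t → P → im t → 0` and `0 → im t → Q → coker t → 0`, and their
functoriality with respect to commutative squares. -/

universe v u
open CategoryTheory Limits

namespace Groth.Agent.LD.FF

variable {C : Type u} [Category.{v} C] [Abelian C]

section one
variable {P Q : C} (t : P ⟶ Q)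

/-- `ker t → P → im t`. -/
noncomputable abbrev sc₁ : ShortComplex C :=
  ShortComplex.mk (kernel.ι t) (Abelian.factorThruImage t) (by
    rw [← cancel_mono (Abelian.image.ι t), Category.assoc, Abelian.image.fac, kernel.condition,
      zero_comp])

/-- `im t → Q → coker t`. -/
noncomputable abbrev sc₂ : ShortComplex C :=
  ShortComplex.mk (Abelian.image.ι t) (cokernel.π t) (kernel.condition _)

lemma sc₂_shortExact : (sc₂ t).ShortExact where
  exact := ShortComplex.exact_of_f_is_kernel _ (kernelIsKernel (cokernel.π t))
  mono_f := inferInstanceAs (Mono (kernel.ι (cokernel.π t)))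
  epi_g := inferInstanceAs (Epi (cokernel.π t))

lemma kernel_lift_aux {W : C} (k : W ⟶ P) (hk : k ≫ Abelian.factorThruImage t = 0) :
    k ≫ t = 0 := by
  have h1 : k ≫ t = (k ≫ Abelian.factorThruImage t) ≫ Abelian.image.ι t := by
    rw [Category.assoc, Abelian.image.fac]
  rw [h1, hk, zero_comp]

lemma sc₁_shortExact : (sc₁ t).ShortExact where
  exact := by
    haveI : Mono (sc₁ t).f := inferInstanceAs (Mono (kernel.ι t))
    apply ShortComplex.exact_of_f_is_kernel
    refine KernelFork.IsLimit.ofι' _ _ (fun {W} k hk => ?_)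
    exact ⟨kernel.lift t k (kernel_lift_aux t k hk), kernel.lift_ι _ _ _⟩
  mono_f := inferInstanceAs (Mono (kernel.ι t))
  epi_g := inferInstanceAs (Epi (Abelian.factorThruImage t))

end one

section two
variable {P Q P' Q' : C} (t : P ⟶ Q) (t' : P' ⟶ Q') (a : P ⟶ P') (b : Q ⟶ Q')
  (sq : t ≫ b = a ≫ t')

/-- the induced map on images. -/
noncomputable def imMap : Abelian.image t ⟶ Abelian.image t' :=
  kernel.map (cokernel.π t) (cokernel.π t') b (cokernel.map t t' a b sq) (by simp)

@[reassoc]
lemma imMap_ι : imMap t t' a b sq ≫ Abelian.image.ι t' = Abelian.image.ι t ≫ b := by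
  unfold imMap
  simp

@[reassoc]
lemma factorThruImage_imMap :
    Abelian.factorThruImage t ≫ imMap t t' a b sq = a ≫ Abelian.factorThruImage t' := by
  rw [← cancel_mono (Abelian.image.ι t'), Category.assoc, imMap_ι, Category.assoc,
    Abelian.image.fac, ← Category.assoc, Abelian.image.fac, sq]

/-- the map of short complexes `sc₁ t ⟶ sc₁ t'` induced by a commutative square. -/
noncomputable def sc₁Map : sc₁ t ⟶ sc₁ t' where
  τ₁ := kernel.map t t' a b sq
  τ₂ := a
  τ₃ := imMap t t' a b sq
  comm₁₂ := by simp [sc₁]
  comm₂₃ := by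
    change a ≫ Abelian.factorThruImage t' = Abelian.factorThruImage t ≫ imMap t t' a b sq
    exact (factorThruImage_imMap t t' a b sq).symm

/-- the map of short complexes `sc₂ t ⟶ sc₂ t'` induced by a commutative square. -/
noncomputable def sc₂Map : sc₂ t ⟶ sc₂ t' where
  τ₁ := imMap t t' a b sq
  τ₂ := b
  τ₃ := cokernel.map t t' a b sq
  comm₁₂ := by
    change imMap t t' a b sq ≫ Abelian.image.ι t' = Abelian.image.ι t ≫ b
    exact imMap_ι t t' a b sq
  comm₂₃ := by simp [sc₂]

end two

end Groth.Agent.LD.FF
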