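import Groth.Agent.Lib.Lead.FF.Results

/-! # The kernels of `H^p(X, F) → H^p(X, F/I^(n+1) F)` -/

universe u
open CategoryTheory Limits Opposite TopologicalSpace AlgebraicGeometry

namespace Groth.Agent.LD.FF

variable {A : Type u} [CommRing A] {X : Scheme.{u}} [X.Over (Spec (CommRingCat.of A))]

section basic
variable (I : Ideal A) (F : X.Modules) (p : ℕ)

lemma mem_ker_toHHmodPow_iff (n : ℕ) (x : Coh.HH X F p) :
    x ∈ (Formal.toHHmodPow I F p n).ker ↔ x ∈ Rfil I F p (n + 1) := by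
  rw [AddMonoidHom.mem_ker]
  constructor
  · intro hx
    obtain ⟨x₁, hx₁⟩ := CL.exact₂ (sesPow_shortExact I F (n + 1)) A p x hx
    obtain ⟨x', rfl⟩ := (θH I F p (n + 1)).surjective x₁
    exact ⟨x', ((HH_ι_θH I F p (n + 1) x').symm.trans hx₁)⟩
  · rintro ⟨x', rfl⟩
    rw [← HH_ι_θH I F p (n + 1) x']
    exact CL.HHmap_g_f (S := sesPow I F (n + 1)) A p _

lemma ker_toHHmodPow_eq (n : ℕ) :
    ((Formal.toHHmodPow I F p n).ker : Set (Coh.HH X F p)) = (Rfil I F p (n + 1) : Set _) := by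
  ext x
  exact mem_ker_toHHmodPow_iff I F p n x

end basic

variable [IsNoetherianRing A] (hN : NoethHyp.{u}) [IsLocallyNoetherian X] [CompactSpace X]
  (hfin : FinHyp X A) (I : Ideal A) (F : X.Modules) (hF : Coh.IsCoh F) (p : ℕ)

include hN hfin hF in
/-- the kernels `R_k` of `H^p(F) → H^p(F/I^(k+1)F)` form an `I`-good filtration. -/
theorem ker_toHHmodPow_succ : ∃ k₀ : ℕ, ∀ k : ℕ, k₀ ≤ k →
    ((Formal.toHHmodPow I F p (k + 1)).ker : Set (Coh.HH X F p)) =
      ((I • Submodule.span A ((Formal.toHHmodPow I F p k).ker : Set (Coh.HH X F p)) :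
        Submodule A (Coh.HH X F p)) : Set (Coh.HH X F p)) := by
  obtain ⟨k₀, hk₀⟩ := exists_Rfil_succ hN hfin I F hF p
  refine ⟨k₀, fun k hk => ?_⟩
  rw [ker_toHHmodPow_eq, ker_toHHmodPow_eq, Submodule.span_eq, hk₀ (k + 1) (by omega)]

include hN hfin hF in
/-- the kernel of `H^p(F) → H^p(F/I^(n+1)F)` is contained in `I^(n-c) H^p(F)`. -/
theorem ker_toHHmodPow_le : ∃ c : ℕ, ∀ n : ℕ, c ≤ n →
    ((Formal.toHHmodPow I F p n).ker : Set (Coh.HH X F p)) ⊆
      ((I ^ (n - c) • (⊤ : Submodule A (Coh.HH X F p)) : Submodule A (Coh.HH X F p)) :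
        Set (Coh.HH X F p)) := by
  obtain ⟨c, hc⟩ := exists_Rfil_le hN hfin I F hF p
  refine ⟨c, fun n hn => ?_⟩
  rw [ker_toHHmodPow_eq]
  intro x hx
  have h1 := hc (n + 1) (by omega) hx
  have h2 : I ^ (n + 1 - c) ≤ I ^ (n - c) := Ideal.pow_le_pow_right (by omega)
  exact Submodule.smul_mono h2 le_rfl h1

end Groth.Agent.LD.FF
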