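import Groth.Agent.Lib.Lead.FF.GFam

/-! # The kernel family of an eventually generated coherent family is eventually generated -/

universe u
open CategoryTheory Limits Opposite TopologicalSpace AlgebraicGeometry

namespace Groth.Agent.LD.FF

namespace GFam

variable {X : Scheme.{u}} {s : ℕ} {𝓝 : GFam X (s + 1)}

lemma kerFam_evGen_aux (hN : NoethHyp.{u}) [IsLocallyNoetherian X] (h : 𝓝.IsCoh)
    {U : X.Opens} (hU : IsAffineOpen U) {k₀ : ℕ} (hg : 𝓝.EvGen {U} k₀) :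
    ∃ k₁, ∀ k, k₁ ≤ k → ∀ x : Γ(𝓝.kerFam.N (k + 1), U),
      ∃ y : Fin s → Γ(𝓝.kerFam.N k, U), x = ∑ i, (𝓝.kerFam.T i k).app U (y i) := by
  haveI : IsNoetherianRing Γ(X, U) := IsLocallyNoetherian.component_noetherian ⟨U, hU⟩
  haveI : ∀ k, Module.Finite Γ(X, U) Γ(𝓝.N k, U) := fun k =>
    haveI := (h k).1
    QC.finite_sections_of_isFiniteType (𝓝.N k) (h k).2 hU
  let T : Fin (s + 1) → ∀ k, Γ(𝓝.N k, U) →ₗ[Γ(X, U)] Γ(𝓝.N (k + 1), U) :=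
    fun i k => QC.appLinear (𝓝.T i k) U
  have hcomm : ∀ i j k (x : Γ(𝓝.N k, U)), T i (k + 1) (T j k x) = T j (k + 1) (T i k x) := by
    intro i j k x
    change ((𝓝.T j k ≫ 𝓝.T i (k + 1)).app U) x = ((𝓝.T i k ≫ 𝓝.T j (k + 1)).app U) x
    rw [𝓝.comm]
  have hgen : ∀ k, k₀ ≤ k → ⨆ i, LinearMap.range (T i k) = ⊤ := by
    intro k hk
    rw [iSup_range_eq_top_iff]
    intro y
    exact hg k hk U rfl y
  let H' : ∀ k, Submodule Γ(X, U) Γ(𝓝.N k, U) := fun k =>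
    LinearMap.ker (QC.appLinear (𝓝.last k) U)
  have hstab : ∀ i k x, x ∈ H' k → T i k x ∈ H' (k + 1) := by
    intro i k x hx
    change (𝓝.last (k + 1)).app U ((𝓝.T i k).app U x) = 0
    have h1 : (𝓝.last (k + 1)).app U ((𝓝.T i k).app U x) =
        (𝓝.T i (k + 1)).app U ((𝓝.last k).app U x) := by
      change ((𝓝.T i k ≫ 𝓝.T (Fin.last s) (k + 1)).app U) x =
        ((𝓝.T (Fin.last s) k ≫ 𝓝.T i (k + 1)).app U) x
      rw [𝓝.comm]
    have h2 : (𝓝.last k).app U x = 0 := hx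
    rw [h1, h2, map_zero]
  obtain ⟨k₁, hk₁⟩ := hN (fun k => Γ(𝓝.N k, U)) T hcomm k₀ hgen H' hstab
  refine ⟨k₁, fun k hk x => ?_⟩
  have hy : (kernel.ι (𝓝.last (k + 1))).app U x ∈ H' (k + 1) :=
    QC.kernel_ι_app_comp (𝓝.last (k + 1)) U x
  have h3 := hk₁ k hk _ hy
  rw [mem_iSup_map_iff] at h3
  obtain ⟨z, hz, hzs⟩ := h3
  have hc : ∀ i, ∃ t : Γ(𝓝.kerFam.N k, U), (kernel.ι (𝓝.last k)).app U t = z i := fun i =>
    QC.exists_kernel_section (𝓝.last k) U (z i) (hz i)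
  choose t ht using hc
  refine ⟨fun i => t i.castSucc, ?_⟩
  apply QC.mono_app (kernel.ι (𝓝.last (k + 1))) U
  have h4 : (kernel.ι (𝓝.last (k + 1))).app U
      (∑ i : Fin s, (𝓝.kerFam.T i k).app U (t i.castSucc)) =
      ∑ i : Fin s, (kernel.ι (𝓝.last (k + 1))).app U ((𝓝.kerFam.T i k).app U (t i.castSucc)) :=
    map_sum _ _ _
  refine hzs.trans (Eq.trans ?_ h4.symm)
  rw [Fin.sum_univ_castSucc]
  have h0 : T (Fin.last s) k (z (Fin.last s)) = 0 := hz (Fin.last s)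
  rw [h0, add_zero]
  refine Finset.sum_congr rfl fun i _ => ?_
  change (𝓝.τ i k).app U (z i.castSucc) =
    ((𝓝.kerFam.T i k ≫ kernel.ι (𝓝.last (k + 1))).app U) (t i.castSucc)
  rw [kerFam_T_ι, ← ht]
  rfl

/-- the kernel family is eventually generated. -/
lemma kerFam_evGen (hN : NoethHyp.{u}) [IsLocallyNoetherian X] (h : 𝓝.IsCoh)
    {𝒰 : Set X.Opens} (h𝒰 : ∀ U ∈ 𝒰, IsAffineOpen U) (hfin : 𝒰.Finite) {k₀ : ℕ}
    (hg : 𝓝.EvGen 𝒰 k₀) : ∃ k₁, 𝓝.kerFam.EvGen 𝒰 k₁ := by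
  have h1 : ∀ U ∈ 𝒰, ∃ k₁, ∀ k, k₁ ≤ k → ∀ x : Γ(𝓝.kerFam.N (k + 1), U),
      ∃ y : Fin s → Γ(𝓝.kerFam.N k, U), x = ∑ i, (𝓝.kerFam.T i k).app U (y i) := by
    intro U hU
    exact kerFam_evGen_aux hN h (h𝒰 U hU) (k₀ := k₀) (fun k hk V hV x => by
      obtain rfl : V = U := hV
      exact hg k hk V hU x)
  choose! f hf using h1
  obtain ⟨K, hK⟩ := (hfin.image f).bddAbove
  refine ⟨K, fun k hk U hU x => hf U hU k ?_ x⟩
  exact (hK (Set.mem_image_of_mem f hU)).trans hk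

end GFam

end Groth.Agent.LD.FF
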