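import Groth.Agent.Lib.Helper1.IntModel
import Groth.Agent.Lib.Lead.QC.FlatSpec
import Groth.Agent.Lib.Lead.QC.Flat
import Groth.Agent.Lib.Lead.QC.FinPres
import Groth.Agent.Lib.Lead.QC.FinType
import Groth.Agent.Lib.Lead.QC.Pullback
import Groth.Agent.Lib.Lead.QC.LocFree

/-! # Noetherian approximation of a flat finitely presented module (S9761) -/

set_option autoImplicit false
universe u
open CategoryTheory CategoryTheory.Limits AlgebraicGeometry TopologicalSpace Opposite TensorProduct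

namespace Groth.Agent.LD.FF

open Groth.Agent.LD.QC

/-- on an affine scheme, a quasi-coherent module is the pullback along `X ≅ Spec Γ(X)` of the
sheaf associated with its global sections. -/
theorem nonempty_pullback_isoSpec_tilde_iso {X : Scheme.{u}} [IsAffine X] (F : X.Modules)
    [F.IsQuasicoherent] (N : ModuleCat.{u} Γ(X, ⊤)) (ℓ : N ≃ₗ[Γ(X, ⊤)] Γ(F, ⊤)) :
    Nonempty ((Scheme.Modules.pullback X.isoSpec.hom).obj (tilde N) ≅ F) := by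
  have hX := isAffineOpen_top X
  let ℓ' : N ≃ₗ[Γ(X, ⊤)] ΓM (F.restrict hX.fromSpec) := ℓ ≪≫ₗ (affineΓEquiv F hX).symm
  haveI : (F.restrict hX.fromSpec).IsQuasicoherent := inferInstance
  haveI : IsIso (F.restrict hX.fromSpec).fromTildeΓ := by infer_instance
  let i0 := asIso (F.restrict hX.fromSpec).fromTildeΓ
  let i1 : tilde N ≅ F.restrict hX.fromSpec :=
    (tilde.functor Γ(X, ⊤)).mapIso ℓ'.toModuleIso ≪≫ i0
  let i2 : F.restrict hX.fromSpec ≅ (Scheme.Modules.pullback hX.fromSpec).obj F :=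
    (Scheme.Modules.restrictFunctorIsoPullback hX.fromSpec).app F
  have h : X.isoSpec.hom ≫ hX.fromSpec = 𝟙 X := by
    rw [IsAffineOpen.fromSpec_top]
    exact X.isoSpec.hom_inv_id
  exact ⟨(Scheme.Modules.pullback X.isoSpec.hom).mapIso (i1 ≪≫ i2) ≪≫
    (Scheme.Modules.pullbackComp X.isoSpec.hom hX.fromSpec).app F ≪≫
    (Scheme.Modules.pullbackCongr h).app F ≪≫ (Scheme.Modules.pullbackId X).app F⟩

lemma appLE_top_top {X S : Scheme.{u}} (f : X ⟶ S) (hUV : (⊤ : X.Opens) ≤ f ⁻¹ᵁ ⊤) :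
    f.appLE ⊤ ⊤ hUV = f.appTop := by
  rw [Scheme.Hom.appLE]
  exact (congrArg (fun φ => f.app ⊤ ≫ φ) (X.presheaf.map_id _)).trans (Category.comp_id _)

/-- **S9761.** -/
theorem s9761 {X S : Scheme.{u}} (f : X ⟶ S) [IsAffine X] [IsAffine S]
    [LocallyOfFinitePresentation f] (F : X.Modules) [F.IsQuasicoherent]
    (hF : F.IsFinitePresentation) (hfl : FlatMod.IsFlatOver f F) :
    ∃ (X₀ S₀ : Scheme.{u}) (f₀ : X₀ ⟶ S₀) (g : S ⟶ S₀) (g' : X ⟶ X₀), IsAffine X₀ ∧ IsAffine S₀ ∧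
      IsPullback g' f f₀ g ∧ Algebra.FiniteType ℤ Γ(S₀, ⊤) ∧ LocallyOfFiniteType f₀ ∧
      ∃ F₀ : X₀.Modules, Coh.IsCoh F₀ ∧ FlatMod.IsFlatOver f₀ F₀ ∧
        Nonempty ((Scheme.Modules.pullback g').obj F₀ ≅ F) := by
  have hUV : (⊤ : X.Opens) ≤ f ⁻¹ᵁ ⊤ := le_top
  have hXt := isAffineOpen_top X
  have hSt := isAffineOpen_top S
  letI alg : Algebra Γ(S, ⊤) Γ(X, ⊤) := (f.appLE ⊤ ⊤ hUV).hom.toAlgebra
  letI mR : Module Γ(S, ⊤) Γ(F, ⊤) := sectionsModuleOver f F hUV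
  haveI tow : IsScalarTower Γ(S, ⊤) Γ(X, ⊤) Γ(F, ⊤) := ⟨fun a b m => by
    change (f.appLE ⊤ ⊤ hUV a * b) • m = f.appLE ⊤ ⊤ hUV a • (b • m)
    rw [mul_smul]⟩
  haveI : Algebra.FinitePresentation Γ(S, ⊤) Γ(X, ⊤) := f.finitePresentation_appLE hSt hXt hUV
  haveI : Module.FinitePresentation Γ(X, ⊤) Γ(F, ⊤) :=
    finitePresentation_sections_of_isFinitePresentation F hF hXt
  haveI : Module.Flat Γ(S, ⊤) Γ(F, ⊤) :=
    flat_sections_of_isFlatOverAt f F hXt hSt hUV (fun x _ => hfl x)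
  obtain ⟨R₀, _, _, S₀, _, _, _, _, _, _, M₀, _, _, _, _, _, _, φ, hR₀, hS₀, hM₀, hflat, hpo, hbc⟩ :=
    Groth.Agent.H1.IntModel.exists_int_model Γ(S, ⊤) Γ(X, ⊤) Γ(F, ⊤)
  have hpo' : IsPushout (CommRingCat.ofHom (algebraMap R₀ Γ(S, ⊤)))
      (CommRingCat.ofHom (algebraMap R₀ S₀)) (f.appLE ⊤ ⊤ hUV)
      (CommRingCat.ofHom (algebraMap S₀ Γ(X, ⊤))) :=
    CommRingCat.isPushout_iff_isPushout.mpr hpo
  have sq1 := (isPullback_SpecMap_of_isPushout _ _ _ _ hpo').flip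
  have sq2 : IsPullback X.isoSpec.hom f (Spec.map (f.appLE ⊤ ⊤ hUV)) S.isoSpec.hom := by
    rw [appLE_top_top]
    exact IsPullback.of_horiz_isIso ⟨Scheme.isoSpec_hom_naturality f⟩
  have sq3 := sq2.paste_horiz sq1
  refine ⟨Spec (CommRingCat.of S₀), Spec (CommRingCat.of R₀),
    Spec.map (CommRingCat.ofHom (algebraMap R₀ S₀)),
    S.isoSpec.hom ≫ Spec.map (CommRingCat.ofHom (algebraMap R₀ Γ(S, ⊤))),
    X.isoSpec.hom ≫ Spec.map (CommRingCat.ofHom (algebraMap S₀ Γ(X, ⊤))),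
    inferInstance, inferInstance, sq3, ?_, ?_,
    tilde (R := CommRingCat.of S₀) (ModuleCat.of S₀ M₀ : ModuleCat.{u} S₀), ?_, ?_, ?_⟩
  · exact Algebra.FiniteType.equiv hR₀
      (Scheme.ΓSpecIso (CommRingCat.of R₀)).symm.commRingCatIsoToRingEquiv.toIntAlgEquiv
  · exact (HasRingHomProperty.Spec_iff (P := @LocallyOfFiniteType)).mpr
      ((RingHom.finiteType_algebraMap (A := R₀) (B := S₀)).mpr hS₀)
  · exact ⟨inferInstance, (spec_isFiniteType_tilde_iff _).2 hM₀⟩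
  · exact (isFlatOver_tilde_iff R₀ S₀ M₀).2 hflat
  · obtain ⟨e0⟩ := nonempty_extendScalars_iso S₀ Γ(X, ⊤) M₀
    let ℓ : ((ModuleCat.extendScalars.{u, u, u} (algebraMap S₀ Γ(X, ⊤))).obj
        (ModuleCat.of S₀ M₀)) ≃ₗ[Γ(X, ⊤)] Γ(F, ⊤) := e0.toLinearEquiv ≪≫ₗ hbc.equiv
    obtain ⟨e1⟩ := nonempty_pullback_isoSpec_tilde_iso F _ ℓ
    exact ⟨((Scheme.Modules.pullbackComp X.isoSpec.hom
        (Spec.map (CommRingCat.ofHom (algebraMap S₀ Γ(X, ⊤))))).app _).symm ≪≫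
      (Scheme.Modules.pullback X.isoSpec.hom).mapIso
        ((tildePullbackIso (CommRingCat.ofHom (algebraMap S₀ Γ(X, ⊤)))).app
          (ModuleCat.of S₀ M₀)) ≪≫ e1⟩

end Groth.Agent.LD.FF
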