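import Groth.Agent.Lib.Lead.FF.NoethApprox
import Groth.Agent.Lib.Lead.FF.IntModelNF

/-! # Noetherian approximation of a finitely presented module (S9760) -/

set_option autoImplicit false
universe u
open CategoryTheory CategoryTheory.Limits AlgebraicGeometry TopologicalSpace Opposite TensorProduct

namespace Groth.Agent.LD.FF

open Groth.Agent.LD.QC

/-- **S9760.** -/
theorem s9760 {X S : Scheme.{u}} (f : X ⟶ S) [IsAffine X] [IsAffine S]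
    [LocallyOfFinitePresentation f] (F : X.Modules) [F.IsQuasicoherent]
    (hF : F.IsFinitePresentation) :
    ∃ (X₀ S₀ : Scheme.{u}) (f₀ : X₀ ⟶ S₀) (g : S ⟶ S₀) (g' : X ⟶ X₀), IsAffine X₀ ∧ IsAffine S₀ ∧
      IsPullback g' f f₀ g ∧ Algebra.FiniteType ℤ Γ(S₀, ⊤) ∧ LocallyOfFiniteType f₀ ∧
      ∃ F₀ : X₀.Modules, Coh.IsCoh F₀ ∧
        Nonempty ((Scheme.Modules.pullback g').obj F₀ ≅ F) := by
  have hUV : (⊤ : X.Opens) ≤ f ⁻¹ᵁ ⊤ := le_top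
  have hXt := isAffineOpen_top X
  have hSt := isAffineOpen_top S
  letI alg : Algebra Γ(S, ⊤) Γ(X, ⊤) := (f.appLE ⊤ ⊤ hUV).hom.toAlgebra
  letI mR : Module Γ(S, ⊤) Γ(F, ⊤) := sectionsModuleOver f F hUV
  haveI tow : IsScalarTower Γ(S, ⊤) Γ(X, ⊤) Γ(F, ⊤) := ⟨fun a b m => by
    change (f.appLE ⊤ ⊤ hUV a * b) • m = f.appLE ⊤ ⊤ hUV a • (b • m)
    rw [mul_smul]⟩
  haveI : Algebra.FinitePresentation Γ(S, ⊤) Γ(X, ⊤) := f.finitePresentation_appLE hSt hXt hUV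
  haveI : Module.FinitePresentation Γ(X, ⊤) Γ(F, ⊤) :=
    finitePresentation_sections_of_isFinitePresentation F hF hXt
  obtain ⟨R₀, _, _, S₀, _, _, _, _, _, _, M₀, _, _, _, _, φ, hR₀, hS₀, hM₀, hpo, hbc⟩ :=
    Groth.Agent.LD.FF.IntModelNF.exists_int_model_nonflat Γ(S, ⊤) Γ(X, ⊤) Γ(F, ⊤)
  have hpo' : IsPushout (CommRingCat.ofHom (algebraMap R₀ Γ(S, ⊤)))
      (CommRingCat.ofHom (algebraMap R₀ S₀)) (f.appLE ⊤ ⊤ hUV)
      (CommRingCat.ofHom (algebraMap S₀ Γ(X, ⊤))) :=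
    CommRingCat.isPushout_iff_isPushout.mpr hpo
  have sq1 := (isPullback_SpecMap_of_isPushout _ _ _ _ hpo').flip
  have sq2 : IsPullback X.isoSpec.hom f (Spec.map (f.appLE ⊤ ⊤ hUV)) S.isoSpec.hom := by
    rw [appLE_top_top]
    exact IsPullback.of_horiz_isIso ⟨Scheme.isoSpec_hom_naturality f⟩
  have sq3 := sq2.paste_horiz sq1
  refine ⟨Spec (CommRingCat.of S₀), Spec (CommRingCat.of R₀),
    Spec.map (CommRingCat.ofHom (algebraMap R₀ S₀)),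
    S.isoSpec.hom ≫ Spec.map (CommRingCat.ofHom (algebraMap R₀ Γ(S, ⊤))),
    X.isoSpec.hom ≫ Spec.map (CommRingCat.ofHom (algebraMap S₀ Γ(X, ⊤))),
    inferInstance, inferInstance, sq3, ?_, ?_,
    tilde (R := CommRingCat.of S₀) (ModuleCat.of S₀ M₀ : ModuleCat.{u} S₀), ?_, ?_⟩
  · exact Algebra.FiniteType.equiv hR₀
      (Scheme.ΓSpecIso (CommRingCat.of R₀)).symm.commRingCatIsoToRingEquiv.toIntAlgEquiv
  · exact (HasRingHomProperty.Spec_iff (P := @LocallyOfFiniteType)).mpr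
      ((RingHom.finiteType_algebraMap (A := R₀) (B := S₀)).mpr hS₀)
  · exact ⟨inferInstance, (spec_isFiniteType_tilde_iff _).2 hM₀⟩
  · obtain ⟨e0⟩ := nonempty_extendScalars_iso S₀ Γ(X, ⊤) M₀
    let ℓ : ((ModuleCat.extendScalars.{u, u, u} (algebraMap S₀ Γ(X, ⊤))).obj
        (ModuleCat.of S₀ M₀)) ≃ₗ[Γ(X, ⊤)] Γ(F, ⊤) := e0.toLinearEquiv ≪≫ₗ hbc.equiv
    obtain ⟨e1⟩ := nonempty_pullback_isoSpec_tilde_iso F _ ℓ
    exact ⟨((Scheme.Modules.pullbackComp X.isoSpec.hom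
        (Spec.map (CommRingCat.ofHom (algebraMap S₀ Γ(X, ⊤))))).app _).symm ≪≫
      (Scheme.Modules.pullback X.isoSpec.hom).mapIso
        ((tildePullbackIso (CommRingCat.ofHom (algebraMap S₀ Γ(X, ⊤)))).app
          (ModuleCat.of S₀ M₀)) ≪≫ e1⟩

end Groth.Agent.LD.FF
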