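import Groth.Agent.Lib.Lead.FBC.SecBaseChange
import Groth.Agent.Lib.Lead.QC.PullInv
import Groth.Agent.Lib.Lead.QC.AmpleBasis

/-! # Injectivity of `Pic X → Pic X_B` for faithfully flat `A → B` and semi-local `Γ(X, O_X)`. -/

universe u
open CategoryTheory Limits Opposite TopologicalSpace AlgebraicGeometry TensorProduct

namespace Groth.Agent.LD.FF
open Groth.Agent.LD.QC Groth.Agent.LD.FBC

variable {A B : Type u} [CommRing A] [CommRing B] [Algebra A B]
variable {X' X : Scheme.{u}} (f : X ⟶ Spec (CommRingCat.of A)) (f' : X' ⟶ Spec (CommRingCat.of B))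
  (g' : X' ⟶ X)
  (h : IsPullback g' f' f (Spec.map (CommRingCat.ofHom (algebraMap A B))))

include h in
/-- the base change of a faithfully flat map of affine bases is surjective. -/
lemma surjective_of_isPullback [Module.FaithfullyFlat A B] : Function.Surjective g'.base := by
  have hfs : Flat (Spec.map (CommRingCat.ofHom (algebraMap A B))) ∧
      Surjective (Spec.map (CommRingCat.ofHom (algebraMap A B))) := by
    rw [flat_and_surjective_SpecMap_iff]
    exact (RingHom.faithfullyFlat_algebraMap_iff).mpr inferInstance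
  haveI := hfs.2
  haveI : Surjective g' := MorphismProperty.of_isPullback (P := @Surjective) h.flip inferInstance
  exact g'.surjective

include h in
/-- **`Pic X → Pic X_B` is injective** for `A → B` faithfully flat, `X` quasi-compact
quasi-separated over `A` with semi-local ring of global functions. -/
theorem nonempty_iso_unit_of_pullback [Module.FaithfullyFlat A B] [CompactSpace X]
    [QuasiSeparatedSpace X] (hsl : Finite (MaximalSpectrum Γ(X, ⊤))) (L : X.Modules)
    (hL : PicF.IsInvertible L)
    (ψ : (Scheme.Modules.pullback g').obj L ≅ unitMod X') : Nonempty (L ≅ unitMod X) := by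
  haveI := qc_of_isInvertible L hL
  -- the global basis of the pullback
  have he : IsBasisOver ((Scheme.Modules.pullback g').obj L) ⊤ (SecTwist.val ψ.inv ⊤) := by
    rw [← le_genLocus_iff_isBasisOver, le_genLocus_iff]
    intro V _
    exact app_bijective_of_isIso ψ.inv V
  have he₀ : Function.Bijective (fun a : Γ(X', g' ⁻¹ᵁ ⊤) =>
      a • (show Γ((Scheme.Modules.pullback g').obj L, g' ⁻¹ᵁ ⊤) from SecTwist.val ψ.inv ⊤)) := by
    have := he ⊤ le_rfl
    simp only [res_self] at this
    exact this
  obtain ⟨s, u, hu, hsu⟩ := exists_section_isUnit f f' g' h hsl L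
    (show Γ((Scheme.Modules.pullback g').obj L, g' ⁻¹ᵁ ⊤) from SecTwist.val ψ.inv ⊤) he₀
  have hu' : IsUnit (show Γ(X', ⊤) from u) := hu
  -- the section trivialises `L`
  have hval : SecTwist.val (pbHom g' (homOfSection L s)) ⊤ =
      (show Γ(X', ⊤) from u) • SecTwist.val ψ.inv ⊤ := by
    have h1 : SecTwist.val (pbHom g' (homOfSection L s)) ⊤ =
        pbSec g' L (show (⊤ : X'.Opens) ≤ g' ⁻¹ᵁ ⊤ from le_rfl)
          (SecTwist.val (homOfSection L s) ⊤) := val_pbHom g' (homOfSection L s) _
    have h2 : SecTwist.val (homOfSection L s) ⊤ = s := by rw [val_homOfSection, res_self]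
    have h3 : pbSec g' L (show (⊤ : X'.Opens) ≤ g' ⁻¹ᵁ ⊤ from le_rfl) s = unitSec g' L ⊤ s :=
      pbSec_le_rfl g' L ⊤ s
    rw [h2] at h1
    exact h1.trans (h3.trans hsu)
  have hb : IsBasisOver ((Scheme.Modules.pullback g').obj L) ⊤
      (SecTwist.val (pbHom g' (homOfSection L s)) ⊤) := by
    rw [hval]
    exact (he.smul_iff _).mpr hu'
  have h1 : (⊤ : X'.Opens) ≤ CohB1.genLocus _ (pbHom g' (homOfSection L s)) :=
    (le_genLocus_iff_isBasisOver _ _ _).mpr hb
  rw [genLocus_pbHom g' hL] at h1
  have h2 : (⊤ : X.Opens) ≤ CohB1.genLocus L (homOfSection L s) := by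
    intro x _
    obtain ⟨x', rfl⟩ := surjective_of_isPullback f f' g' h x
    exact h1 (Opens.mem_top x')
  rw [le_genLocus_iff] at h2
  haveI : IsIso (homOfSection L s) := by
    rw [Scheme.Modules.Hom.isIso_iff_isIso_app]
    intro W
    rw [ConcreteCategory.isIso_iff_bijective]
    exact h2 W le_top
  exact ⟨(asIso (homOfSection L s)).symm⟩

end Groth.Agent.LD.FF
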