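import Groth.Agent.Lib.Lead.FF.Transport

/-! # The Artin–Rees type statements for the cohomology of `I^n F` (kernel form `Formal2.idealPowMod`) -/

universe u
open CategoryTheory Limits Opposite TopologicalSpace AlgebraicGeometry

namespace Groth.Agent.LD.FF

variable {A : Type u} [CommRing A] {X : Scheme.{u}} [X.Over (Spec (CommRingCat.of A))]
variable [IsNoetherianRing A] (hN : NoethHyp.{u}) [IsLocallyNoetherian X] [CompactSpace X]
  (hfin : FinHyp X A) (I : Ideal A) (F : X.Modules) (hF : Coh.IsCoh F) (p : ℕ)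

include hN hfin hF in
/-- Stacks 02OA. -/
theorem ker_ι_eq_ker_incl : ∃ c : ℕ, ∀ (n : ℕ) (_ : c ≤ n),
    (Sheaf.H.map ((SheafOfModules.toSheaf _).map (Formal2.idealPowModι I n F)) p).ker =
      (Sheaf.H.map ((SheafOfModules.toSheaf _).map
        (Formal2.idealPowIncl I (Nat.sub_le n c) F)) p).ker := by
  obtain ⟨c, hc⟩ := exists_ker_eq hN hfin I F hF p
  refine ⟨c, fun n h => ?_⟩
  ext x
  obtain ⟨x', rfl⟩ := (θH I F p n).surjective x
  rw [AddMonoidHom.mem_ker, AddMonoidHom.mem_ker]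
  have h1 := HH_ι_θH I F p n x'
  have h2 := HH_incl_θH I F p (Nat.sub_le n c) x'
  rw [CL.HHmap_apply] at h1 h2
  rw [h1, h2]
  have h3 := hc n h
  constructor
  · intro hx
    have : x' ∈ LinearMap.ker (ιH F p (I ^ n)) := hx
    rw [h3] at this
    have h4 : up F p (I ^ n) (I ^ (n - c)) 1 (one_mul_mem (Nat.sub_le n c)) x' = 0 := this
    rw [h4, map_zero]
  · intro hx
    have h4 : up F p (I ^ n) (I ^ (n - c)) 1 (one_mul_mem (Nat.sub_le n c)) x' = 0 :=
      (θH I F p (n - c)).injective (hx.trans (map_zero _).symm)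
    have : x' ∈ LinearMap.ker (up F p (I ^ n) (I ^ (n - c)) 1 (one_mul_mem (Nat.sub_le n c))) := h4
    rw [← h3] at this
    exact this

include hN hfin hF in
/-- Stacks 02OB. -/
theorem range_incl_le : ∃ c : ℕ, ∀ (n m : ℕ), c ≤ n + m →
    Set.range (Sheaf.H.map ((SheafOfModules.toSheaf _).map
      (Formal2.idealPowIncl I (Nat.le_add_right n m) F)) p) ⊆
      SetLike.coe (I ^ (m - (c - n)) •
        (⊤ : Submodule A (Coh.HH X (Formal2.idealPowMod I n F) p))) := by
  obtain ⟨c, hc⟩ := exists_range_le hN hfin I F hF p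
  refine ⟨c, fun n m hnm => ?_⟩
  rintro _ ⟨x, rfl⟩
  obtain ⟨x', rfl⟩ := (θH I F p (n + m)).surjective x
  have h2 := HH_incl_θH I F p (Nat.le_add_right n m) x'
  rw [CL.HHmap_apply] at h2
  rw [h2]
  have h3 : up F p (I ^ (n + m)) (I ^ n) 1 (one_mul_mem (Nat.le_add_right n m)) x' ∈
      I ^ (m - (c - n)) • (⊤ : Submodule A (Coh.HH X (CohIII.idealMul (I ^ n) F) p)) :=
    hc n m hnm ⟨x', rfl⟩
  have h4 : (I ^ (m - (c - n)) • (⊤ : Submodule A (Coh.HH X (CohIII.idealMul (I ^ n) F) p))).map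
      (θH I F p n).toLinearMap ≤
      I ^ (m - (c - n)) • (⊤ : Submodule A (Coh.HH X (Formal2.idealPowMod I n F) p)) := by
    rw [Submodule.map_smul'']
    exact Submodule.smul_mono le_rfl le_top
  exact h4 ⟨_, h3, rfl⟩

end Groth.Agent.LD.FF
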