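import Groth.Agent.Lib.Lead.FF.Filt2
import Groth.Prelude.Def_Formal2

/-! # Transport between `I^n F` as an image (`CohIII.idealMul`) and as a kernel
(`Formal2.idealPowMod`), and the short exact sequences `0 → I^n F → F → F/I^n F → 0` -/

universe u
open CategoryTheory Limits Opposite TopologicalSpace AlgebraicGeometry

namespace Groth.Agent.LD.FF

variable {A : Type u} [CommRing A] {X : Scheme.{u}} [X.Over (Spec (CommRingCat.of A))]
variable (I : Ideal A) (F : X.Modules)

/-- the identification of the two versions of `I^n F`. -/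
noncomputable def θ (n : ℕ) : CohIII.idealMul (I ^ n) F ≅ Formal2.idealPowMod I n F :=
  (Abelian.imageIsoImage (Formal.smulFamily (I ^ n) F)).symm

@[reassoc]
lemma θ_hom_ι (n : ℕ) :
    (θ I F n).hom ≫ Formal2.idealPowModι I n F = CohIII.idealMulι (I ^ n) F := by
  have h := Abelian.imageIsoImage_hom_comp_image_ι (Formal.smulFamily (I ^ n) F)
  have h2 : (Abelian.imageIsoImage (Formal.smulFamily (I ^ n) F)).inv ≫
      kernel.ι (cokernel.π (Formal.smulFamily (I ^ n) F)) =
      Limits.image.ι (Formal.smulFamily (I ^ n) F) := by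
    rw [← h, Iso.inv_hom_id_assoc]
  exact h2

@[reassoc]
lemma θ_inv_ι (n : ℕ) :
    (θ I F n).inv ≫ CohIII.idealMulι (I ^ n) F = Formal2.idealPowModι I n F := by
  rw [← θ_hom_ι, Iso.inv_hom_id_assoc]

lemma idealPowIncl_ι {m n : ℕ} (h : m ≤ n) :
    Formal2.idealPowIncl I h F ≫ Formal2.idealPowModι I m F = Formal2.idealPowModι I n F := by
  unfold Formal2.idealPowIncl
  exact kernel.lift_ι _ _ _

lemma idealPowIncl_eq {m n : ℕ} (h : m ≤ n) :
    Formal2.idealPowIncl I h F =
      (θ I F n).inv ≫ mulTo (I ^ n) (I ^ m) F 1 (one_mul_mem h) ≫ (θ I F m).hom := by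
  rw [← cancel_mono (Formal2.idealPowModι I m F), idealPowIncl_ι, Category.assoc, Category.assoc,
    θ_hom_ι, mulTo_ι, smulMod_one, Category.comp_id, θ_inv_ι]

/-- the short exact sequence `0 → I^n F → F → F/I^n F → 0`. -/
noncomputable abbrev sesPow (n : ℕ) : ShortComplex X.Modules :=
  ShortComplex.mk (Formal2.idealPowModι I n F) (Formal.modPowπ I n F) (kernel.condition _)

lemma sesPow_shortExact (n : ℕ) : (sesPow I F n).ShortExact where
  exact := ShortComplex.exact_of_f_is_kernel _ (kernelIsKernel (Formal.modPowπ I n F))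
  mono_f := inferInstanceAs (Mono (kernel.ι (Formal.modPowπ I n F)))
  epi_g := by
    change Epi (cokernel.π (Formal.smulFamily (I ^ n) F))
    infer_instance

/-- the morphism of short exact sequences `sesPow n ⟶ sesPow m` for `m ≤ n`. -/
noncomputable def sesPowMap {m n : ℕ} (h : m ≤ n) (ψ : Formal.modPow I n F ⟶ Formal.modPow I m F)
    (hψ : Formal.modPowπ I n F ≫ ψ = Formal.modPowπ I m F) : sesPow I F n ⟶ sesPow I F m where
  τ₁ := Formal2.idealPowIncl I h F
  τ₂ := 𝟙 F
  τ₃ := ψ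
  comm₁₂ := by
    change Formal2.idealPowIncl I h F ≫ Formal2.idealPowModι I m F =
      Formal2.idealPowModι I n F ≫ 𝟙 F
    rw [idealPowIncl_ι, Category.comp_id]
  comm₂₃ := by
    change 𝟙 F ≫ Formal.modPowπ I m F = Formal.modPowπ I n F ≫ ψ
    rw [hψ, Category.id_comp]

variable (p : ℕ)

/-- the linear equivalence on cohomology induced by `θ`. -/
noncomputable def θH (n : ℕ) :
    Coh.HH X (CohIII.idealMul (I ^ n) F) p ≃ₗ[A] Coh.HH X (Formal2.idealPowMod I n F) p :=
  LinearEquiv.ofLinear (CL.HHmap A (θ I F n).hom p) (CL.HHmap A (θ I F n).inv p)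
    (by rw [← CL.HHmap_comp, Iso.inv_hom_id, CL.HHmap_id])
    (by rw [← CL.HHmap_comp, Iso.hom_inv_id, CL.HHmap_id])

lemma HH_ι_θH (n : ℕ) (x : Coh.HH X (CohIII.idealMul (I ^ n) F) p) :
    CL.HHmap A (Formal2.idealPowModι I n F) p (θH I F p n x) = ιH F p (I ^ n) x := by
  change CL.HHmap A (Formal2.idealPowModι I n F) p (CL.HHmap A (θ I F n).hom p x) = _
  rw [← CL.HHmap_comp_apply, θ_hom_ι]
  rfl

lemma HH_incl_θH {m n : ℕ} (h : m ≤ n) (x : Coh.HH X (CohIII.idealMul (I ^ n) F) p) :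
    CL.HHmap A (Formal2.idealPowIncl I h F) p (θH I F p n x) =
      θH I F p m (up F p (I ^ n) (I ^ m) 1 (one_mul_mem h) x) := by
  change CL.HHmap A (Formal2.idealPowIncl I h F) p (CL.HHmap A (θ I F n).hom p x) =
    CL.HHmap A (θ I F m).hom p (CL.HHmap A (mulTo (I ^ n) (I ^ m) F 1 (one_mul_mem h)) p x)
  rw [← CL.HHmap_comp_apply, ← CL.HHmap_comp_apply, idealPowIncl_eq, Iso.hom_inv_id_assoc]

end Groth.Agent.LD.FF
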